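import Mathlib

/-!
An automorphism of a finite field fixing the fixed field of `σ` is a power of `σ`.
-/

set_option autoImplicit false

namespace Cfsg.Lib.Balance

theorem mem_zpowers_of_fix {F K : Type*} [Field F] [Finite F] [Field K] {σ τ : F ≃+* F} {e : K →+* F}
    (hfix : ∀ x, σ x = x ↔ x ∈ Set.range e) (hτ : ∀ a, τ (e a) = e a) : τ ∈ Subgroup.zpowers σ := by
  classical
  have : Finite (F ≃+* F) := Finite.of_injective (fun e => (e : F → F)) DFunLike.coe_injective
  let S : Subgroup (F ≃+* F) := Subgroup.zpowers σ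
  have : Fintype S := Fintype.ofFinite S
  let φA : F →ₐ[FixedPoints.subfield S F] F :=
    { (τ : F →+* F) with
      commutes' := fun l => by
        obtain ⟨a, ha⟩ := (hfix (l : F)).1 (l.2 ⟨σ, Subgroup.mem_zpowers σ⟩)
        show τ (l : F) = (l : F)
        rw [← ha]; exact hτ a }
  obtain ⟨k, hk⟩ := (FixedPoints.toAlgHom_bijective S F).2 φA
  have h : τ = (k : F ≃+* F) := RingEquiv.ext fun x => (DFunLike.congr_fun hk x).symm
  rw [h]
  exact k.2

end Cfsg.Lib.Balance
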