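import Cfsg.Agent.Components.Cores
import Cfsg.Prelude.Def_KGroupFacts

/-!
A criterion for the failure of local balance at an automorphism of prime order whose fixed points have a simple
normal subgroup with centraliser generated by the automorphism.
-/

set_option autoImplicit false
set_option linter.unusedSectionVars false
set_option linter.style.haveILetI false

namespace Cfsg.Lib.Balance

variable {T : Type*} [Group T]

/-- Fixed points as inner automorphisms. -/
def fixInn (x : MulAut T) : Subgroup (MulAut T) := Cfsg.Inn T ⊓ Subgroup.centralizer {x}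

/-- A nontrivial group without nontrivial normal subgroups of order prime to `p`, apart from the case that its
order is prime to `p`. -/
def NoCore (p : ℕ) (H : Type*) [Group H] : Prop :=
  Nontrivial H ∧ (p ∣ Nat.card H → ∀ N : Subgroup H, N.Normal → (Nat.card N).Coprime p → N = ⊥)

theorem noCore_of_simple {p : ℕ} [Fact p.Prime] {H : Type*} [Group H] (h : IsSimpleGroup H) : NoCore p H := by
  refine ⟨h.toNontrivial, fun hp N hN hc => hN.eq_bot_or_eq_top.resolve_right fun e => ?_⟩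
  subst e
  rw [Subgroup.card_top] at hc
  exact (Fact.out : p.Prime).ne_one (Nat.eq_one_of_dvd_coprimes hc hp dvd_rfl)

theorem NoCore.equiv {p : ℕ} {H H' : Type*} [Group H] [Group H'] (h : NoCore p H) (e : H ≃* H') : NoCore p H' := by
  haveI := h.1
  refine ⟨e.symm.toEquiv.nontrivial, fun hp N hN hc => ?_⟩
  have h1 := h.2 (Nat.card_congr e.toEquiv ▸ hp) _ (hN.comap e.toMonoidHom) (by
    rwa [show Nat.card (N.comap e.toMonoidHom) = Nat.card N from Nat.card_congr ((e.toEquiv).subtypeEquiv fun _ => Iff.rfl)])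
  refine (Subgroup.eq_bot_iff_forall _).2 fun x hx => ?_
  have h2 : e.symm x ∈ N.comap e.toMonoidHom := by simpa using hx
  rw [h1, Subgroup.mem_bot] at h2
  simpa using congrArg e h2

/-- The data used by the criterion. -/
def Data (p : ℕ) (x : MulAut T) : Prop :=
  ∃ K : Subgroup (MulAut T), K ≤ fixInn x ∧ NoCore p K ∧ (∀ c ∈ fixInn x, ∀ k ∈ K, c * k * c⁻¹ ∈ K) ∧
    (p ∣ Nat.card ↥(fixInn x) → p ∣ Nat.card K) ∧
    Subgroup.centralizer (K : Set (MulAut T)) ≤ Subgroup.zpowers x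

theorem conj_mem_inn (c : MulAut T) {k : MulAut T} (hk : k ∈ Cfsg.Inn T) : c * k * c⁻¹ ∈ Cfsg.Inn T := by
  obtain ⟨t, rfl⟩ := hk
  exact ⟨c t, MulEquiv.ext fun z => by simp [MulAut.mul_apply]⟩

theorem mem_fixInn_conj {α x c : MulAut T} (hc : c ∈ fixInn x) : α * c * α⁻¹ ∈ fixInn (α * x * α⁻¹) := by
  refine ⟨conj_mem_inn α hc.1, Subgroup.mem_centralizer_singleton_iff.2 ?_⟩
  have h := Subgroup.mem_centralizer_singleton_iff.1 hc.2
  calc α * c * α⁻¹ * (α * x * α⁻¹) = α * (c * x) * α⁻¹ := by group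
    _ = _ := by rw [h]; group

theorem fixInn_map (α x : MulAut T) :
    (fixInn x).map (MulAut.conj α).toMonoidHom = fixInn (α * x * α⁻¹) := by
  ext y
  constructor
  · rintro ⟨c, hc, rfl⟩
    exact mem_fixInn_conj hc
  · intro hy
    refine ⟨α⁻¹ * y * α⁻¹⁻¹, ?_, by show α * (α⁻¹ * y * α⁻¹⁻¹) * α⁻¹ = y; group⟩
    have := mem_fixInn_conj (α := α⁻¹) hy
    rwa [show α⁻¹ * (α * x * α⁻¹) * α⁻¹⁻¹ = x by group] at this

theorem Data.conj {p : ℕ} {x : MulAut T} (h : Data p x) (α : MulAut T) : Data p (α * x * α⁻¹) := by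
  obtain ⟨K, hK, hs, hn, hp, hc⟩ := h
  let e := (MulAut.conj α).toMonoidHom
  have hinj : Function.Injective e := (MulAut.conj α).injective
  let eK : K ≃* K.map e := K.equivMapOfInjective e hinj
  refine ⟨K.map e, (fixInn_map α x) ▸ Subgroup.map_mono hK,
    hs.equiv eK, ?_, fun h => ?_, fun y hy => ?_⟩
  · intro c hc' k hk
    rw [← fixInn_map] at hc'
    obtain ⟨c', hc'', rfl⟩ := hc'
    obtain ⟨k', hk', rfl⟩ := hk
    exact ⟨c' * k' * c'⁻¹, hn c' hc'' k' hk', by rw [map_mul, map_mul, map_inv]⟩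
  · rw [Nat.card_congr eK.symm.toEquiv]
    refine hp ?_
    rwa [← fixInn_map, ← Nat.card_congr ((fixInn x).equivMapOfInjective _ (MulAut.conj α).injective).toEquiv] at h
  · have h1 : α⁻¹ * y * α ∈ Subgroup.zpowers x := hc (Subgroup.mem_centralizer_iff.2 fun k hk => by
      have h2 := Subgroup.mem_centralizer_iff.1 hy (α * k * α⁻¹) ⟨k, hk, rfl⟩
      calc k * (α⁻¹ * y * α) = α⁻¹ * (α * k * α⁻¹ * y) * α := by group
        _ = _ := by rw [h2]; group)
    obtain ⟨i, hi⟩ := h1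
    refine ⟨i, ?_⟩
    show (α * x * α⁻¹) ^ i = y
    rw [conj_zpow, show x ^ i = α⁻¹ * y * α from hi]
    group

theorem core_map {G : Type*} [Group G] [Finite G] (C : Subgroup G) (p : ℕ) :
    (Cfsg.pPrimeCore p ↥C).map C.subtype ≤ C ∧
      (Nat.card ↥((Cfsg.pPrimeCore p ↥C).map C.subtype)).Coprime p ∧
      ∀ c ∈ C, ∀ r ∈ (Cfsg.pPrimeCore p ↥C).map C.subtype, c * r * c⁻¹ ∈ (Cfsg.pPrimeCore p ↥C).map C.subtype := by
  refine ⟨Subgroup.map_subtype_le _, ?_, ?_⟩
  · rw [Subgroup.card_map_of_injective C.subtype_injective]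
    exact Cfsg.Lib.Components.coprime_card_pPrimeCore p
  · rintro c hc _ ⟨r, hr, rfl⟩
    exact ⟨⟨c, hc⟩ * r * ⟨c, hc⟩⁻¹, (inferInstance : (Cfsg.pPrimeCore p ↥C).Normal).conj_mem r hr _, rfl⟩

/-- The criterion. -/
theorem balance [Finite T] (hinj : Function.Injective (MulAut.conj : T →* MulAut T)) {A : Subgroup (MulAut T)}
    (hinn : ∀ k : T, MulAut.conj k ∈ A) {p : ℕ} [Fact p.Prime] {x : MulAut T} (hord : orderOf x = p)
    (h : Data p x) :
    Cfsg.pPrimeCore p ↥(A ⊓ Subgroup.centralizer {x}) ≠ ⊥ ↔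
      Nat.Coprime p (Nat.card ↥(MonoidHom.eqLocus x.toMonoidHom (MonoidHom.id T))) := by
  classical
  haveI : Finite (MulAut T) := Finite.of_injective (fun e => (e : T → T)) DFunLike.coe_injective
  obtain ⟨K, hK, hs, hn, hdvd, hcent⟩ := h
  set C := A ⊓ Subgroup.centralizer {x} with hC
  have hle : fixInn x ≤ C := fun c hc => ⟨by obtain ⟨t, rfl⟩ := hc.1; exact hinn t, hc.2⟩
  have hmap : (MonoidHom.eqLocus x.toMonoidHom (MonoidHom.id T)).map MulAut.conj = fixInn x := by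
    have key : ∀ t : T, MulAut.conj t * x = x * MulAut.conj t ↔ x t = t := fun t => by
      have e : x * MulAut.conj t * x⁻¹ = MulAut.conj (x t) := MulEquiv.ext fun z => by simp [MulAut.mul_apply]
      constructor
      · intro h
        refine hinj ?_
        rw [← e, ← h, mul_inv_cancel_right]
      · intro h
        rw [h] at e
        exact (mul_inv_eq_iff_eq_mul.1 e).symm
    ext y
    constructor
    · rintro ⟨t, ht, rfl⟩
      exact ⟨⟨t, rfl⟩, Subgroup.mem_centralizer_singleton_iff.2 ((key t).2 ht)⟩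
    · rintro ⟨⟨t, rfl⟩, hc⟩
      exact ⟨t, (key t).1 (Subgroup.mem_centralizer_singleton_iff.1 hc), rfl⟩
  have hcard : Nat.card ↥(MonoidHom.eqLocus x.toMonoidHom (MonoidHom.id T)) = Nat.card ↥(fixInn x) := by
    rw [← hmap]
    exact Nat.card_congr (Subgroup.equivMapOfInjective _ _ hinj).toEquiv
  rw [hcard]
  constructor
  · intro hne
    by_contra hnc
    have hpK := hdvd ((Nat.Prime.dvd_iff_not_coprime Fact.out).2 hnc)
    refine hne ?_
    suffices main : ∀ R : Subgroup (MulAut T), R ≤ C → (Nat.card R).Coprime p →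
        (∀ c ∈ C, ∀ r ∈ R, c * r * c⁻¹ ∈ R) → ∀ r ∈ R, r = 1 by
      obtain ⟨h1, h2, h3⟩ := core_map C p
      rw [eq_bot_iff]
      exact fun c hc => Subgroup.mem_bot.2 (Subtype.ext (main _ h1 h2 h3 _ ⟨c, hc, rfl⟩))
    intro R hRC hRp hRn
    have hzp : ∀ r ∈ R, r ∈ Subgroup.zpowers x → r = 1 := fun r hr hz => by
      have h1 : orderOf r ∣ p := hord ▸ orderOf_dvd_of_mem_zpowers hz
      have h2 : orderOf r ∣ Nat.card R := by
        rw [← Subgroup.orderOf_mk r hr]
        exact orderOf_dvd_natCard _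
      exact orderOf_eq_one_iff.1 (Nat.eq_one_of_dvd_coprimes hRp h2 h1)
    -- the part inside the inner automorphisms
    have hRK : R ⊓ K = ⊥ := by
      have hnorm : ((R ⊓ K).subgroupOf K).Normal := ⟨fun n hn' g => by
        obtain ⟨h1, h2⟩ := hn'
        exact ⟨hRn _ (hle (hK g.2)) _ h1, (g * n * g⁻¹).2⟩⟩
      have h := hs.2 hpK _ hnorm (Nat.Coprime.coprime_dvd_left (by
        rw [Nat.card_congr (Subgroup.subgroupOfEquivOfLe (inf_le_right : R ⊓ K ≤ K)).toEquiv]
        exact Subgroup.card_dvd_of_le inf_le_left) hRp)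
      rwa [Subgroup.subgroupOf_eq_bot, disjoint_iff, inf_assoc, inf_idem] at h
    have hN : ∀ r ∈ R, r ∈ Cfsg.Inn T → r = 1 := fun r hr hi => by
      have hrC : r ∈ fixInn x := ⟨hi, (hRC hr).2⟩
      refine hzp r hr (hcent (Subgroup.mem_centralizer_iff.2 fun k hk => ?_))
      have h1 : k * r * k⁻¹ * r⁻¹ ∈ R ⊓ K := ⟨mul_mem (hRn k (hle (hK hk)) r hr) (R.inv_mem hr), by
        rw [show k * r * k⁻¹ * r⁻¹ = k * (r * k⁻¹ * r⁻¹) by group]
        exact mul_mem hk (hn r hrC _ (inv_mem hk))⟩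
      rw [hRK, Subgroup.mem_bot] at h1
      exact mul_inv_eq_iff_eq_mul.1 (mul_inv_eq_one.1 h1)
    intro r hr
    refine hzp r hr (hcent (Subgroup.mem_centralizer_iff.2 fun k hk => ?_))
    have h1 : k * r * k⁻¹ * r⁻¹ = 1 := hN _ (mul_mem (hRn k (hle (hK hk)) r hr) (inv_mem hr)) (by
        rw [show k * r * k⁻¹ * r⁻¹ = k * (r * k⁻¹ * r⁻¹) by group]
        exact mul_mem (hK hk).1 (conj_mem_inn r (inv_mem (hK hk).1)))
    exact mul_inv_eq_iff_eq_mul.1 (mul_inv_eq_one.1 h1)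
  · intro hc hbot
    haveI : ((fixInn x).subgroupOf C).Normal := ⟨fun n hn' g =>
      ⟨conj_mem_inn _ hn'.1, Subgroup.mul_mem _ (Subgroup.mul_mem _ g.2.2 n.2.2) (Subgroup.inv_mem _ g.2.2)⟩⟩
    have h1 : (fixInn x).subgroupOf C ≤ Cfsg.pPrimeCore p ↥C := Cfsg.Lib.Components.le_pPrimeCore (by
      rw [Nat.card_congr (Subgroup.subgroupOfEquivOfLe hle).toEquiv]; exact hc.symm)
    rw [hbot, le_bot_iff, Subgroup.subgroupOf_eq_bot] at h1
    haveI := hs.1
    obtain ⟨k, hk⟩ := exists_ne (1 : K)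
    exact hk (Subtype.ext (Subgroup.mem_bot.1 (h1.le_bot ⟨hK k.2, hle (hK k.2)⟩)))

end Cfsg.Lib.Balance
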