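import Cfsg.Agent.Known.Balance.Lines
import Cfsg.Agent.Known.Balance.Generic

/-!
Special orthogonal groups in odd characteristic modulo scalars have no nontrivial normal subgroup of odd order.
-/

set_option autoImplicit false
set_option linter.unusedSectionVars false
set_option linter.style.haveILetI false

namespace Cfsg.Lib.Balance

open Matrix

universe u

variable {k : Type u} [Field k] {n : ℕ} (G : Matrix (Fin n) (Fin n) k)

local notation "Mn" => Matrix (Fin n) (Fin n) k
local notation "GLn" => GL (Fin n) k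

/-- The isometries of a matrix form. -/
def orthGrp : Subgroup GLn where
  carrier := {g | (g : Mn)ᵀ * G * (g : Mn) = G}
  one_mem' := by simp
  mul_mem' {g h} hg hh := by
    simp only [Set.mem_setOf_eq] at hg hh ⊢
    rw [Units.val_mul, transpose_mul, show (h : Mn)ᵀ * (g : Mn)ᵀ * G * ((g : Mn) * (h : Mn)) =
      (h : Mn)ᵀ * ((g : Mn)ᵀ * G * (g : Mn)) * (h : Mn) by simp only [Matrix.mul_assoc], hg, hh]
  inv_mem' {g} hg := by
    simp only [Set.mem_setOf_eq] at hg ⊢
    conv_lhs => rw [← hg]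
    rw [show ((g⁻¹ : GLn) : Mn)ᵀ * ((g : Mn)ᵀ * G * (g : Mn)) * ((g⁻¹ : GLn) : Mn) =
      ((g : Mn) * ((g⁻¹ : GLn) : Mn))ᵀ * G * ((g : Mn) * ((g⁻¹ : GLn) : Mn)) by
        simp only [transpose_mul, Matrix.mul_assoc], Units.mul_inv, transpose_one, Matrix.one_mul, Matrix.mul_one]

/-- The isometries of determinant one. -/
noncomputable def soGrp : Subgroup GLn := orthGrp G ⊓ (GeneralLinearGroup.det : GLn →* kˣ).ker

variable {G}

theorem mem_orthGrp {g : GLn} : g ∈ orthGrp G ↔ (g : Mn)ᵀ * G * (g : Mn) = G := Iff.rfl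

theorem bil_isometry {g : GLn} (hg : g ∈ orthGrp G) (x y : Fin n → k) :
    bil G ((g : Mn) *ᵥ x) ((g : Mn) *ᵥ y) = bil G x y := by
  rw [bil, bil]
  conv_rhs => rw [← mem_orthGrp.1 hg]
  rw [← mulVec_mulVec, ← mulVec_mulVec, dotProduct_mulVec x (g : Mn)ᵀ, vecMul_transpose]

theorem exists_orth (hd : G.det ≠ 0) {M : Mn} (hM : Mᵀ * G * M = G) : ∃ g ∈ orthGrp G, (g : Mn) = M := by
  have h : M.det ≠ 0 := fun h0 => hd (by
    have := congrArg Matrix.det hM
    rw [det_mul, h0, mul_zero] at this
    exact this.symm)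
  exact ⟨GeneralLinearGroup.mkOfDetNeZero M h, hM, rfl⟩

/-- The action on subspaces. -/
@[reducible] def actSub : MulAction GLn (Submodule k (Fin n → k)) where
  smul g W := W.map (Matrix.toLin' (g : Mn))
  one_smul W := by
    show W.map (Matrix.toLin' ((1 : GLn) : Mn)) = W
    rw [Units.val_one, Matrix.toLin'_one, Submodule.map_id]
  mul_smul g h W := by
    show W.map (Matrix.toLin' ((g * h : GLn) : Mn)) =
      (W.map (Matrix.toLin' (h : Mn))).map (Matrix.toLin' (g : Mn))
    rw [← Submodule.map_comp, ← Matrix.toLin'_mul, Units.val_mul]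

attribute [local instance] actSub

theorem smul_span (g : GLn) (v : Fin n → k) :
    g • Submodule.span k {v} = Submodule.span k {(g : Mn) *ᵥ v} := by
  show (Submodule.span k {v}).map (Matrix.toLin' (g : Mn)) = _
  rw [Submodule.map_span, Set.image_singleton, Matrix.toLin'_apply]

theorem span_smul_eq {v : Fin n → k} {c : k} (hc : c ≠ 0) : Submodule.span k {c • v} = Submodule.span k {v} :=
  Submodule.span_singleton_smul_eq (IsUnit.mk0 c hc) v

theorem center_fix {z : GLn} (hz : z ∈ Subgroup.center GLn) (v : Fin n → k) :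
    z • Submodule.span k {v} = Submodule.span k {v} := by
  obtain ⟨c, hc⟩ := GeneralLinearGroup.mem_center_iff_val_mem_range_scalar.1 hz
  rw [smul_span, ← hc, scalar_apply, ← smul_one_eq_diagonal, smul_mulVec, one_mulVec]
  rcases eq_or_ne c 0 with rfl | hc0
  · rcases eq_or_ne v 0 with rfl | hv
    · simp
    · exfalso
      have h := z.mul_inv
      rw [← hc, map_zero, zero_mul] at h
      have h1 := congrArg (fun M : Mn => M *ᵥ v) h
      simp only [zero_mulVec, one_mulVec] at h1
      exact hv h1.symm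
  · exact span_smul_eq hc0

theorem exists_diag [Finite k] (h2 : (2 : k) ≠ 0) (hG : Gᵀ = G) (hd : G.det ≠ 0) :
    ∃ (P : GLn) (β : Fin n → k), (∀ i, β i ≠ 0) ∧ (P : Mn)ᵀ * G * (P : Mn) = Matrix.diagonal β := by
  classical
  haveI : Invertible (2 : k) := invertibleOfNonzero h2
  obtain ⟨b, hb⟩ := LinearMap.BilinForm.exists_orthogonal_basis (B := Matrix.toBilin' G)
    ⟨fun x y => by rw [Matrix.toBilin'_apply', Matrix.toBilin'_apply']; exact bil_comm hG x y⟩
  let e : Fin n ≃ Fin (Module.finrank k (Fin n → k)) := finCongr (Module.finrank_fin_fun k).symm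
  let M : Mn := Matrix.of fun i j => b (e j) i
  have hM : M.det ≠ 0 := by
    rw [← isUnit_iff_ne_zero, ← Matrix.isUnit_iff_isUnit_det, ← Matrix.linearIndependent_cols_iff_isUnit]
    exact b.linearIndependent.comp _ e.injective
  have hent : ∀ i j, (Mᵀ * G * M) i j = bil G (b (e i)) (b (e j)) := fun i j => by
    simp only [Matrix.mul_apply, bil, dotProduct, mulVec, M, transpose_apply, Matrix.of_apply, Finset.sum_mul,
      Finset.mul_sum, mul_assoc]
    rw [Finset.sum_comm]
  have hdiag : Mᵀ * G * M = Matrix.diagonal fun i => bil G (b (e i)) (b (e i)) := by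
    ext i j
    rw [hent]
    rcases eq_or_ne i j with rfl | hij
    · rw [diagonal_apply_eq]
    · rw [diagonal_apply_ne _ hij]
      have := hb (show e i ≠ e j from e.injective.ne hij)
      simpa [Function.onFun, Matrix.toBilin'_apply'] using this
  refine ⟨GeneralLinearGroup.mkOfDetNeZero M hM, _, fun i h0 => ?_, hdiag⟩
  have h1 : (Mᵀ * G * M).det = 0 := by
    rw [hdiag, det_diagonal]
    exact Finset.prod_eq_zero (Finset.mem_univ i) h0
  rw [det_mul, det_mul, det_transpose, mul_eq_zero, mul_eq_zero] at h1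
  rcases h1 with (h1 | h1) | h1
  · exact hM h1
  · exact hd h1
  · exact hM h1

/-- Diagonal sign matrices. -/
def signDiag : (Fin n → ℤˣ) →* GLn :=
  MonoidHom.toHomUnits
    { toFun := fun a => Matrix.diagonal fun i => ((a i : ℤ) : k)
      map_one' := by simp
      map_mul' := fun a b => by rw [diagonal_mul_diagonal]; congr 1; funext i; simp }

/-- Sign changes in an orthogonal basis. -/
def signs (P : GLn) : (Fin n → ℤˣ) →* GLn := (MulAut.conj P).toMonoidHom.comp signDiag

theorem coe_signs (P : GLn) (a : Fin n → ℤˣ) :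
    ((signs P a : GLn) : Mn) = (P : Mn) * Matrix.diagonal (fun i => ((a i : ℤ) : k)) * ((P⁻¹ : GLn) : Mn) := rfl

theorem signs_orth {P : GLn} {β : Fin n → k} (hP : (P : Mn)ᵀ * G * (P : Mn) = Matrix.diagonal β)
    (a : Fin n → ℤˣ) : signs P a ∈ orthGrp G := by
  have e : G = ((P⁻¹ : GLn) : Mn)ᵀ * Matrix.diagonal β * ((P⁻¹ : GLn) : Mn) := by
    rw [← hP, show ((P⁻¹ : GLn) : Mn)ᵀ * ((P : Mn)ᵀ * G * (P : Mn)) * ((P⁻¹ : GLn) : Mn) =
      ((P : Mn) * ((P⁻¹ : GLn) : Mn))ᵀ * G * ((P : Mn) * ((P⁻¹ : GLn) : Mn)) by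
        simp only [transpose_mul, Matrix.mul_assoc], Units.mul_inv, transpose_one, Matrix.one_mul, Matrix.mul_one]
  rw [mem_orthGrp, coe_signs, transpose_mul, transpose_mul, diagonal_transpose]
  set D := Matrix.diagonal (fun i => ((a i : ℤ) : k))
  rw [show ((P⁻¹ : GLn) : Mn)ᵀ * (D * (P : Mn)ᵀ) * G * ((P : Mn) * D * ((P⁻¹ : GLn) : Mn)) =
    ((P⁻¹ : GLn) : Mn)ᵀ * (D * ((P : Mn)ᵀ * G * (P : Mn)) * D) * ((P⁻¹ : GLn) : Mn) by
      simp only [Matrix.mul_assoc], hP, diagonal_mul_diagonal, diagonal_mul_diagonal]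
  conv_rhs => rw [e]
  congr 3
  funext i
  rcases Int.units_eq_one_or (a i) with h | h <;> simp [h]

/-- An odd number of points permuted by the sign changes includes a fixed one, which is impossible. -/
theorem not_all_odd [Finite k] (h2 : (2 : k) ≠ 0) (hG : Gᵀ = G) (hd : G.det ≠ 0)
    {Δ : Set (Submodule k (Fin n → k))}
    (hΔ : ∀ W, W ∈ Δ ↔ ∃ v : Fin n → k, v ≠ 0 ∧ bil G v v = 0 ∧ W = Submodule.span k {v}) :
    ¬ Odd Δ.ncard := by
  classical
  intro hodd
  obtain ⟨P, β, hβ, hP⟩ := exists_diag h2 hG hd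
  haveI : Finite (Submodule k (Fin n → k)) := Finite.of_injective _ SetLike.coe_injective
  have hinv : ∀ a : Fin n → ℤˣ, ∀ W ∈ Δ, signs P a • W ∈ Δ := fun a W hW => by
    obtain ⟨v, hv0, hv, rfl⟩ := (hΔ W).1 hW
    refine (hΔ _).2 ⟨_, fun h0 => hv0 ?_, ?_, smul_span _ v⟩
    · have := congrArg (fun x => (((signs P a)⁻¹ : GLn) : Mn) *ᵥ x) h0
      simpa [mulVec_mulVec, ← Units.val_mul] using this
    · rw [bil_isometry (signs_orth hP a)]; exact hv
  letI : MulAction (Fin n → ℤˣ) Δ :=
    { smul := fun a W => ⟨signs P a • (W : Submodule k (Fin n → k)), hinv a W W.2⟩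
      one_smul := fun W => Subtype.ext (by show signs P 1 • (W : Submodule k (Fin n → k)) = W; rw [map_one, one_smul])
      mul_smul := fun a b W => Subtype.ext (by
        show signs P (a * b) • (W : Submodule k (Fin n → k)) = signs P a • (signs P b • (W : Submodule k (Fin n → k)))
        rw [map_mul, mul_smul]) }
  have hp : IsPGroup 2 (Fin n → ℤˣ) := IsPGroup.of_card (n := n) (by simp)
  haveI : Fact (Nat.Prime 2) := ⟨Nat.prime_two⟩
  have hcard := hp.card_modEq_card_fixedPoints Δ
  have hne : Nat.card (MulAction.fixedPoints (Fin n → ℤˣ) Δ) ≠ 0 := by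
    intro h0
    rw [h0, Nat.card_coe_set_eq, Nat.ModEq, Nat.odd_iff.1 hodd] at hcard
    simp at hcard
  obtain ⟨⟨W, hfix⟩⟩ := (Nat.card_ne_zero.1 hne).1
  obtain ⟨v, hv0, hv, hWv⟩ := (hΔ _).1 W.2
  set x := ((P⁻¹ : GLn) : Mn) *ᵥ v
  have hvx : v = (P : Mn) *ᵥ x := by rw [mulVec_mulVec, Units.mul_inv, one_mulVec]
  obtain ⟨i, hi⟩ : ∃ i, x i ≠ 0 := by
    by_contra h
    push Not at h
    exact hv0 (by rw [hvx, show x = 0 from funext h, mulVec_zero])
  have hzero : ∀ j, j ≠ i → x j = 0 := fun j hj => by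
    let a : Fin n → ℤˣ := Pi.mulSingle j (-1)
    have hf : signs P a • Submodule.span k {v} = Submodule.span k {v} := by
      rw [← hWv]; exact congrArg Subtype.val (hfix a)
    rw [smul_span] at hf
    obtain ⟨c, hc⟩ := Submodule.mem_span_singleton.1 (hf ▸ Submodule.mem_span_singleton_self _)
    have h1 := congrArg (fun y => ((P⁻¹ : GLn) : Mn) *ᵥ y) hc
    simp only [mulVec_smul, coe_signs, ← mulVec_mulVec] at h1
    rw [mulVec_mulVec _ _ (P : Mn), Units.inv_mul, one_mulVec] at h1
    change c • x = Matrix.diagonal _ *ᵥ x at h1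
    have hi' := congrFun h1 i
    have hj' := congrFun h1 j
    rw [mulVec_diagonal] at hi' hj'
    simp [a, hj.symm] at hi' hj'
    obtain rfl : c = 1 := mul_right_cancel₀ hi (hi'.trans (one_mul _).symm)
    exact (mul_eq_zero.1 (show (2 : k) * x j = 0 by linear_combination hj')).resolve_left h2
  have hx : x = x i • Pi.single i 1 := by
    funext j
    rcases eq_or_ne j i with rfl | hj
    · simp
    · simp [hzero j hj, hj]
  have h1 : bil G v v = x i * (x i * β i) := by
    rw [hvx, bil, dotProduct_mulVec, vecMul_mulVec, ← dotProduct_mulVec, mulVec_mulVec,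
      show (P : Mn)ᵀ * G * (P : Mn) = Matrix.diagonal β from hP] at *
    rw [hx]
    simp [mulVec_smul, mulVec_single]
  rw [hv] at h1
  exact mul_ne_zero hi (mul_ne_zero hi (hβ i)) h1.symm

/-- A subgroup normalised by all isometries whose orbits of isotropic points have odd size is scalar. -/
theorem scalar_of_odd_orbits [Finite k] (h2 : (2 : k) ≠ 0) (hG : Gᵀ = G) (hd : G.det ≠ 0) (hn : 3 ≤ n)
    {R : Subgroup GLn} (hR : R ≤ orthGrp G) (hnorm : ∀ h ∈ orthGrp G, ∀ r ∈ R, h * r * h⁻¹ ∈ R)
    (hodd : Odd ((Subgroup.center GLn).relIndex R)) : R ≤ Subgroup.center GLn := by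
  classical
  haveI : Finite (Submodule k (Fin n → k)) := Finite.of_injective _ SetLike.coe_injective
  have hfixall : ∀ e : Fin n → k, e ≠ 0 → bil G e e = 0 →
      ∀ r : R, (r : GLn) • Submodule.span k {e} = Submodule.span k {e} := by
    intro e he0 he
    set Δ := MulAction.orbit R (Submodule.span k {e}) with hΔdef
    have hcard : Odd Δ.ncard := by
      rw [← MulAction.index_stabilizer]
      refine Odd.of_dvd_nat hodd ?_
      refine Subgroup.index_dvd_of_le ?_
      intro r hr
      exact center_fix (Subgroup.mem_subgroupOf.1 hr) e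
    have hpt : ∀ W ∈ Δ, ∃ v, v ≠ 0 ∧ bil G v v = 0 ∧ W = Submodule.span k {v} := by
      rintro W ⟨r, rfl⟩
      refine ⟨((r : GLn) : Mn) *ᵥ e, fun h0 => he0 ?_, by rw [bil_isometry (hR r.2)]; exact he, smul_span _ e⟩
      have := congrArg (fun x => ((((r : GLn))⁻¹ : GLn) : Mn) *ᵥ x) h0
      simpa [mulVec_mulVec, ← Units.val_mul] using this
    -- isometries fixing a point of the orbit permute the orbit
    have hstab : ∀ h ∈ orthGrp G, ∀ W ∈ Δ, h • W = W → ∀ U ∈ Δ, h • U ∈ Δ := by
      rintro h hh W ⟨a, rfl⟩ hW U ⟨b, rfl⟩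
      have hb : h * ((b : GLn) * (a : GLn)⁻¹) * h⁻¹ ∈ R := hnorm h hh _ (mul_mem b.2 (inv_mem a.2))
      refine ⟨⟨_, hb⟩ * a, ?_⟩
      show ((h * ((b : GLn) * (a : GLn)⁻¹) * h⁻¹) * (a : GLn)) • Submodule.span k {e} =
        h • ((b : GLn) • Submodule.span k {e})
      change h • ((a : GLn) • Submodule.span k {e}) = (a : GLn) • Submodule.span k {e} at hW
      rw [mul_smul]
      conv_lhs => rw [← hW]
      rw [← mul_smul, ← mul_smul, ← mul_smul]
      congr 1
      group
    -- a pair of non-orthogonal points in the orbit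
    have hnear : ∀ x y : Fin n → k, bil G x x = 0 → bil G y y = 0 → bil G x y = 1 →
        Submodule.span k {x} ∈ Δ → Submodule.span k {y} ∈ Δ →
        ∀ v, bil G v v = 0 → bil G x v ≠ 0 → Submodule.span k {v} ∈ Δ := by
      intro x y hxx hyy hxy hx hy v hvv hxv
      set v' := (bil G x v)⁻¹ • v
      have hxv' : bil G x v' = 1 := by rw [bil_smul', inv_mul_cancel₀ hxv]
      have hvv' : bil G v' v' = 0 := by rw [bil_smul, bil_smul', hvv]; ring
      set z := v' - y
      have hz : bil G z x = 0 := by rw [bil_comm hG, bil_sub', hxv', hxy, sub_self]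
      obtain ⟨t, htO, ht⟩ := exists_orth hd (siegelS_isometry h2 hG hxx hz)
      have htx : t • Submodule.span k {x} = Submodule.span k {x} := by
        rw [smul_span, ht, siegelS_mulVec, hxx, bil_comm hG x z, hz]; simp
      have hty : (t : Mn) *ᵥ y = v' := by
        have hzz : bil G z z / 2 = -bil G y v' := by
          rw [bil_sub, bil_sub', bil_sub', hvv', hyy, bil_comm hG v' y]
          field_simp
          ring
        rw [ht, siegelS_mulVec, hzz, bil_comm hG y x, hxy, bil_sub', hyy]
        simp only [z]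
        module
      have h1 := hstab t htO _ hx htx _ hy
      rwa [smul_span, hty, span_smul_eq (inv_ne_zero hxv)] at h1
    intro r
    by_contra hmove
    have heΔ : Submodule.span k {e} ∈ Δ := MulAction.mem_orbit_self _
    have hrΔ : Submodule.span k {((r : GLn) : Mn) *ᵥ e} ∈ Δ := ⟨r, smul_span _ e⟩
    by_cases hpair : ∃ f, bil G f f = 0 ∧ bil G e f ≠ 0 ∧ Submodule.span k {f} ∈ Δ
    · -- the orbit consists of all the points
      obtain ⟨f₁, hf₁, hef₁, hfΔ₁⟩ := hpair
      set f := (bil G e f₁)⁻¹ • f₁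
      have hf : bil G f f = 0 := by rw [bil_smul, bil_smul', hf₁]; ring
      have hef : bil G e f = 1 := by rw [bil_smul', inv_mul_cancel₀ hef₁]
      have hfΔ : Submodule.span k {f} ∈ Δ := by rwa [span_smul_eq (inv_ne_zero hef₁)]
      refine not_all_odd h2 hG hd (Δ := Δ) (fun W => ⟨hpt W, ?_⟩) hcard
      rintro ⟨v, hv0, hv, rfl⟩
      by_cases hev : bil G e v = 0
      swap
      · exact hnear e f he hf hef heΔ hfΔ v hv hev
      by_cases hfv : bil G f v = 0
      swap
      · exact hnear f e hf he ((bil_comm hG f e).trans hef) hfΔ heΔ v hv hfv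
      obtain ⟨-, hnd⟩ := frame_facts hG hd he hf hef
      obtain ⟨y, hye, hyf, hvy⟩ := hnd v ((bil_comm hG v e).trans hev) ((bil_comm hG v f).trans hfv) hv0
      set u := f + y + (-(bil G y y / 2)) • e
      have hfe : bil G f e = 1 := (bil_comm hG f e).trans hef
      have huu : bil G u u = 0 := by
        simp only [u, bil_add, bil_add', bil_smul, bil_smul', hf, he, hef, hfe, hye, hyf, bil_comm hG f y,
          bil_comm hG e y]
        field_simp
        ring
      have heu : bil G e u = 1 := by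
        simp only [u, bil_add', bil_smul', hef, he, bil_comm hG e y, hye]; ring
      have huv : bil G u v ≠ 0 := by
        simp only [u, bil_add, bil_smul, hfv, hev, bil_comm hG y v]
        simpa using hvy
      have huΔ : Submodule.span k {u} ∈ Δ := hnear e f he hf hef heΔ hfΔ u huu (by rw [heu]; exact one_ne_zero)
      exact hnear u e huu he ((bil_comm hG u e).trans heu) huΔ heΔ v hv huv
    · -- the orbit is totally singular
      push Not at hpair
      set g₁ := ((r : GLn) : Mn) *ᵥ e
      have hg₁ : bil G g₁ g₁ = 0 := by rw [bil_isometry (hR r.2)]; exact he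
      have heg : bil G e g₁ = 0 := by
        by_contra h
        exact hpair g₁ hg₁ h hrΔ
      obtain ⟨y₁, hy₁⟩ : ∃ y, bil G e y ≠ 0 := by
        by_contra h
        push Not at h
        refine hd (Matrix.exists_mulVec_eq_zero_iff.1 ⟨e, he0, dotProduct_eq_zero _ fun x => ?_⟩)
        rw [dotProduct_comm]; exact (bil_comm hG x e).trans (h x)
      obtain ⟨y₂, hey⟩ : ∃ y₂, bil G e y₂ = 1 :=
        ⟨(bil G e y₁)⁻¹ • y₁, by rw [bil_smul', inv_mul_cancel₀ hy₁]⟩
      set f := y₂ - (bil G y₂ y₂ / 2) • e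
      have hef : bil G e f = 1 := by rw [bil_sub', bil_smul', hey, he]; ring
      have hf : bil G f f = 0 := by
        simp only [f, bil_sub, bil_sub', bil_smul, bil_smul', hey, bil_comm hG y₂ e, he]
        field_simp
        ring
      obtain ⟨hdec, hnd⟩ := frame_facts hG hd he hf hef
      obtain ⟨w, hwe, hwf, hgw⟩ := hdec g₁
      rw [bil_comm hG g₁ e, heg, zero_smul, add_zero] at hgw
      have hw0 : w ≠ 0 := fun h0 => by
        rw [h0, add_zero] at hgw
        apply hmove
        rw [smul_span]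
        show Submodule.span k {g₁} = _
        have hc : bil G g₁ f ≠ 0 := fun h1 => by
          rw [h1, zero_smul] at hgw
          refine he0 ?_
          have h3 := congrArg (fun x => (((r : GLn)⁻¹ : GLn) : Mn) *ᵥ x) hgw
          simp only [g₁, mulVec_mulVec, mulVec_zero, ← Units.val_mul, inv_mul_cancel, Units.val_one, one_mulVec] at h3
          exact h3
        rw [hgw, span_smul_eq hc]
      obtain ⟨y, hye, hyf, hwy⟩ := hnd w hwe hwf hw0
      have hww : bil G w w = 0 := by
        rw [hgw] at hg₁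
        simpa [bil_add, bil_add', bil_smul, bil_smul', he, hwe, bil_comm hG e w] using hg₁
      obtain ⟨z, hze, hzz, hwz⟩ : ∃ z, bil G z e = 0 ∧ bil G z z ≠ 0 ∧ bil G w z ≠ 0 := by
        by_cases hyy : bil G y y = 0
        · refine ⟨y + w, by rw [bil_add, hye, hwe, add_zero], ?_, ?_⟩
          · rw [bil_add, bil_add', bil_add', hyy, hww, bil_comm hG y w, zero_add, add_zero, ← two_mul]
            exact mul_ne_zero h2 hwy
          · rw [bil_add', hww, add_zero]; exact hwy
        · exact ⟨y, hye, hyy, hwy⟩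
      let s : Mn := 1 - (2 / bil G z z) • vecMulVec z (G *ᵥ z)
      have hs : ∀ x, s *ᵥ x = x - (2 / bil G z z * bil G x z) • z := fun x => by
        simp only [s, sub_mulVec, one_mulVec, smul_mulVec, vecMulVec_mulVec, op_smul_eq_smul, smul_smul]
        rw [dotProduct_comm (G *ᵥ z) x]
      have hsiso : sᵀ * G * s = G := by
        ext i j
        have h : bil G (s *ᵥ Pi.single i 1) (s *ᵥ Pi.single j 1) = bil G (Pi.single i 1) (Pi.single j 1) := by
          simp only [hs, bil_sub, bil_sub', bil_smul, bil_smul', bil_comm hG z (Pi.single j 1)]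
          field_simp
          ring
        simp only [bil, mulVec_single_one, single_one_dotProduct] at h
        rw [Matrix.mul_assoc]
        exact h
      obtain ⟨t, htO, ht⟩ := exists_orth hd hsiso
      have hte : t • Submodule.span k {e} = Submodule.span k {e} := by
        rw [smul_span, ht, hs, bil_comm hG e z, hze]; simp
      have h1 := hstab t htO _ heΔ hte _ hrΔ
      rw [smul_span, ht] at h1
      -- the two points of the orbit are orthogonal
      obtain ⟨b, hb⟩ := h1
      have hgz : bil G g₁ z = bil G w z := by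
        rw [hgw, bil_add, bil_smul, bil_comm hG e z, hze, mul_zero, zero_add]
      have hne : bil G g₁ (s *ᵥ g₁) ≠ 0 := by
        rw [hs, bil_sub', bil_smul', hg₁, hgz, zero_sub, neg_ne_zero]
        exact mul_ne_zero (mul_ne_zero (div_ne_zero h2 hzz) hwz) hwz
      apply hne
      set m : GLn := ((r : GLn)⁻¹ * (b : GLn))
      have hm : Submodule.span k {(m : Mn) *ᵥ e} ∈ Δ := ⟨r⁻¹ * b, smul_span _ e⟩
      obtain ⟨c, hc⟩ : ∃ c : k, c • ((b : GLn) : Mn) *ᵥ e = s *ᵥ g₁ := by
        refine Submodule.mem_span_singleton.1 ?_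
        rw [← smul_span]
        replace hb : (b : GLn) • Submodule.span k {e} = Submodule.span k {s *ᵥ g₁} := hb
        show _ ∈ (b : GLn) • Submodule.span k {e}
        rw [show ((b : GLn) • Submodule.span k {e}) = Submodule.span k {s *ᵥ g₁} from hb]
        exact Submodule.mem_span_singleton_self _
      have hm0 : bil G e ((m : Mn) *ᵥ e) = 0 := by
        by_contra h
        exact hpair _ (by rw [bil_isometry (mul_mem (inv_mem (hR r.2)) (hR b.2))]; exact he) h hm
      have e1 : ((b : GLn) : Mn) *ᵥ e = ((r : GLn) : Mn) *ᵥ ((m : Mn) *ᵥ e) := by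
        rw [mulVec_mulVec, ← Units.val_mul, mul_inv_cancel_left]
      rw [← hc, bil_smul', e1, bil_isometry (hR r.2), hm0, mul_zero]
  -- so the subgroup is scalar
  intro r hr
  obtain ⟨μ, -, hμ, -⟩ := symm_lines (F := k) (k := k) (e₀ := RingHom.id k) (τ := 1) (g := (r : Mn)) h2 hG hd hn
    r.isUnit fun v hv0 hv => by
      have h := hfixall v hv0 hv ⟨r, hr⟩
      rw [smul_span] at h
      obtain ⟨c, hc⟩ := Submodule.mem_span_singleton.1 (h ▸ Submodule.mem_span_singleton_self ((r : Mn) *ᵥ v))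
      exact ⟨c, hc.symm⟩
  exact GeneralLinearGroup.mem_center_iff_val_mem_range_scalar.2 ⟨μ, by
    rw [hμ, scalar_apply, smul_one_eq_diagonal]⟩

variable (G)

/-- The scalars among the special isometries. -/
noncomputable abbrev soScal : Subgroup ↥(soGrp G) := (Subgroup.center GLn).subgroupOf (soGrp G)

variable {G}

theorem core_so [Finite k] (h2 : (2 : k) ≠ 0) (hG : Gᵀ = G) (hd : G.det ≠ 0) (hn : 3 ≤ n) :
    Cfsg.pPrimeCore 2 (↥(soGrp G) ⧸ soScal G) = ⊥ := by
  classical
  haveI : Finite GLn := inferInstance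
  set π := QuotientGroup.mk' (soScal G)
  set C := Cfsg.pPrimeCore 2 (↥(soGrp G) ⧸ soScal G)
  have hπ : Function.Surjective π := QuotientGroup.mk'_surjective _
  set R : Subgroup GLn := (C.comap π).map (soGrp G).subtype with hR
  have hsub : R ≤ orthGrp G := by rintro _ ⟨x, -, rfl⟩; exact x.2.1
  have hnorm : ∀ h ∈ orthGrp G, ∀ r ∈ R, h * r * h⁻¹ ∈ R := by
    intro h hh
    have hmem : ∀ h ∈ orthGrp G, ∀ x : ↥(soGrp G), h * (x : GLn) * h⁻¹ ∈ soGrp G := fun h hh x =>
      ⟨(orthGrp G).mul_mem ((orthGrp G).mul_mem hh x.2.1) ((orthGrp G).inv_mem hh), MonoidHom.mem_ker.2 (by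
        rw [map_mul, map_mul, map_inv, MonoidHom.mem_ker.1 x.2.2, mul_one, mul_inv_cancel])⟩
    let α : ↥(soGrp G) ≃* ↥(soGrp G) :=
      { toFun := fun x => ⟨_, hmem h hh x⟩
        invFun := fun x => ⟨_, hmem h⁻¹ (inv_mem hh) x⟩
        left_inv := fun x => Subtype.ext (by group)
        right_inv := fun x => Subtype.ext (by group)
        map_mul' := fun x y => Subtype.ext (by simp [mul_assoc]) }
    have hα : (soScal G).map α.toMonoidHom = soScal G := by
      ext x
      rw [Subgroup.mem_map_equiv, Subgroup.mem_subgroupOf, Subgroup.mem_subgroupOf]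
      show h⁻¹ * (x : GLn) * h⁻¹⁻¹ ∈ Subgroup.center GLn ↔ (x : GLn) ∈ Subgroup.center GLn
      refine ⟨fun hx => ?_, fun hx => (inferInstance : (Subgroup.center GLn).Normal).conj_mem _ hx _⟩
      simpa [mul_assoc] using (inferInstance : (Subgroup.center GLn).Normal).conj_mem _ hx h
    set αq := QuotientGroup.congr (soScal G) (soScal G) α hα
    have hCα : C.map αq.toMonoidHom ≤ C := by
      haveI : (C.map αq.toMonoidHom).Normal := (show C.Normal from inferInstance).map _ αq.surjective
      refine Cfsg.Lib.Components.le_pPrimeCore ?_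
      rw [← Nat.card_congr (C.equivMapOfInjective αq.toMonoidHom αq.injective).toEquiv]
      exact Cfsg.Lib.Components.coprime_card_pPrimeCore 2
    rintro _ ⟨x, hx, rfl⟩
    refine ⟨α x, ?_, rfl⟩
    show π (α x) ∈ C
    exact hCα ⟨π x, hx, rfl⟩
  have hodd : Odd ((Subgroup.center GLn).relIndex R) := by
    rw [hR, ← Subgroup.relIndex_comap]
    show Odd ((soScal G).relIndex (C.comap π))
    have hrel := Subgroup.relIndex_comap (⊥ : Subgroup (↥(soGrp G) ⧸ soScal G)) π (C.comap π)
    rw [MonoidHom.comap_bot, QuotientGroup.ker_mk', Subgroup.map_comap_eq_self_of_surjective hπ,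
      Subgroup.relIndex_bot_left] at hrel
    rw [hrel, ← Nat.coprime_two_right]
    exact Cfsg.Lib.Components.coprime_card_pPrimeCore 2
  have hsc := scalar_of_odd_orbits h2 hG hd hn hsub hnorm hodd
  refine (Subgroup.eq_bot_iff_forall _).2 fun c hc => ?_
  obtain ⟨x, rfl⟩ := hπ c
  exact (QuotientGroup.eq_one_iff x).2 (Subgroup.mem_subgroupOf.2 (hsc ⟨x, hc, rfl⟩))

theorem exists_so_involution [Finite k] (h2 : (2 : k) ≠ 0) (hG : Gᵀ = G) (hd : G.det ≠ 0) (hn : 3 ≤ n) :
    ∃ d : ↥(soGrp G), d * d = 1 ∧ d ∉ soScal G := by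
  classical
  obtain ⟨P, β, -, hP⟩ := exists_diag h2 hG hd
  let o : Fin n := ⟨0, by omega⟩
  let l : Fin n := ⟨1, by omega⟩
  let t : Fin n := ⟨2, by omega⟩
  have hol : o ≠ l := by simp [o, l]
  let a : Fin n → ℤˣ := Pi.mulSingle o (-1) * Pi.mulSingle l (-1)
  have hdet : GeneralLinearGroup.det (signs P a : GLn) = 1 := by
    refine Units.ext ?_
    show ((signs P a : GLn) : Mn).det = 1
    rw [coe_signs, det_mul, det_mul, det_diagonal, mul_right_comm, ← det_mul, Units.mul_inv, det_one, one_mul,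
      ← Int.cast_prod, ← Units.coe_prod]
    rw [show ∏ i, a i = 1 by simp [a, Finset.prod_mul_distrib, Finset.prod_pi_mulSingle']]
    simp
  refine ⟨⟨signs P a, signs_orth hP a, MonoidHom.mem_ker.2 hdet⟩, Subtype.ext ?_, fun h => ?_⟩
  · show signs P a * signs P a = 1
    rw [← map_mul, show a * a = 1 from funext fun i => Int.units_mul_self _, map_one]
  · obtain ⟨c, hc⟩ := GeneralLinearGroup.mem_center_iff_val_mem_range_scalar.1 (Subgroup.mem_subgroupOf.1 h)
    change Matrix.scalar (Fin n) c = ((signs P a : GLn) : Mn) at hc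
    rw [coe_signs] at hc
    have h1 := congrArg (fun M : Mn => ((P⁻¹ : GLn) : Mn) * M * (P : Mn)) hc
    rw [(Matrix.scalar_commute c (fun r => mul_comm c r) _).symm.eq, mul_assoc, Units.inv_mul, mul_one] at h1
    simp only [← mul_assoc, Units.inv_mul, one_mul] at h1
    simp only [mul_assoc, Units.inv_mul, mul_one] at h1
    have ho := congrFun (congrFun h1 o) o
    have ht := congrFun (congrFun h1 t) t
    simp [scalar_apply, a, o, l, t, Pi.mulSingle, Function.update] at ho ht
    rw [ho] at ht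
    exact h2 (by linear_combination -ht)

/-- An image of a special orthogonal group modulo scalars has no nontrivial normal subgroup of odd order. -/
theorem noCore_so [Finite k] (h2 : (2 : k) ≠ 0) (hG : Gᵀ = G) (hd : G.det ≠ 0) (hn : 3 ≤ n) {H : Type*} [Group H]
    (φ : ↥(soGrp G) →* H) (hker : φ.ker = soScal G) : NoCore 2 φ.range ∧ 2 ∣ Nat.card φ.range := by
  classical
  haveI : Fact (Nat.Prime 2) := ⟨Nat.prime_two⟩
  let e : (↥(soGrp G) ⧸ soScal G) ≃* φ.range :=
    (QuotientGroup.quotientMulEquivOfEq hker.symm).trans (QuotientGroup.quotientKerEquivRange φ)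
  obtain ⟨d, hdd, hdn⟩ := exists_so_involution h2 hG hd hn
  have hne : (QuotientGroup.mk d : ↥(soGrp G) ⧸ soScal G) ≠ 1 := fun h => hdn ((QuotientGroup.eq_one_iff _).1 h)
  have hord : orderOf (QuotientGroup.mk d : ↥(soGrp G) ⧸ soScal G) = 2 :=
    orderOf_eq_prime (by rw [pow_two, ← QuotientGroup.mk_mul, hdd]; rfl) hne
  refine ⟨NoCore.equiv ⟨⟨_, _, hne⟩, fun _ N hN hc => ?_⟩ e, ?_⟩
  · haveI := hN
    exact le_bot_iff.1 (core_so h2 hG hd hn ▸ Cfsg.Lib.Components.le_pPrimeCore hc)
  · rw [← Nat.card_congr e.toEquiv, ← hord]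
    exact orderOf_dvd_natCard _

end Cfsg.Lib.Balance
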