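import Cfsg.Agent.Known.Balance.Lines
import Cfsg.Agent.Known.Balance.Generic
import Cfsg.Agent.Known.Unit.Out
import Cfsg.Agent.Known.Unit.Std

/-!
Facts on special unitary groups used in the local balance criteria.
-/

set_option autoImplicit false
set_option linter.unusedSectionVars false
set_option linter.style.haveILetI false

namespace Cfsg.Lib.Balance

open Matrix Cfsg.Lib.Classical Cfsg.Lib.Unitary

universe u v

variable {k : Type v} [Field k] [Fintype k] {q n : ℕ} (hk : Fintype.card k = q ^ 2)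

local notation "Mk" => Matrix (Fin n) (Fin n) k

include hk

theorem su_quot_simple (hn : 3 ≤ n) (h : ¬ (n = 3 ∧ q = 2)) : IsSimpleGroup (Cfsg.PSU n k q) := by
  have h2 := (stdHerm n hk).two_le_q
  rw [stdHerm_q] at h2
  have hd : 4 ≤ Module.finrank k (Fin n → k) ∨
      (Module.finrank k (Fin n → k) = 3 ∧ 3 ≤ (stdHerm n hk).q) := by
    rw [Module.finrank_fin_fun, stdHerm_q]
    omega
  haveI := (stdHerm n hk).isSimpleGroup_SIsom_quotient hd
  exact (centerQuotCongr (suEquiv n hk)).symm.isSimpleGroup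

theorem su_center_iff (hn : 2 ≤ n) (s : Cfsg.SU n k q) :
    s ∈ Subgroup.center (Cfsg.SU n k q) ↔ ∃ c : k, smat s = c • 1 := by
  constructor
  · intro hs
    set E := suEquiv n hk
    have hz : E.symm s ∈ Subgroup.center (stdHerm n hk).SIsom := Subgroup.mem_center_iff.2 fun x =>
      E.injective (by rw [map_mul, map_mul, E.apply_symm_apply]; exact Subgroup.mem_center_iff.1 hs _)
    obtain ⟨a, -, ha⟩ := center_scalar _ (by rw [Module.finrank_fin_fun]; exact hn) hz
    refine ⟨a, Matrix.ext_of_mulVec_single fun i => ?_⟩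
    rw [smul_mulVec, one_mulVec, ← ha]
    conv_lhs => rw [← E.apply_symm_apply s]
    rw [smat, suEquiv_coe, unitToGL_mulVec]
  · rintro ⟨c, hc⟩
    refine Subgroup.mem_center_iff.2 fun t => su_ext ?_
    rw [smat_mul, smat_mul, hc, mul_smul_comm, smul_mul_assoc, mul_one, one_mul]

/-- A unitary transvection. -/
theorem exists_su_transv {v : Fin n → k} (hv : (stdHerm n hk).h v v = 0) {c : k}
    (hc : c + powConj hk c = 0) :
    ∃ s : Cfsg.SU n k q, smat s = 1 + vecMulVec (c • v) (⇑(powConj hk) ∘ v) := by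
  have hc' : c + (stdHerm n hk).σ c = 0 := hc
  refine ⟨suEquiv n hk (tr _ hv hc'), Matrix.ext_of_mulVec_single fun i => ?_⟩
  rw [smat, suEquiv_coe, unitToGL_mulVec, tr_apply, add_mulVec, one_mulVec, vecMulVec_mulVec, op_smul_eq_smul,
    smul_smul, dotProduct_comm, mul_comm c]
  rfl

/-- A diagonal element. -/
theorem exists_su_diag (a : Fin n → k) (ha : ∀ i, powConj hk (a i) * a i = 1) (hp : ∏ i, a i = 1) :
    ∃ s : Cfsg.SU n k q, smat s = Matrix.diagonal a := by
  obtain ⟨g, hg⟩ := UnitaryConj.exists_GU_of hk (Matrix.diagonal a) (by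
    show ((Matrix.diagonal a).map (powConj hk))ᵀ * Matrix.diagonal a = 1
    rw [diagonal_map (map_zero _), diagonal_transpose, diagonal_mul_diagonal, ← diagonal_one]
    exact congrArg Matrix.diagonal (funext ha))
  have hdet : ((g : GL (Fin n) k) : Mk).det = 1 := by rw [hg, det_diagonal, hp]
  exact ⟨⟨⟨((g : GL (Fin n) k) : Mk), hdet⟩, g.2⟩, hg⟩

/-- Semilinear maps centralising a rational special unitary group up to scalars. -/
theorem su_lines {F : Type u} [Field F] {e₀ : k →+* F} {g : Matrix (Fin n) (Fin n) F} {τ : F ≃+* F} (hn : 3 ≤ n)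
    (hg : IsUnit g)
    (h : ∀ s : Cfsg.SU n k q, ∃ c : F, g * ((smat s).map e₀).map τ = c • ((smat s).map e₀ * g)) :
    ∃ μ : F, μ ≠ 0 ∧ g = μ • 1 ∧ ∀ a, τ (e₀ a) = e₀ a := by
  classical
  refine herm_lines hk hn hg fun v hv0 hv => ?_
  obtain ⟨δ, hδ0, hδ⟩ := (powConj_isConj hk).exists_skew
  obtain ⟨s, hs⟩ := exists_su_transv hk hv hδ
  obtain ⟨c, hc⟩ := h s
  rw [hs] at hc
  have hv' : δ • v ≠ 0 := smul_ne_zero hδ0 hv0
  have hφ : ⇑(powConj hk) ∘ v ≠ 0 := fun h0 => hv0 (funext fun i => (powConj_isConj hk).eq_zero.1 (congrFun h0 i))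
  have hp : (⇑(powConj hk) ∘ v) ⬝ᵥ (δ • v) = 0 := by
    rw [dotProduct_smul, dotProduct_comm, show v ⬝ᵥ (⇑(powConj hk) ∘ v) = 0 from hv, smul_zero]
  obtain ⟨d, hd⟩ := line_of_transv hg hφ hp hv' hφ hp hc
  have hτ : τ (e₀ δ) ≠ 0 := (map_ne_zero τ).2 ((map_ne_zero e₀).2 hδ0)
  rw [simg_smul, rat_smul] at hd
  refine ⟨d * e₀ δ / τ (e₀ δ), ?_⟩
  rw [div_eq_inv_mul, mul_smul, mul_smul, ← hd, smul_smul, inv_mul_cancel₀ hτ, one_smul]

end Cfsg.Lib.Balance
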