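import Cfsg.Agent.Known.Balance.Generic
import Cfsg.Agent.Known.Balance.Galois
import Cfsg.Agent.Known.Balance.OrthCore
import Cfsg.Agent.Known.Balance.SUFacts
import Cfsg.Agent.Known.FieldClassData
import Cfsg.Agent.Known.AutPSLn.Invol.Models
import Cfsg.Agent.Known.AutPSLn.Invol.Main
import Cfsg.Agent.Known.Sympl.Char2
import Cfsg.Agent.Classical.Symp.Matrix
import Cfsg.Agent.Classical.Misc.SmallPSL

/-!
Local balance at automorphisms of prime order of `PSL_n` that are not inner-diagonal.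
-/

set_option autoImplicit false
set_option linter.unusedSectionVars false
set_option linter.style.haveILetI false

namespace Cfsg.Lib.Balance

open Matrix Cfsg.Lib.Classical Cfsg.Lib.Known.AutPSLn
open Cfsg.Lib.Known.AutPSLn.Invol (gam formOf HasFrame trL)
open Cfsg.Lib.Known.ThreeUnipotents (rankOne coe_rankOne)

universe u v

/-- Fixed points of order `p` inside a subgroup of fixed inner automorphisms. -/
theorem not_coprime {T : Type*} [Group T] [Finite T] (hinj : Function.Injective (MulAut.conj : T →* MulAut T))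
    {p : ℕ} [Fact p.Prime] {x : MulAut T} {K : Subgroup (MulAut T)} (hK : K ≤ fixInn x) (hp : p ∣ Nat.card K) :
    ¬ Nat.Coprime p (Nat.card ↥(MonoidHom.eqLocus x.toMonoidHom (MonoidHom.id T))) := by
  haveI : Finite (MulAut T) := Finite.of_injective (fun e => (e : T → T)) DFunLike.coe_injective
  obtain ⟨⟨c, hc⟩, hco⟩ := exists_prime_orderOf_dvd_card' p hp
  rw [Subgroup.orderOf_mk] at hco
  obtain ⟨⟨t, rfl⟩, hcx⟩ := hK hc
  rw [orderOf_injective _ hinj] at hco
  have hfix : x t = t := by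
    refine hinj ?_
    rw [← mul_left_inj x, Subgroup.mem_centralizer_singleton_iff.1 hcx]
    exact MulEquiv.ext fun z => by simp [MulAut.mul_apply]
  intro hcop
  refine (Fact.out : p.Prime).ne_one (Nat.eq_one_of_dvd_coprimes hcop dvd_rfl ?_)
  rw [← hco, ← Subgroup.orderOf_mk t (show t ∈ MonoidHom.eqLocus x.toMonoidHom (MonoidHom.id T) from hfix)]
  exact orderOf_dvd_natCard _

variable {F : Type u} [Field F] [Fintype F] {n : ℕ}

local notation "Mn" => Matrix (Fin n) (Fin n) F
local notation "GLn" => GL (Fin n) F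
local notation "SLn" => Matrix.SpecialLinearGroup (Fin n) F
local notation "Pn" => Matrix.ProjectiveSpecialLinearGroup (Fin n) F

theorem conjP_rel (hn : 2 ≤ n) {a b : GLn} (h : (conjP a : MulAut Pn) = conjP b) :
    ∃ u : F, (a : Mn) = u • (b : Mn) := by
  obtain ⟨u, hu⟩ := (Invol.conjP_eq_one_iff hn (a * b⁻¹)).1 (by rw [map_mul, map_inv, h, mul_inv_cancel])
  exact ⟨u, by rw [← Invol.coe_sc_mul, ← hu, inv_mul_cancel_right]⟩

theorem conjP_scalar_mat {g : GLn} {μ : F} (h : (g : Mn) = μ • 1) : (conjP g : MulAut Pn) = 1 :=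
  conjP_scalar (GeneralLinearGroup.mem_center_iff_val_mem_range_scalar.2 ⟨μ, by
    rw [h, scalar_apply, smul_one_eq_diagonal]⟩)

theorem psl_conj_inj (hn : 2 ≤ n) : Function.Injective (MulAut.conj : Pn →* MulAut Pn) := by
  rw [injective_iff_map_eq_one]
  intro x hx
  obtain ⟨M, rfl⟩ := QuotientGroup.mk_surjective x
  change MulAut.conj (π M) = 1 at hx
  rw [← conjP_toGL] at hx
  obtain ⟨u, hu⟩ := (Invol.conjP_eq_one_iff hn _).1 hx
  refine (QuotientGroup.eq_one_iff _).2 (Matrix.SpecialLinearGroup.mem_center_iff.2 ⟨(u : F), ?_, ?_⟩)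
  · have h1 := congrArg (fun g : GLn => (g : Mn).det) hu
    simp only [coe_sc, scalar_apply, det_diagonal, Finset.prod_const, Finset.card_univ] at h1
    rw [← h1]; exact M.2
  · exact (congrArg (fun g : GLn => (g : Mn)) hu).symm

theorem inn_mem (s : SLn) : (conjP (Matrix.SpecialLinearGroup.toGL s) : MulAut Pn) ∈ Cfsg.Inn Pn :=
  (inn_eq _).2 ⟨s, rfl⟩

theorem inn_of_det {g : GLn} (h : (g : Mn).det = 1) : (conjP g : MulAut Pn) ∈ Cfsg.Inn Pn := by
  have e : g = Matrix.SpecialLinearGroup.toGL (⟨(g : Mn), h⟩ : SLn) := Units.ext rfl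
  rw [e]; exact inn_mem _

theorem comm_field {g : GLn} {τ : F ≃+* F} (hn : 2 ≤ n) {m : GLn}
    (h : (conjP m : MulAut Pn) * (conjP g * fieldP τ) = conjP g * fieldP τ * conjP m) :
    ∃ u : F, (g : Mn) * (m : Mn).map τ = u • ((m : Mn) * (g : Mn)) := by
  rw [mul_assoc (conjP g), fieldP_mul_conjP, ← mul_assoc, ← mul_assoc, ← map_mul, ← map_mul, mul_left_inj] at h
  exact conjP_rel hn h.symm

theorem comm_graph {g : GLn} {τ : F ≃+* F} (hn : 2 ≤ n) {m : GLn}
    (h : (conjP m : MulAut Pn) * (conjP g * fieldP τ * graphP) = conjP g * fieldP τ * graphP * conjP m) :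
    ∃ u : F, (g : Mn) * ((glInvT m : GLn) : Mn).map τ = u • ((m : Mn) * (g : Mn)) := by
  rw [mul_assoc (conjP g * fieldP τ), graphP_mul_conjP] at h
  simp only [← mul_assoc] at h
  rw [mul_left_inj, mul_assoc (conjP g), fieldP_mul_conjP, ← mul_assoc, ← map_mul, ← map_mul, mul_left_inj] at h
  exact conjP_rel hn h.symm

theorem graphP_two : ∃ w : GL (Fin 2) F, (graphP : MulAut (Matrix.ProjectiveSpecialLinearGroup (Fin 2) F)) = conjP w := by
  let w : Matrix (Fin 2) (Fin 2) F := !![0, 1; -1, 0]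
  have hw : w.det ≠ 0 := by simp [w, det_fin_two]
  refine ⟨GeneralLinearGroup.mkOfDetNeZero w hw, MulEquiv.ext fun x => QuotientGroup.induction_on x fun M => ?_⟩
  refine congrArg π (Subtype.ext ?_)
  show ((M⁻¹ : Matrix.SpecialLinearGroup (Fin 2) F) : Matrix (Fin 2) (Fin 2) F)ᵀ =
    ((GeneralLinearGroup.mkOfDetNeZero w hw : GL (Fin 2) F) : Matrix (Fin 2) (Fin 2) F) * (M : Matrix (Fin 2) (Fin 2) F) *
      (((GeneralLinearGroup.mkOfDetNeZero w hw)⁻¹ : GL (Fin 2) F) : Matrix (Fin 2) (Fin 2) F)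
  refine (GeneralLinearGroup.mkOfDetNeZero w hw).isUnit.mul_right_cancel ?_
  rw [mul_assoc _ _ ((GeneralLinearGroup.mkOfDetNeZero w hw : GL (Fin 2) F) : Matrix (Fin 2) (Fin 2) F),
    Units.inv_mul, mul_one]
  show ((M⁻¹ : Matrix.SpecialLinearGroup (Fin 2) F) : Matrix (Fin 2) (Fin 2) F)ᵀ * w = w * (M : Matrix (Fin 2) (Fin 2) F)
  rw [Matrix.SpecialLinearGroup.coe_inv, adjugate_fin_two]
  ext i j
  fin_cases i <;> fin_cases j <;> simp [w, Matrix.mul_apply, Fin.sum_univ_two]

theorem decomp' (hn : 2 ≤ n) (β : MulAut Pn) : ∃ (g : GLn) (σ : F ≃+* F) (γ : MulAut Pn),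
    (γ = 1 ∨ 3 ≤ n ∧ γ = graphP) ∧ β = conjP g * fieldP σ * γ := by
  obtain ⟨g, σ, γ, hγ, rfl⟩ := exists_decomp_all hn β
  rcases hγ with rfl | rfl
  · exact ⟨g, σ, 1, .inl rfl, rfl⟩
  rcases lt_or_eq_of_le hn with h | h
  · exact ⟨g, σ, graphP, .inr ⟨h, rfl⟩, rfl⟩
  subst h
  obtain ⟨w, hw⟩ := graphP_two (F := F)
  exact ⟨g * glMap σ w, σ, 1, .inl rfl, by
    rw [hw, map_mul, mul_one, mul_assoc, mul_assoc, fieldP_mul_conjP]⟩

/-- Descent to the fixed field. -/
theorem desc_field {k : Type v} [Field k] {e₀ : k →+* F} {σ : F ≃+* F} (hn : 2 ≤ n)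
    (hι : ∀ x, σ x = x ↔ x ∈ Set.range e₀) {b : GLn} (hu : ∃ u : Fˣ, glMap σ b = sc u * b) :
    ∃ (c : Fˣ) (b₀ : GL (Fin n) k), b = sc c * GeneralLinearGroup.map e₀ b₀ := by
  obtain ⟨u, hu⟩ := hu
  obtain ⟨i, j, hij⟩ : ∃ i j, (b : Mn) i j ≠ 0 := by
    by_contra h
    push Not at h
    have := b.mul_inv
    rw [show (b : Mn) = 0 from Matrix.ext h, zero_mul] at this
    exact one_ne_zero (α := F) (by simpa using (congrFun (congrFun this (⟨0, by omega⟩ : Fin n)) ⟨0, by omega⟩).symm)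
  let c : Fˣ := Units.mk0 _ hij
  have hent : ∀ k l, σ ((b : Mn) k l) = u * (b : Mn) k l := fun k l => by
    have := congrFun (congrFun (congrArg (fun z : GLn => (z : Mn)) hu) k) l
    simpa [coe_glMap, coe_sc, scalar_apply] using this
  have hfe : ∀ k l, ∃ y, e₀ y = ((b : Mn) i j)⁻¹ * (b : Mn) k l := fun k l => by
    refine (hι _).1 ?_
    rw [map_mul, map_inv₀, hent, hent]
    field_simp
  choose y hy using hfe
  have hM : (Matrix.of y).map e₀ = ((sc c⁻¹ * b : GLn) : Mn) := by
    rw [Units.val_mul, coe_sc, scalar_apply]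
    ext a l
    rw [Matrix.map_apply, Matrix.of_apply, hy, diagonal_mul]
    simp [c]
  have hdet : (Matrix.of y).det ≠ 0 := fun h0 => by
    have h1 := GeneralLinearGroup.det_ne_zero (sc c⁻¹ * b : GLn)
    rw [← hM, ← RingHom.mapMatrix_apply, ← RingHom.map_det, h0, map_zero] at h1
    exact h1 rfl
  refine ⟨c, GeneralLinearGroup.mkOfDetNeZero (Matrix.of y) hdet, ?_⟩
  have e : GeneralLinearGroup.map e₀ (GeneralLinearGroup.mkOfDetNeZero (Matrix.of y) hdet) = sc c⁻¹ * b := Units.ext hM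
  rw [e, ← mul_assoc, ← map_mul, mul_inv_cancel, map_one, one_mul]

theorem eq_top_of_transvections {p : ℕ} [Fact p.Prime] {k : Type v} [Field k] [Fintype k]
    (N : Subgroup (Matrix.ProjectiveSpecialLinearGroup (Fin 2) k)) (hN : N.Normal)
    (hc : Nat.card k = 2 ∧ p = 3 ∨ Nat.card k = 3 ∧ p = 2) (hp : (Nat.card N).Coprime p) : N = ⊥ := by
  classical
  have hr := SmallPSL.card_psl (F := k) rfl
  rw [← Nat.card_eq_fintype_card] at hr
  obtain ⟨r, hr', hrp, hP⟩ : ∃ r : ℕ, Nat.card k = r ∧ r.Prime ∧ ∃ m, Nat.card (Matrix.ProjectiveSpecialLinearGroup (Fin 2) k) = r * m ∧ m.Coprime r ∧ ∀ d, d ∣ r * m → d.Coprime p → d ∣ r := by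
    rcases hc with ⟨h, rfl⟩ | ⟨h, rfl⟩
    · refine ⟨2, h, Nat.prime_two, 3, ?_, by norm_num, fun d hd hcop => (hcop.dvd_of_dvd_mul_right hd)⟩
      rw [h] at hr; norm_num [-Nat.card_eq_fintype_card, show Nat.gcd 2 1 = 1 from rfl] at hr; omega
    · refine ⟨3, h, Nat.prime_three, 4, ?_, by norm_num, fun d hd hcop => ?_⟩
      · rw [h] at hr; norm_num [-Nat.card_eq_fintype_card, show Nat.gcd 2 2 = 2 from rfl] at hr; omega
      · exact (hcop.pow_right 2).dvd_of_dvd_mul_right hd
  obtain ⟨m, hm, hmr, hd⟩ := hP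
  have hdvd := hd _ (hm ▸ N.card_subgroup_dvd_card) hp
  rcases hrp.eq_one_or_self_of_dvd _ hdvd with h1 | h1
  · exact Subgroup.eq_bot_of_card_eq N h1
  exfalso
  haveI := hN
  have hidx : N.index = m := by
    have h2 := N.card_mul_index
    rw [h1, hm] at h2
    exact Nat.eq_of_mul_eq_mul_left hrp.pos h2
  have hall : ∀ (i j : Fin 2) (hij : i ≠ j) (c : k), π (Matrix.SpecialLinearGroup.transvection hij c) ∈ N := by
    intro i j hij c
    have hpow : (π (Matrix.SpecialLinearGroup.transvection hij c)) ^ r = 1 := by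
      rw [← map_pow]
      have hk0 : (r : k) = 0 := by rw [← hr', Nat.card_eq_fintype_card, Nat.cast_card_eq_zero]
      have e : ∀ t : ℕ, (Matrix.SpecialLinearGroup.transvection hij c) ^ t =
          Matrix.SpecialLinearGroup.transvection hij ((t : k) * c) := fun t => by
        induction t with
        | zero =>
          rw [pow_zero, Nat.cast_zero, zero_mul]
          exact (Subtype.ext (by simp [Matrix.SpecialLinearGroup.transvection, Matrix.transvection])).symm
        | succ t ih =>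
          refine Subtype.ext ?_
          rw [pow_succ, ih]
          show Matrix.transvection i j ((t : k) * c) * Matrix.transvection i j c =
            Matrix.transvection i j (((t + 1 : ℕ) : k) * c)
          rw [Matrix.transvection_mul_transvection_same _ _ hij]
          push_cast; ring_nf
      rw [e, hk0, zero_mul, show Matrix.SpecialLinearGroup.transvection hij (0 : k) = 1 from
        Subtype.ext (by simp [Matrix.SpecialLinearGroup.transvection, Matrix.transvection]), map_one]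
    have h2 : (QuotientGroup.mk (π (Matrix.SpecialLinearGroup.transvection hij c)) :
        Matrix.ProjectiveSpecialLinearGroup (Fin 2) k ⧸ N) = 1 := by
      rw [← orderOf_eq_one_iff]
      refine Nat.eq_one_of_dvd_coprimes hmr ?_ (orderOf_dvd_of_pow_eq_one ?_)
      · rw [← hidx, Subgroup.index_eq_card]; exact orderOf_dvd_natCard _
      · rw [← QuotientGroup.mk_pow, hpow]; rfl
    exact (QuotientGroup.eq_one_iff _).1 h2
  have htop : N = ⊤ := by
    have h3 : N.comap π = ⊤ := eq_top_of_transvection_mem _ hall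
    refine eq_top_iff.2 fun x _ => ?_
    obtain ⟨M, rfl⟩ := QuotientGroup.mk_surjective x
    exact (h3 ▸ Subgroup.mem_top M : M ∈ N.comap π)
  rw [htop, Subgroup.card_top, hm] at h1
  have := Nat.eq_of_mul_eq_mul_left hrp.pos (h1.trans (mul_one r).symm)
  rcases hc with ⟨h, rfl⟩ | ⟨h, rfl⟩ <;> (rw [this] at hm; rw [h] at hr; norm_num [-Nat.card_eq_fintype_card] at hr; omega)

theorem noCore_psl {p r : ℕ} [Fact p.Prime] (hn : 2 ≤ n) (k : Type v) [Field k] [Fintype k] [CharP k r]
    [Fact r.Prime] (hpr : p ≠ r) : NoCore p (Matrix.ProjectiveSpecialLinearGroup (Fin n) k) := by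
  classical
  by_cases hbig : n = 2 → 4 ≤ Nat.card k
  · exact noCore_of_simple (isSimpleGroup_PSL_fin hn hbig)
  push Not at hbig
  obtain ⟨rfl, hsmall⟩ := hbig
  refine ⟨SL2Simple.PSL_nontrivial, fun hdvd N hN hc => eq_top_of_transvections (p := p) N hN ?_ hc⟩
  have h1 : 1 < Nat.card k := Finite.one_lt_card
  have hr := SmallPSL.card_psl (F := k) rfl
  rw [← Nat.card_eq_fintype_card] at hr
  have hp := (Fact.out : p.Prime)
  obtain ⟨f, -, hf⟩ := FiniteField.card k r
  rw [← Nat.card_eq_fintype_card] at hf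
  have hrk : r ∣ Nat.card k := hf ▸ dvd_pow_self r f.ne_zero
  rcases (show Nat.card k = 2 ∨ Nat.card k = 3 by omega) with h | h <;> rw [h] at hr hrk
  · left
    obtain rfl : r = 2 := (Nat.prime_dvd_prime_iff_eq Fact.out Nat.prime_two).1 hrk
    norm_num [-Nat.card_eq_fintype_card] at hr
    rw [hr, show (6 : ℕ) = 2 * 3 by norm_num] at hdvd
    exact ⟨h, (Nat.prime_dvd_prime_iff_eq hp Nat.prime_three).1 ((hp.dvd_mul.1 hdvd).resolve_left fun h2 =>
      hpr ((Nat.prime_dvd_prime_iff_eq hp Nat.prime_two).1 h2))⟩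
  · right
    obtain rfl : r = 3 := (Nat.prime_dvd_prime_iff_eq Fact.out Nat.prime_three).1 hrk
    norm_num [-Nat.card_eq_fintype_card] at hr
    rw [show Nat.card (Matrix.ProjectiveSpecialLinearGroup (Fin 2) k) = 2 * 2 * 3 by omega] at hdvd
    refine ⟨h, (Nat.prime_dvd_prime_iff_eq hp Nat.prime_two).1 ?_⟩
    rcases hp.dvd_mul.1 hdvd with h2 | h2
    · exact hp.dvd_of_dvd_pow (n := 2) (by rw [pow_two]; exact h2)
    · exact absurd ((Nat.prime_dvd_prime_iff_eq hp Nat.prime_three).1 h2) hpr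

set_option maxHeartbeats 1000000 in
theorem psl_field (hn : 2 ≤ n) {k : Type v} [Field k] [Fintype k] {e₀ : k →+* F} {σ : F ≃+* F}
    (hfix : ∀ x, σ x = x ↔ x ∈ Set.range e₀) {p r : ℕ} [Fact p.Prime] [Fact r.Prime] [CharP F r] (hpr : p ≠ r) :
    Data p (fieldP σ : MulAut Pn) := by
  classical
  haveI : CharP k r := (RingHom.charP_iff e₀ e₀.injective r).2 inferInstance
  set ι' : GL (Fin n) k →* GLn := GeneralLinearGroup.map e₀ with hι'
  set φ0 : Matrix.SpecialLinearGroup (Fin n) k →* MulAut Pn :=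
    ((conjP : GLn →* MulAut Pn).comp ι').comp Matrix.SpecialLinearGroup.toGL
  have hcoe : ∀ b : GL (Fin n) k, ((ι' b : GLn) : Mn) = ((b : GL (Fin n) k) : Matrix (Fin n) (Fin n) k).map e₀ :=
    fun b => rfl
  have hdet : ∀ b : GL (Fin n) k, ((ι' b : GLn) : Mn).det = e₀ ((b : GL (Fin n) k) : Matrix (Fin n) (Fin n) k).det :=
    fun b => by rw [hcoe]; exact (RingHom.map_det e₀ _).symm
  have hcomm : ∀ b, conjP (ι' b) * (fieldP σ : MulAut Pn) = fieldP σ * conjP (ι' b) := fun b => by
    rw [fieldP_mul_conjP, show glMap σ (ι' b) = ι' b from Units.ext (Matrix.ext fun i j => (hfix _).2 ⟨_, rfl⟩)]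
  have hker : φ0.ker = Subgroup.center _ := by
    ext s
    rw [MonoidHom.mem_ker, Matrix.SpecialLinearGroup.mem_center_iff]
    show conjP (ι' (Matrix.SpecialLinearGroup.toGL s)) = 1 ↔ _
    rw [Invol.conjP_eq_one_iff hn]
    constructor
    · rintro ⟨u, hu⟩
      have h1 := congrArg (fun g : GLn => (g : Mn)) hu
      rw [hcoe] at h1
      have hent : ∀ i j, e₀ ((s : Matrix (Fin n) (Fin n) k) i j) = if i = j then (u : F) else 0 := fun i j => by
        have := congrFun (congrFun h1 i) j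
        simpa [coe_sc, scalar_apply, Matrix.diagonal_apply] using this
      let o : Fin n := ⟨0, by omega⟩
      have hs : Matrix.scalar (Fin n) ((s : Matrix (Fin n) (Fin n) k) o o) = (s : Matrix (Fin n) (Fin n) k) := by
        ext i j
        apply e₀.injective
        rw [hent, scalar_apply, diagonal_apply, apply_ite e₀, map_zero, hent, if_pos rfl]
      refine ⟨_, ?_, hs⟩
      have hd := s.2
      rw [← hs] at hd
      simpa [scalar_apply, Finset.prod_const] using hd
    · rintro ⟨c, hc, hcs⟩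
      have hc0 : e₀ c ≠ 0 := (map_ne_zero e₀).2 fun h0 => by
        rw [h0, zero_pow (by simp; omega)] at hc; exact zero_ne_one hc
      refine ⟨Units.mk0 _ hc0, Units.ext ?_⟩
      rw [hcoe, coe_sc]
      show ((s : Matrix (Fin n) (Fin n) k)).map e₀ = _
      rw [← hcs, scalar_apply, scalar_apply, diagonal_map (map_zero e₀)]
      rfl
  set K := φ0.range with hKdef
  have hKc : NoCore p K := (noCore_psl hn k hpr).equiv
    ((QuotientGroup.quotientMulEquivOfEq hker.symm).trans (QuotientGroup.quotientKerEquivRange φ0))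
  have hKinn : K ≤ fixInn (fieldP σ) := by
    rintro _ ⟨s, rfl⟩
    refine ⟨inn_of_det (g := ι' (Matrix.SpecialLinearGroup.toGL s)) ?_, Subgroup.mem_centralizer_singleton_iff.2 (hcomm _)⟩
    rw [hdet]
    show e₀ (s : Matrix (Fin n) (Fin n) k).det = 1
    rw [s.2, map_one]
  have hsub : ∀ c ∈ fixInn (fieldP σ : MulAut Pn), ∃ b : GL (Fin n) k, c = conjP (ι' b) := by
    rintro c ⟨hi, hc⟩
    obtain ⟨t, rfl⟩ := (inn_eq c).1 hi
    obtain ⟨d, b, hb⟩ := desc_field hn hfix ((comm_iff hn (fieldP_mul_conjP σ) _).1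
      (Subgroup.mem_centralizer_singleton_iff.1 hc))
    exact ⟨b, by rw [hb, map_mul, conjP_scalar (sc_mem_center d), one_mul]⟩
  refine ⟨K, hKinn, hKc, ?_, fun hdvd => ?_, fun y hy => ?_⟩
  · rintro c hc _ ⟨s, rfl⟩
    obtain ⟨b, rfl⟩ := hsub c hc
    refine ⟨conjSL b s, ?_⟩
    show conjP (ι' (Matrix.SpecialLinearGroup.toGL (conjSL b s))) =
      conjP (ι' b) * conjP (ι' (Matrix.SpecialLinearGroup.toGL s)) * (conjP (ι' b))⁻¹
    rw [← map_inv, ← map_mul, ← map_mul, ← map_inv, ← map_mul, ← map_mul]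
    exact congrArg _ (congrArg ι' (Units.ext rfl))
  · obtain ⟨⟨c, hc'⟩, hco⟩ := exists_prime_orderOf_dvd_card' p hdvd
    rw [Subgroup.orderOf_mk] at hco
    obtain ⟨b, rfl⟩ := hsub c hc'
    have hb : conjP (ι' b) ^ Nat.card kˣ ∈ K := by
      refine ⟨⟨((b ^ Nat.card kˣ : GL (Fin n) k) : Matrix (Fin n) (Fin n) k), ?_⟩, ?_⟩
      · have h1 : GeneralLinearGroup.det (b ^ Nat.card kˣ) = 1 := by rw [map_pow, pow_card_eq_one']
        exact congrArg Units.val h1
      · refine Eq.trans ?_ (show conjP (ι' (b ^ Nat.card kˣ)) = conjP (ι' b) ^ Nat.card kˣ by rw [map_pow, map_pow])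
        exact congrArg (fun g => conjP (ι' g)) (Units.ext rfl)
    by_cases hpk : p ∣ Nat.card kˣ
    · obtain ⟨z, hz⟩ := exists_prime_orderOf_dvd_card' p hpk
      obtain ⟨d, hdp, hdne⟩ : ∃ d : Matrix.SpecialLinearGroup (Fin n) k,
          d ^ p ∈ Subgroup.center _ ∧ d ∉ Subgroup.center _ := by
        let o : Fin n := ⟨0, by omega⟩
        let l : Fin n := ⟨1, by omega⟩
        have hol : o ≠ l := by simp [o, l]
        by_cases hsp : n = 2 ∧ p = 2
        · obtain ⟨rfl, rfl⟩ := hsp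
          let w : Matrix (Fin 2) (Fin 2) k := !![0, 1; -1, 0]
          have hw : w.det = 1 := by simp [w, det_fin_two]
          let d : Matrix.SpecialLinearGroup (Fin 2) k := ⟨w, hw⟩
          refine ⟨d, ?_, fun h => ?_⟩
          · rw [pow_two]
            refine Matrix.SpecialLinearGroup.mem_center_iff.2 ⟨-1, by simp, ?_⟩
            show _ = w * w
            ext i j
            fin_cases i <;> fin_cases j <;> simp [w, pow_two, Matrix.mul_apply, Fin.sum_univ_two]
          · obtain ⟨c, -, hc⟩ := Matrix.SpecialLinearGroup.mem_center_iff.1 h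
            have := congrFun (congrFun hc 0) 1
            simp [d, w] at this
        · let v : Fin n → kˣ := Pi.mulSingle o z * Pi.mulSingle l z⁻¹
          have hprod : ∏ i, v i = 1 := by simp [v, Finset.prod_mul_distrib, Finset.prod_pi_mulSingle']
          let d : Matrix.SpecialLinearGroup (Fin n) k := ⟨Matrix.diagonal fun i => (v i : k), by
            rw [det_diagonal, ← Units.coe_prod, hprod, Units.val_one]⟩
          refine ⟨d, ?_, fun h => ?_⟩
          · have hd : d ^ p = 1 := by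
              refine Subtype.ext ?_
              rw [Matrix.SpecialLinearGroup.coe_pow]
              show (Matrix.diagonal fun i => (v i : k)) ^ p = 1
              rw [diagonal_pow, ← diagonal_one]
              congr 1
              funext i
              rw [Pi.pow_apply, ← Units.val_pow_eq_pow_val]
              have hv : v i ^ p = 1 := by
                show (Pi.mulSingle (M := fun _ => kˣ) o z * Pi.mulSingle l z⁻¹ : Fin n → kˣ) i ^ p = 1
                rw [Pi.mul_apply, mul_pow]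
                by_cases h1 : i = o <;> by_cases h2 : i = l <;>
                  simp [Pi.mulSingle_apply, h1, h2, ← hz, pow_orderOf_eq_one]
              rw [hv, Units.val_one]
            rw [hd]; exact one_mem _
          · obtain ⟨c, -, hc⟩ := Matrix.SpecialLinearGroup.mem_center_iff.1 h
            have ho := congrFun (congrFun hc o) o
            have hl := congrFun (congrFun hc l) l
            simp [d, v, hol, hol.symm, scalar_apply] at ho hl
            rcases Nat.lt_or_ge 2 n with h3 | h3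
            · have ht := congrFun (congrFun hc ⟨2, h3⟩) ⟨2, h3⟩
              simp [d, v, o, l, scalar_apply] at ht
              rw [ht] at ho
              have hz1 : z = 1 := Units.ext ho.symm
              rw [hz1, orderOf_one] at hz
              exact (Fact.out : p.Prime).ne_one hz.symm
            · obtain rfl : n = 2 := by omega
              have hz2 : z ^ 2 = 1 := Units.ext (by
                rw [Units.val_pow_eq_pow_val, Units.val_one, pow_two]
                nth_rewrite 2 [← ho]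
                rw [hl, mul_inv_cancel₀ z.ne_zero])
              have := orderOf_dvd_of_pow_eq_one hz2
              rw [hz] at this
              exact hsp ⟨rfl, (Nat.prime_dvd_prime_iff_eq Fact.out Nat.prime_two).1 this⟩
      have hne : φ0 d ≠ 1 := fun h => hdne (hker ▸ MonoidHom.mem_ker.2 h)
      have hord : orderOf (φ0 d) = p := orderOf_eq_prime (by
        rw [← map_pow, ← MonoidHom.mem_ker, hker]; exact hdp) hne
      rw [← hord, ← Subgroup.orderOf_mk (φ0 d) (show φ0 d ∈ K from ⟨d, rfl⟩)]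
      exact orderOf_dvd_natCard _
    · obtain ⟨i, hi⟩ := exists_pow_eq_self_of_coprime (x := conjP (ι' b)) (n := Nat.card kˣ)
        (by rw [hco]; exact ((Fact.out : p.Prime).coprime_iff_not_dvd.2 hpk).symm)
      have hmem : conjP (ι' b) ∈ K := hi ▸ pow_mem hb i
      rw [← hco, ← Subgroup.orderOf_mk (conjP (ι' b)) hmem]
      exact orderOf_dvd_natCard _
  · obtain ⟨g, τ, γ, hγ, rfl⟩ := decomp' hn y
    have hk : ∀ (v φ : Fin n → k) (h : φ ⬝ᵥ v = 0),
        conjP (ι' (Matrix.SpecialLinearGroup.toGL (rankOne v φ h 1))) ∈ K := fun v φ h => ⟨_, rfl⟩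
    have hcv : ∀ (v φ : Fin n → k) (h : φ ⬝ᵥ v = 0),
        ((ι' (Matrix.SpecialLinearGroup.toGL (rankOne v φ h 1)) : GLn) : Mn) = (1 + vecMulVec v φ).map e₀ := fun v φ h => by
      rw [hcoe]
      exact congrArg (fun X => Matrix.map X e₀) ((coe_rankOne v φ h 1).trans (by rw [one_smul]))
    rcases hγ with rfl | ⟨hn3, rfl⟩
    · rw [mul_one] at hy ⊢
      obtain ⟨μ, -, hμ, hτ⟩ := all_lines hn g.isUnit (e₀ := e₀) (τ := τ) fun v hv0 => by
        obtain ⟨φ, hφ, hφ0⟩ : ∃ φ : Fin n → k, φ ⬝ᵥ v = 0 ∧ φ ≠ 0 := by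
          let L : (Fin n → k) →ₗ[k] k := (Matrix.of fun (_ : Fin 1) i => v i).mulVecLin.restrictScalars k |>
            (LinearMap.proj (0 : Fin 1)).comp
          have h : LinearMap.ker L ≠ ⊥ := fun h => by
            have := LinearMap.finrank_le_finrank_of_injective (LinearMap.ker_eq_bot.1 h)
            simp at this
            omega
          obtain ⟨φ, hφ, hφ0⟩ := Submodule.exists_mem_ne_zero_of_ne_bot h
          exact ⟨φ, by rw [dotProduct_comm]; exact LinearMap.mem_ker.1 hφ, hφ0⟩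
        obtain ⟨u, hu⟩ := comm_field hn (Subgroup.mem_centralizer_iff.1 hy _ (hk v φ hφ))
        rw [hcv] at hu
        exact line_of_transv g.isUnit hφ0 hφ hv0 hφ0 hφ hu
      rw [conjP_scalar_mat hμ, one_mul]
      obtain ⟨i, rfl⟩ := mem_zpowers_of_fix hfix hτ
      exact ⟨i, by rw [map_zpow]⟩
    · exfalso
      let o : Fin n := ⟨0, by omega⟩
      let l : Fin n := ⟨1, by omega⟩
      let t : Fin n := ⟨2, by omega⟩
      have key : ∀ j, j ≠ o → ∃ d : F, simg e₀ (g : Mn) τ (-Pi.single j 1) = d • rat e₀ (Pi.single o 1) := by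
        intro j hj
        have h0 : (Pi.single j 1 : Fin n → k) ⬝ᵥ Pi.single o 1 = 0 := by simp [hj]
        have h0' : (Pi.single o 1 : Fin n → k) ⬝ᵥ -Pi.single j 1 = 0 := by simp [hj.symm]
        obtain ⟨u, hu⟩ := comm_graph hn (Subgroup.mem_centralizer_iff.1 hy _ (hk _ _ h0))
        have e : ((glInvT (ι' (Matrix.SpecialLinearGroup.toGL (rankOne _ _ h0 1))) : GLn) : Mn) =
            (1 + vecMulVec (-(Pi.single j 1 : Fin n → k)) (Pi.single o 1) : Matrix (Fin n) (Fin n) k).map e₀ := by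
          rw [coe_glInvT, ← map_inv, ← map_inv, hcoe]
          have hinv : (rankOne (Pi.single o (1 : k)) (Pi.single j 1) h0 1)⁻¹ =
              rankOne (Pi.single o 1) (Pi.single j 1) h0 (-1) := by
            rw [inv_eq_iff_mul_eq_one]
            refine Subtype.ext ?_
            show (1 + (1 : k) • vecMulVec _ _) * (1 + (-1 : k) • vecMulVec _ _) = 1
            rw [mul_add, mul_one, add_mul, one_mul, smul_mul_assoc, mul_smul_comm, vecMulVec_mul_vecMulVec, h0]
            simp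
          rw [hinv, ← transpose_map]
          refine congrArg (fun X => Matrix.map X e₀) ?_
          show (1 + (-1 : k) • vecMulVec (Pi.single o 1) (Pi.single j 1))ᵀ = _
          rw [transpose_add, transpose_one, transpose_smul, transpose_vecMulVec, neg_one_smul, neg_vecMulVec]
        rw [e, hcv] at hu
        exact line_of_transv g.isUnit (Pi.single_ne_zero_iff.2 one_ne_zero) h0'
          (Pi.single_ne_zero_iff.2 one_ne_zero) (Pi.single_ne_zero_iff.2 one_ne_zero) h0 hu
      obtain ⟨d₁, h1⟩ := key l (by simp [o, l])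
      obtain ⟨d₂, h2⟩ := key t (by simp [o, t])
      have hz : (g : Mn) *ᵥ (d₂ • (⇑τ ∘ rat e₀ (-Pi.single l 1)) - d₁ • (⇑τ ∘ rat e₀ (-Pi.single t 1))) =
          (g : Mn) *ᵥ 0 := by
        rw [mulVec_sub, mulVec_smul, mulVec_smul, mulVec_zero]
        show d₂ • simg e₀ (g : Mn) τ _ - d₁ • simg e₀ (g : Mn) τ _ = 0
        rw [h1, h2, smul_comm, sub_self]
      have h3 := congrFun (mulVec_injective_iff_isUnit.2 g.isUnit hz) l
      simp [rat, o, l, t] at h3
      rw [h3, zero_smul] at h2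
      exact simg_ne_zero g.isUnit (neg_ne_zero.2 (Pi.single_ne_zero_iff.2 one_ne_zero)) h2

theorem isom_iff (A g : GLn) :
    g ∈ orthGrp ((A⁻¹ : GLn) : Mn) ↔ (g : Mn) * (A : Mn) * (g : Mn)ᵀ = (A : Mn) := by
  rw [mem_orthGrp]
  constructor
  · intro h
    have h1 : ((g : Mn)ᵀ * ((A⁻¹ : GLn) : Mn)) * ((g : Mn) * (A : Mn)) = 1 := by
      rw [← mul_assoc, h, Units.inv_mul]
    have h2 := mul_eq_one_comm.1 h1
    calc (g : Mn) * (A : Mn) * (g : Mn)ᵀ
        = ((g : Mn) * (A : Mn) * ((g : Mn)ᵀ * ((A⁻¹ : GLn) : Mn))) * (A : Mn) := by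
          simp [mul_assoc]
      _ = _ := by rw [h2, one_mul]
  · intro h
    have h1 : ((g : Mn) * (A : Mn)) * ((g : Mn)ᵀ * ((A⁻¹ : GLn) : Mn)) = 1 := by
      rw [← mul_assoc, h, Units.mul_inv]
    have h2 := mul_eq_one_comm.1 h1
    calc (g : Mn)ᵀ * ((A⁻¹ : GLn) : Mn) * (g : Mn)
        = ((g : Mn)ᵀ * ((A⁻¹ : GLn) : Mn) * ((g : Mn) * (A : Mn))) * ((A⁻¹ : GLn) : Mn) := by
          simp [mul_assoc]
      _ = _ := by rw [h2, one_mul]

/-- The special isometries of an alternating form are an image of the symplectic group. -/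
theorem alt_core (hn : 3 ≤ n) (h2 : (2 : F) ≠ 0) {C : GLn} (hC : (C : Mn)ᵀ = -(C : Mn)) :
    IsSimpleGroup ↥((soGrp (C : Mn)).map (conjP : GLn →* MulAut Pn)) ∧
      2 ∣ Nat.card ↥((soGrp (C : Mn)).map (conjP : GLn →* MulAut Pn)) := by
  classical
  obtain ⟨m, hnm, L, κ, hκ, hL⟩ := Invol.frame_symp C (Invol.alt_of_neg h2 hC)
  have hm : 2 ≤ m := by omega
  have hq : 3 ≤ Nat.card F := by
    have h1 : 1 < Nat.card F := Finite.one_lt_card
    by_contra hlt
    refine h2 ?_
    have h0 : ((Nat.card F : ℕ) : F) = 0 := by rw [Nat.card_eq_fintype_card, Nat.cast_card_eq_zero]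
    rw [show Nat.card F = 2 by omega] at h0
    exact_mod_cast h0
  set ψ : Matrix.symplecticGroup (Fin m) F →* GLn :=
    (trL L).toMonoidHom.comp (MonoidHom.toHomUnits (Matrix.symplecticGroup (Fin m) F).subtype)
  have hψ : ∀ (s : Matrix.symplecticGroup (Fin m) F) x, ((ψ s : GLn) : Mn) *ᵥ (L x) = L ((s : Matrix _ _ F) *ᵥ x) :=
    fun s x => Invol.trL_mulVec' L _ x
  have hiso : ∀ s, ψ s ∈ orthGrp (C : Mn) := fun s => Invol.formOf_ext fun x y => by
    obtain ⟨x, rfl⟩ := L.surjective x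
    obtain ⟨y, rfl⟩ := L.surjective y
    rw [← Invol.formOf_mulVec, hψ, hψ, hL, hL, ← sympBilin_eq_sympForm, ← sympBilin_eq_sympForm,
      (mem_symplectic_iff_form _).1 s.2]
  have hdet : ∀ s, GeneralLinearGroup.det (ψ s) = 1 := fun s => by
    have h : commutator (Matrix.symplecticGroup (Fin m) F) ≤ (GeneralLinearGroup.det.comp ψ).ker :=
      Abelianization.commutator_subset_ker _
    rw [commutator_symplecticGroup (by omega)] at h
    exact MonoidHom.mem_ker.1 (h (Subgroup.mem_top s))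
  have hrange : soGrp (C : Mn) = ψ.range := by
    refine le_antisymm (fun g hg => ?_) ?_
    · set h := (trL L).symm g with hh
      have hmem : ((h : GL (Fin m ⊕ Fin m) F) : Matrix _ _ F) ∈ Matrix.symplecticGroup (Fin m) F := by
        refine (mem_symplectic_iff_form _).2 fun x y => ?_
        have e : ∀ x, L ((h : Matrix _ _ F) *ᵥ x) = (g : Mn) *ᵥ L x := fun x => by
          rw [← Invol.trL_mulVec' L h x, hh, MulEquiv.apply_symm_apply]
        refine mul_left_cancel₀ hκ ?_
        rw [sympBilin_eq_sympForm, sympBilin_eq_sympForm, ← hL, ← hL, e, e, Invol.formOf_mulVec, mem_orthGrp.1 hg.1]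
      refine ⟨⟨_, hmem⟩, ?_⟩
      show trL L _ = g
      rw [← (trL L).apply_symm_apply g]
      exact congrArg _ (Units.ext rfl)
    · rintro _ ⟨s, rfl⟩
      exact ⟨hiso s, MonoidHom.mem_ker.2 (hdet s)⟩
  set φ := (conjP : GLn →* MulAut Pn).comp ψ
  have hker : φ.ker = Subgroup.center (Matrix.symplecticGroup (Fin m) F) := by
    ext s
    rw [MonoidHom.mem_ker]
    show conjP (ψ s) = 1 ↔ _
    constructor
    · intro h
      obtain ⟨u, hu⟩ := (Invol.conjP_eq_one_iff (by omega) _).1 h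
      have hs : ∀ x, (s : Matrix (Fin m ⊕ Fin m) (Fin m ⊕ Fin m) F) *ᵥ x = (u : F) • x := fun x => by
        refine L.injective ?_
        rw [← hψ, hu, coe_sc, scalar_apply, ← smul_one_eq_diagonal, smul_mulVec, one_mulVec, map_smul]
      refine Subgroup.mem_center_iff.2 fun t => Subtype.ext (Sympl.mat_ext fun x => ?_)
      simp only [Submonoid.coe_mul, ← mulVec_mulVec, hs, mulVec_smul]
    · intro h
      obtain ⟨c, hc0, hc⟩ := Sympl.center_scalar (by omega) h
      refine conjP_scalar_mat (μ := c) (Matrix.ext_of_mulVec_single fun i => ?_)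
      obtain ⟨x, hx⟩ := L.surjective (Pi.single i 1)
      rw [smul_mulVec, one_mulVec, ← hx, hψ, hc, map_smul]
  rw [hrange, MonoidHom.map_range]
  let e : Cfsg.PSp m F ≃* φ.range :=
    (QuotientGroup.quotientMulEquivOfEq hker.symm).trans (QuotientGroup.quotientKerEquivRange φ)
  haveI : IsSimpleGroup (Cfsg.PSp m F) := isSimpleGroup_symplectic_quotient hm fun _ => hq
  refine ⟨e.symm.isSimpleGroup, ?_⟩
  let o : Fin m := ⟨0, by omega⟩
  let l : Fin m := ⟨1, by omega⟩
  let dv : Fin m → F := fun i => if i = o then -1 else 1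
  have hdd : ∀ i, dv i * dv i = 1 := fun i => by by_cases h : i = o <;> simp [dv, h]
  have hmem : Matrix.diagonal (Sum.elim dv dv) ∈ Matrix.symplecticGroup (Fin m) F := by
    rw [Sympl.mem_sp_iff, diagonal_transpose]
    ext i j
    rcases i with i | i <;> rcases j with j | j <;> by_cases hij : i = j <;>
      simp [Matrix.J, Matrix.one_apply, hij, hdd, mul_comm]
  let s0 : Matrix.symplecticGroup (Fin m) F := ⟨_, hmem⟩
  have hsq : s0 * s0 = 1 := Subtype.ext (by
    show Matrix.diagonal _ * Matrix.diagonal _ = (1 : Matrix _ _ F)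
    rw [diagonal_mul_diagonal, ← diagonal_one]
    congr 1
    funext i; rcases i with i | i <;> exact hdd i)
  have hne : φ s0 ≠ 1 := fun h => by
    have h1 : s0 ∈ Subgroup.center (Matrix.symplecticGroup (Fin m) F) := hker ▸ MonoidHom.mem_ker.2 h
    obtain ⟨c, -, hc⟩ := Sympl.center_scalar (F := F) (m := m) (by omega) h1
    have a1 := congrFun (hc (Pi.single (Sum.inl o) 1)) (Sum.inl o)
    have a2 := congrFun (hc (Pi.single (Sum.inl l) 1)) (Sum.inl l)
    simp [s0, dv, o, l] at a1 a2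
    exact h2 (by linear_combination a2 - a1)
  have hord : orderOf (φ s0) = 2 := orderOf_eq_prime (by rw [pow_two, ← map_mul, hsq, map_one]) hne
  rw [← hord, ← Subgroup.orderOf_mk (φ s0) (show φ s0 ∈ φ.range from ⟨s0, rfl⟩)]
  exact orderOf_dvd_natCard _

set_option maxHeartbeats 1000000 in
/-- An involutory graph automorphism. -/
theorem psl_graph (hn : 3 ≤ n) (h2 : (2 : F) ≠ 0) {A : GLn} (hA : (A : Mn)ᵀ = A ∨ (A : Mn)ᵀ = -(A : Mn)) :
    Data 2 (gam A : MulAut Pn) ∧ ∃ K : Subgroup (MulAut Pn), K ≤ fixInn (gam A) ∧ 2 ∣ Nat.card K := by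
  classical
  haveI : Fact (Nat.Prime 2) := ⟨Nat.prime_two⟩
  set C : Mn := ((A⁻¹ : GLn) : Mn) with hCdef
  have hCt : Cᵀ * (A : Mn)ᵀ = 1 := by rw [← transpose_mul, hCdef, Units.mul_inv, transpose_one]
  have hC : Cᵀ = C ∨ Cᵀ = -C := by
    rcases hA with h | h <;> rw [h] at hCt
    · left
      calc Cᵀ = Cᵀ * (A : Mn) * C := by rw [mul_assoc, hCdef, Units.mul_inv, mul_one]
        _ = C := by rw [hCt, one_mul]
    · right
      calc Cᵀ = -(Cᵀ * -(A : Mn) * C) := by rw [mul_neg, neg_mul, neg_neg, mul_assoc, hCdef, Units.mul_inv, mul_one]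
        _ = -C := by rw [hCt, one_mul]
  have hdC : C.det ≠ 0 := GeneralLinearGroup.det_ne_zero _
  set K := (soGrp C).map (conjP : GLn →* MulAut Pn) with hKdef
  have hsim : ∀ g ∈ soGrp C, ∃ u : Fˣ, (g : Mn) * (A : Mn) * (g : Mn)ᵀ = (u : F) • (A : Mn) := fun g hg =>
    ⟨1, by rw [(isom_iff A g).1 hg.1, Units.val_one, one_smul]⟩
  have hKx : K ≤ fixInn (gam A) := by
    rintro _ ⟨g, hg, rfl⟩
    refine ⟨inn_of_det (congrArg Units.val (MonoidHom.mem_ker.1 hg.2)), Subgroup.mem_centralizer_singleton_iff.2 ?_⟩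
    rw [← mul_inv_eq_iff_eq_mul, Invol.conj_gam]
    exact ((Invol.gam_eq_iff (by omega) A _).2 (by rw [Invol.coe_congr]; exact hsim g hg)).symm
  have hKc : NoCore 2 K ∧ 2 ∣ Nat.card K := by
    rcases hC with hC | hC
    · let φ := (conjP : GLn →* MulAut Pn).comp (soGrp C).subtype
      have hr : φ.range = K := by rw [MonoidHom.range_comp, Subgroup.range_subtype]
      rw [← hr]
      refine noCore_so h2 hC hdC hn φ ?_
      ext g
      rw [MonoidHom.mem_ker, Subgroup.mem_subgroupOf]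
      exact conjP_eq_one_iff (by omega) (g : GLn)
    · obtain ⟨h1, h3⟩ := alt_core hn h2 (C := A⁻¹) hC
      exact ⟨noCore_of_simple h1, h3⟩
  refine ⟨⟨K, hKx, hKc.1, ?_, fun _ => hKc.2, fun y hy => ?_⟩, K, hKx, hKc.2⟩
  · rintro c ⟨hi, hc⟩ _ ⟨g, hg, rfl⟩
    obtain ⟨t, rfl⟩ := (inn_eq c).1 hi
    set s : GLn := Matrix.SpecialLinearGroup.toGL t
    have hc' := Subgroup.mem_centralizer_singleton_iff.1 hc
    rw [← mul_inv_eq_iff_eq_mul, Invol.conj_gam, eq_comm, Invol.gam_eq_iff (by omega), Invol.coe_congr] at hc'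
    obtain ⟨u, hu⟩ := hc'
    refine ⟨s * g * s⁻¹, ⟨?_, MonoidHom.mem_ker.2 ?_⟩, by rw [map_mul, map_mul, map_inv]⟩
    · show s * g * s⁻¹ ∈ orthGrp C
      refine (isom_iff A _).2 ?_
      have hinv : ((s⁻¹ : GLn) : Mn) * (A : Mn) * ((s⁻¹ : GLn) : Mn)ᵀ = ((u⁻¹ : Fˣ) : F) • (A : Mn) := by
        have e : (A : Mn) = ((u⁻¹ : Fˣ) : F) • ((s : Mn) * (A : Mn) * (s : Mn)ᵀ) := by
          rw [hu, smul_smul, Units.inv_mul, one_smul]
        conv_lhs => rw [e]
        simp only [mul_smul_comm, smul_mul_assoc, ← mul_assoc, Units.inv_mul, one_mul]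
        rw [mul_assoc (A : Mn), ← transpose_mul, Units.inv_mul, transpose_one, mul_one]
      rw [Units.val_mul, Units.val_mul, transpose_mul, transpose_mul,
        show (s : Mn) * (g : Mn) * ((s⁻¹ : GLn) : Mn) * (A : Mn) * (((s⁻¹ : GLn) : Mn)ᵀ * ((g : Mn)ᵀ * (s : Mn)ᵀ)) =
          (s : Mn) * (g : Mn) * (((s⁻¹ : GLn) : Mn) * (A : Mn) * ((s⁻¹ : GLn) : Mn)ᵀ) * (g : Mn)ᵀ * (s : Mn)ᵀ by
            simp only [mul_assoc], hinv]
      simp only [mul_smul_comm, smul_mul_assoc]
      rw [show (s : Mn) * (g : Mn) * (A : Mn) * (g : Mn)ᵀ * (s : Mn)ᵀ =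
        (s : Mn) * ((g : Mn) * (A : Mn) * (g : Mn)ᵀ) * (s : Mn)ᵀ by simp only [mul_assoc],
        (isom_iff A g).1 hg.1, hu, smul_smul, Units.inv_mul, one_smul]
    · rw [map_mul, map_mul, map_inv, MonoidHom.mem_ker.1 hg.2, mul_one, mul_inv_cancel]
  · have hxK : gam A ∈ Subgroup.centralizer (K : Set (MulAut Pn)) := Subgroup.mem_centralizer_iff.2 fun c hc =>
      Subgroup.mem_centralizer_singleton_iff.1 (hKx hc).2
    have hord : gam A * gam A = 1 := (Invol.gam_sq_iff (by omega) A).2 hA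
    have main : ∀ (g : GLn) (τ : F ≃+* F), (conjP g : MulAut Pn) * fieldP τ ∈ Subgroup.centralizer (K : Set (MulAut Pn)) →
        (conjP g : MulAut Pn) * fieldP τ = 1 := by
      intro g τ hgy
      have hrel : ∀ s ∈ soGrp C, ∃ u : F, (g : Mn) * (s : Mn).map τ = u • ((s : Mn) * (g : Mn)) := fun s hs =>
        comm_field (by omega) (Subgroup.mem_centralizer_iff.1 hgy _ ⟨s, hs, rfl⟩)
      obtain ⟨μ, hμ, hτ⟩ : ∃ μ : F, (g : Mn) = μ • 1 ∧ ∀ a, τ a = a := by
        rcases hC with hC | hC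
        · obtain ⟨μ, -, hμ, hτ⟩ := symm_rigid (e₀ := RingHom.id F) (τ := τ) h2 hC hdC hn g.isUnit
            fun e z _ he hz => by
              obtain ⟨t, htO, ht⟩ := exists_orth hdC (siegelS_isometry h2 hC he hz)
              obtain ⟨u, hu⟩ := hrel t ⟨htO, MonoidHom.mem_ker.2 (Units.ext (by
                show (t : Mn).det = 1
                rw [ht, det_siegelS h2 hC hdC he hz]))⟩
              refine ⟨u, ?_⟩
              rw [ht] at hu
              simpa using hu
          exact ⟨μ, hμ, hτ⟩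
        · obtain ⟨μ, -, hμ, hτ⟩ := all_lines (e₀ := RingHom.id F) (τ := τ) (by omega) g.isUnit fun v hv0 => by
            have hvv : v ⬝ᵥ (C *ᵥ v) = 0 := Invol.alt_of_neg h2 (A := A⁻¹) hC v
            have hp : (C *ᵥ v) ⬝ᵥ v = 0 := by rw [dotProduct_comm]; exact hvv
            have hCv : C *ᵥ v ≠ 0 := fun h0 => hdC (Matrix.exists_mulVec_eq_zero_iff.1 ⟨v, hv0, h0⟩)
            set t : GLn := Matrix.SpecialLinearGroup.toGL (rankOne v (C *ᵥ v) hp 1)
            have ht : (t : Mn) = 1 + vecMulVec v (C *ᵥ v) := (coe_rankOne _ _ hp 1).trans (by rw [one_smul])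
            have hb : ∀ x, formOf C x v = -formOf C v x := fun x => by
              rw [← Invol.formOf_transpose, hC, ← neg_one_smul F C, Invol.formOf_smul, neg_one_mul]
            have htO : t ∈ orthGrp C := Invol.formOf_ext fun x y => by
              rw [← Invol.formOf_mulVec, ht, add_mulVec, add_mulVec, one_mulVec, one_mulVec, vecMulVec_mulVec,
                vecMulVec_mulVec, op_smul_eq_smul, op_smul_eq_smul]
              simp only [formOf, mulVec_add, mulVec_smul, dotProduct_add, add_dotProduct, smul_dotProduct,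
                dotProduct_smul, smul_eq_mul, hvv]
              rw [dotProduct_comm (C *ᵥ v) x, dotProduct_comm (C *ᵥ v) y, show y ⬝ᵥ (C *ᵥ v) = -(v ⬝ᵥ (C *ᵥ y)) from hb y]
              ring
            obtain ⟨u, hu⟩ := hrel t ⟨htO, MonoidHom.mem_ker.2 (Units.ext (rankOne v (C *ᵥ v) hp 1).2)⟩
            rw [ht] at hu
            exact line_of_transv g.isUnit hCv hp hv0 hCv hp (c := u) (by simpa using hu)
          exact ⟨μ, hμ, hτ⟩
      rw [conjP_scalar_mat hμ, show τ = 1 from RingEquiv.ext hτ, map_one, one_mul]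
    obtain ⟨g, τ, γ, hγ, rfl⟩ := decomp' (by omega) y
    rcases hγ with rfl | ⟨-, rfl⟩
    · rw [mul_one] at hy ⊢
      rw [main g τ hy]
      exact one_mem _
    · have e : conjP g * fieldP τ * graphP * gam A = conjP (g * glMap τ (glInvT A)) * fieldP τ := by
        rw [gam, mul_assoc _ graphP, ← mul_assoc graphP, graphP_mul_conjP, mul_assoc (conjP (glInvT A)),
          graphP_mul_self, mul_one, mul_assoc (conjP g), fieldP_mul_conjP, ← mul_assoc, ← map_mul]
      have h1 := main _ _ (e ▸ mul_mem hy hxK)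
      rw [← e] at h1
      exact ⟨1, (zpow_one _).trans ((mul_left_inj (gam A)).1 (hord.trans h1.symm))⟩

set_option maxHeartbeats 1000000 in
/-- A graph-field automorphism of order two. -/
theorem psl_graphField (hn : 3 ≤ n) {q : ℕ} (hF : Fintype.card F = q ^ 2) (h2 : (2 : F) ≠ 0) {σ : F ≃+* F}
    (hσ : σ ≠ 1) (hσ2 : σ ^ 2 = 1) :
    Data 2 (fieldP σ * graphP : MulAut Pn) ∧
      ∃ K : Subgroup (MulAut Pn), K ≤ fixInn (fieldP σ * graphP : MulAut Pn) ∧ 2 ∣ Nat.card K := by
  classical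
  haveI : Fact (Nat.Prime 2) := ⟨Nat.prime_two⟩
  set x : MulAut Pn := fieldP σ * graphP with hx
  have hpow : ∀ z, σ z = z ^ q := fun z => involution_eq_pow hF hσ hσ2 z
  have hcst : ∀ M : Mn, Cfsg.Lib.UnitaryConj.cst (powConj hF) M = (M.map σ)ᵀ := fun M => by
    ext i j
    simp [Cfsg.Lib.UnitaryConj.cst, powConj_apply, hpow]
  have hΘ : ∀ g : GLn, x * conjP g = conjP (glMap σ (glInvT g)) * x := fun g => by
    rw [hx, mul_assoc, graphP_mul_conjP, ← mul_assoc, fieldP_mul_conjP, mul_assoc]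
  have hGU : ∀ b : GLn, b ∈ Cfsg.GU n F q → glMap σ (glInvT b) = b := fun b hb => by
    rw [Cfsg.Lib.UnitaryConj.mem_GU hF, hcst] at hb
    have e : glMap σ (glInvT b⁻¹) * b = 1 := Units.ext (by
      rw [Units.val_mul, coe_glMap, coe_glInvT, inv_inv, transpose_map, hb, Units.val_one])
    rw [map_inv, map_inv, inv_mul_eq_one] at e
    exact e
  set ψ : Cfsg.SU n F q →* MulAut Pn :=
    ((conjP : GLn →* MulAut Pn).comp Matrix.SpecialLinearGroup.toGL).comp (Cfsg.SU n F q).subtype
  set K := ψ.range with hKdef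
  have hKx : K ≤ fixInn x := by
    rintro _ ⟨s, rfl⟩
    refine ⟨inn_mem _, Subgroup.mem_centralizer_singleton_iff.2 ?_⟩
    show conjP (Matrix.SpecialLinearGroup.toGL (s : SLn)) * x = x * conjP (Matrix.SpecialLinearGroup.toGL (s : SLn))
    rw [hΘ, hGU (Matrix.SpecialLinearGroup.toGL (s : SLn)) (Unitary.suToGU s).2]
  have hker : ψ.ker = Subgroup.center (Cfsg.SU n F q) := by
    ext s
    rw [MonoidHom.mem_ker, su_center_iff hF (by omega)]
    show conjP (Matrix.SpecialLinearGroup.toGL (s : SLn)) = 1 ↔ _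
    constructor
    · intro h
      obtain ⟨u, hu⟩ := (Invol.conjP_eq_one_iff (by omega) _).1 h
      refine ⟨u, ?_⟩
      have := congrArg (fun g : GLn => (g : Mn)) hu
      rw [smul_one_eq_diagonal]
      exact this
    · rintro ⟨c, hc⟩
      exact conjP_scalar_mat hc
  have hq3 : ¬ (n = 3 ∧ q = 2) := fun h => by
    have h0 : ((Fintype.card F : ℕ) : F) = 0 := Nat.cast_card_eq_zero F
    rw [hF, h.2] at h0
    push_cast at h0
    exact h2 ((pow_eq_zero_iff (n := 2) two_ne_zero).1 (by rw [← h0]; norm_num))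
  haveI := su_quot_simple hF hn hq3
  let e : Cfsg.PSU n F q ≃* K :=
    (QuotientGroup.quotientMulEquivOfEq hker.symm).trans (QuotientGroup.quotientKerEquivRange ψ)
  have hKs : IsSimpleGroup K := e.symm.isSimpleGroup
  have hK2 : 2 ∣ Nat.card K := by
    let o : Fin n := ⟨0, by omega⟩
    let l : Fin n := ⟨1, by omega⟩
    let a : Fin n → F := fun i => if i = o ∨ i = l then -1 else 1
    obtain ⟨s, hs⟩ := exists_su_diag hF a (fun i => by by_cases h : i = o ∨ i = l <;> simp [a, h]) (by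
      rw [← Finset.prod_subset (Finset.subset_univ {o, l}) (fun i _ hi => by simp [a] at hi ⊢; tauto),
        Finset.prod_pair (by simp [o, l])]
      simp [a])
    have hss : s * s = 1 := Unitary.su_ext (by
      rw [Unitary.smat_mul, hs, diagonal_mul_diagonal]
      show _ = (1 : Mn)
      rw [← diagonal_one]
      congr 1; funext i; by_cases h : i = o ∨ i = l <;> simp [a, h])
    have hne : ψ s ≠ 1 := fun h => by
      have h1 : s ∈ Subgroup.center _ := hker ▸ MonoidHom.mem_ker.2 h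
      obtain ⟨c, hc⟩ := (su_center_iff hF (by omega) s).1 h1
      rw [hs] at hc
      have h3 := congrFun (congrFun hc o) o
      have h4 := congrFun (congrFun hc ⟨2, by omega⟩) ⟨2, by omega⟩
      simp [a, o, l] at h3 h4
      rw [← h4] at h3
      exact h2 (by linear_combination -h3)
    have hord : orderOf (ψ s) = 2 := orderOf_eq_prime (by rw [pow_two, ← map_mul, hss, map_one]) hne
    rw [← hord, ← Subgroup.orderOf_mk (ψ s) (show ψ s ∈ K from ⟨s, rfl⟩)]
    exact orderOf_dvd_natCard _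
  refine ⟨⟨K, hKx, noCore_of_simple hKs, ?_, fun _ => hK2, fun y hy => ?_⟩, K, hKx, hK2⟩
  · rintro c ⟨hi, hc⟩ _ ⟨s, rfl⟩
    obtain ⟨t, rfl⟩ := (inn_eq c).1 hi
    have hc' := Subgroup.mem_centralizer_singleton_iff.1 hc
    rw [hΘ, mul_left_inj] at hc'
    obtain ⟨u, hu⟩ := conjP_rel (by omega) hc'
    set b : GLn := Matrix.SpecialLinearGroup.toGL t
    set b' : Mn := ((glMap σ (glInvT b) : GLn) : Mn)
    haveI : Nonempty (Fin n) := ⟨⟨0, by omega⟩⟩
    -- conjugation by `t` preserves the special unitary group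
    have hu0 : u ≠ 0 := fun h0 => b.isUnit.ne_zero (by
      rw [hu, h0, zero_smul])
    let w := b * Matrix.SpecialLinearGroup.toGL (s : SLn) * b⁻¹
    have hw : w ∈ Cfsg.GU n F q := by
      rw [Cfsg.Lib.UnitaryConj.mem_GU hF, hcst]
      have hs := (Cfsg.Lib.UnitaryConj.mem_GU hF _).1 (Unitary.suToGU s).2
      rw [hcst] at hs
      have hbt : ((b : Mn).map σ)ᵀ * b' = 1 := by
        rw [show b' = (((b⁻¹ : GLn) : Mn)ᵀ).map σ from rfl, transpose_map, ← transpose_mul, ← Matrix.map_mul,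
          Units.inv_mul, Matrix.map_one σ (map_zero σ) (map_one σ), transpose_one]
      have hbb : ((b : Mn).map σ)ᵀ * (b : Mn) = u • (1 : Mn) := by
        rw [show ((b : Mn).map σ)ᵀ * (b : Mn) = ((b : Mn).map σ)ᵀ * (u • b') from congrArg (_ * ·) hu,
          mul_smul_comm, hbt]
      have hbb' : (((b⁻¹ : GLn) : Mn).map σ)ᵀ * ((b⁻¹ : GLn) : Mn) = u⁻¹ • (1 : Mn) := by
        have h1 := congrArg (fun X => (((b⁻¹ : GLn) : Mn).map σ)ᵀ * X * ((b⁻¹ : GLn) : Mn)) hbb
        simp only [← mul_assoc, mul_smul_comm, smul_mul_assoc, mul_one] at h1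
        rw [← transpose_mul, ← Matrix.map_mul, Units.mul_inv, Matrix.map_one σ (map_zero σ) (map_one σ),
          transpose_one, one_mul, Units.mul_inv] at h1
        rw [h1, smul_smul, inv_mul_cancel₀ hu0, one_smul]
      show (((b : Mn) * (Matrix.SpecialLinearGroup.toGL (s : SLn) : GLn) * ((b⁻¹ : GLn) : Mn)).map σ)ᵀ *
        ((b : Mn) * (Matrix.SpecialLinearGroup.toGL (s : SLn) : GLn) * ((b⁻¹ : GLn) : Mn)) = 1
      set S : Mn := ((Matrix.SpecialLinearGroup.toGL (s : SLn) : GLn) : Mn)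
      have hs' : (S.map σ)ᵀ * S = 1 := hs
      rw [Matrix.map_mul, Matrix.map_mul, transpose_mul, transpose_mul,
        show (((b⁻¹ : GLn) : Mn).map σ)ᵀ * ((S.map σ)ᵀ * ((b : Mn).map σ)ᵀ) * ((b : Mn) * S * ((b⁻¹ : GLn) : Mn)) =
          (((b⁻¹ : GLn) : Mn).map σ)ᵀ * ((S.map σ)ᵀ * (((b : Mn).map σ)ᵀ * (b : Mn)) * S) * ((b⁻¹ : GLn) : Mn) by
            simp only [mul_assoc], hbb]
      simp only [mul_smul_comm, smul_mul_assoc, mul_one]
      rw [hs', mul_one, hbb', smul_smul, mul_inv_cancel₀ hu0, one_smul]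
    have hwd : (w : Mn).det = 1 := by
      show ((b : Mn) * _ * _).det = 1
      rw [det_mul, det_mul, show ((Matrix.SpecialLinearGroup.toGL (s : SLn) : GLn) : Mn).det = 1 from (s : SLn).2,
        mul_one, ← det_mul, Units.mul_inv, det_one]
    refine ⟨⟨⟨(w : Mn), hwd⟩, hw⟩, ?_⟩
    show conjP (Matrix.SpecialLinearGroup.toGL (⟨(w : Mn), hwd⟩ : SLn)) = _
    rw [show Matrix.SpecialLinearGroup.toGL (⟨(w : Mn), hwd⟩ : SLn) = w from Units.ext rfl]
    show conjP (b * _ * b⁻¹) = _
    rw [map_mul, map_mul, map_inv]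
    rfl
  · have hxK : x ∈ Subgroup.centralizer (K : Set (MulAut Pn)) := Subgroup.mem_centralizer_iff.2 fun c hc =>
      Subgroup.mem_centralizer_singleton_iff.1 (hKx hc).2
    have hord : x * x = 1 := by
      rw [hx, ← pow_two, (fieldP_comm_graphP σ).mul_pow, ← map_pow, hσ2, map_one, pow_two, graphP_mul_self, mul_one]
    have main : ∀ (g : GLn) (τ : F ≃+* F), (conjP g : MulAut Pn) * fieldP τ ∈ Subgroup.centralizer (K : Set (MulAut Pn)) →
        (conjP g : MulAut Pn) * fieldP τ = 1 := by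
      intro g τ hgy
      obtain ⟨μ, -, hμ, hτ⟩ := su_lines hF (e₀ := RingHom.id F) (τ := τ) hn g.isUnit fun s => by
        obtain ⟨u, hu⟩ := comm_field (by omega) (m := Matrix.SpecialLinearGroup.toGL (s : SLn))
          (Subgroup.mem_centralizer_iff.1 hgy _ ⟨s, rfl⟩)
        exact ⟨u, by simpa using hu⟩
      rw [conjP_scalar_mat hμ, show τ = 1 from RingEquiv.ext hτ, map_one, one_mul]
    obtain ⟨g, τ, γ, hγ, rfl⟩ := decomp' (by omega) y
    rcases hγ with rfl | ⟨-, rfl⟩
    · rw [mul_one] at hy ⊢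
      rw [main g τ hy]
      exact one_mem _
    · have e : conjP g * fieldP τ * graphP * x = conjP g * fieldP (τ * σ) := by
        rw [hx, mul_assoc _ graphP, ← mul_assoc graphP (fieldP σ), ← (fieldP_comm_graphP σ).eq,
          mul_assoc (fieldP σ) graphP graphP, graphP_mul_self, mul_one, mul_assoc, ← map_mul]
      have h1 := main _ _ (e ▸ mul_mem hy hxK)
      rw [← e] at h1
      exact ⟨1, (zpow_one _).trans ((mul_left_inj x).1 (hord.trans h1.symm))⟩

set_option maxHeartbeats 1000000 in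
theorem psl_balance {r : ℕ} [Fact r.Prime] [CharP F r] (hn : 2 ≤ n)
    (𝒢 : Subgroup (MulAut Pn)) (hinn : ∀ k : Pn, MulAut.conj k ∈ 𝒢) {p : ℕ} [Fact p.Prime] (hpr : p ≠ r)
    (β : MulAut Pn) (hord : orderOf β = p) (hnot : ¬ Cfsg.IsInnerDiagonalAutPSL β) :
    Cfsg.pPrimeCore p ↥(𝒢 ⊓ Subgroup.centralizer {β}) ≠ ⊥ ↔
      ((∃ γ φ : MulAut Pn, Cfsg.IsInnerDiagonalAutPSL γ ∧ Cfsg.IsFieldAutPSL φ ∧ β = φ.trans γ) ∧
        Nat.Coprime p (Nat.card ↥(MonoidHom.eqLocus β.toMonoidHom (MonoidHom.id Pn)))) := by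
  classical
  have hinj := psl_conj_inj (F := F) hn
  obtain ⟨g, σ, γ, hγ, rfl⟩ := decomp' hn β
  have hpow : (conjP g * fieldP σ * γ) ^ p = 1 := hord ▸ pow_orderOf_eq_one _
  have hp := (Fact.out : p.Prime)
  rcases hγ with rfl | ⟨hn3, rfl⟩
  · rw [mul_one] at hord hnot hpow ⊢
    have hfield : ∃ γ φ : MulAut Pn, Cfsg.IsInnerDiagonalAutPSL γ ∧ Cfsg.IsFieldAutPSL φ ∧
        conjP g * fieldP σ = φ.trans γ :=
      ⟨conjP g, fieldP σ, isInnerDiagonal_conjP g, ⟨σ, isStdField_fieldP σ⟩, rfl⟩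
    rw [and_iff_right hfield]
    refine balance hinj hinn hord ?_
    have hσ1 : σ ≠ 1 := fun h => hnot (by rw [h, map_one, mul_one]; exact isInnerDiagonal_conjP g)
    have hσp : σ ^ p = 1 := by
      rw [mul_twist_pow conjP (glMap σ) (fieldP σ) (fieldP_mul_conjP σ), ← map_pow] at hpow
      exact (conjP_fieldP_eq_one hn hpow).2
    obtain ⟨h, hh⟩ := field_case hn hσ1 hp (by rw [← map_pow, hσp, map_one]) hpow
    rw [hh]
    let L : Subfield F := σ.toRingHom.eqLocusField (RingHom.id F)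
    haveI : Fintype L := Fintype.ofFinite L
    exact (psl_field hn (k := L) (e₀ := L.subtype) (σ := σ) (fun z =>
      ⟨fun hz => ⟨⟨z, hz⟩, rfl⟩, by rintro ⟨z, rfl⟩; exact z.2⟩) (r := r) hpr).conj _
  · have hsq : (conjP g * fieldP σ * graphP : MulAut Pn) ^ 2 =
        conjP (g * glMap σ (glInvT g)) * fieldP (σ ^ 2) := by
      have hΘ : (fieldP σ * graphP : MulAut Pn) * conjP g = conjP (glMap σ (glInvT g)) * (fieldP σ * graphP) := by
        rw [mul_assoc, graphP_mul_conjP, ← mul_assoc, fieldP_mul_conjP, mul_assoc]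
      calc (conjP g * fieldP σ * graphP : MulAut Pn) ^ 2
          = conjP g * (fieldP σ * graphP * conjP g) * (fieldP σ * graphP) := by rw [pow_two]; group
        _ = conjP g * conjP (glMap σ (glInvT g)) * (fieldP σ * graphP) ^ 2 := by rw [hΘ, pow_two]; group
        _ = _ := by
          rw [← map_mul, (fieldP_comm_graphP σ).mul_pow, ← map_pow, pow_two graphP, graphP_mul_self, mul_one]
    have hnofield : ¬ ∃ γ φ : MulAut Pn, Cfsg.IsInnerDiagonalAutPSL γ ∧ Cfsg.IsFieldAutPSL φ ∧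
        conjP g * fieldP σ * graphP = φ.trans γ := by
      rintro ⟨γ, φ, hγ, ⟨σ', hφ⟩, e⟩
      have hd : γ ∈ (conjP : GLn →* MulAut Pn).range := inndiag_eq (F := F) (n := n) ▸ Subgroup.subset_closure hγ
      obtain ⟨g', rfl⟩ := hd
      rw [eq_fieldP hφ] at e
      change conjP g * fieldP σ * graphP = conjP g' * fieldP σ' at e
      have h1 : (conjP (glMap σ'⁻¹ (g'⁻¹ * g)) : MulAut Pn) * fieldP (σ'⁻¹ * σ) * graphP = MulAut.conj 1 := by
        rw [map_one, map_mul fieldP, map_inv fieldP, ← mul_assoc,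
          show conjP (glMap σ'⁻¹ (g'⁻¹ * g)) * (fieldP σ')⁻¹ = (fieldP σ')⁻¹ * conjP (g'⁻¹ * g) by
            rw [← map_inv, ← fieldP_mul_conjP],
          map_mul, map_inv]
        calc (fieldP σ')⁻¹ * ((conjP g')⁻¹ * conjP g) * fieldP σ * graphP
            = (fieldP σ')⁻¹ * (conjP g')⁻¹ * (conjP g * fieldP σ * graphP) := by group
          _ = 1 := by rw [e]; group
      exact graphP_ne_one (by omega) (inner_imp hn3 (Or.inr rfl) h1).1
    obtain ⟨hp2, hσ2⟩ : p = 2 ∧ σ ^ 2 = 1 := by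
      rcases hp.eq_two_or_odd' with h | ⟨t, ht⟩
      · subst h
        rw [hsq] at hpow
        exact ⟨rfl, (conjP_fieldP_eq_one hn hpow).2⟩
      · exfalso
        subst ht
        rw [pow_succ, pow_mul, hsq, mul_twist_pow conjP (glMap (σ ^ 2)) (fieldP (σ ^ 2)) (fieldP_mul_conjP _),
          ← map_pow fieldP] at hpow
        have h1 : (conjP (Known.AutPSLn.tnorm (glMap (σ ^ 2)) (g * glMap σ (glInvT g)) t * glMap ((σ ^ 2) ^ t) g) :
            MulAut Pn) * fieldP ((σ ^ 2) ^ t * σ) * graphP = MulAut.conj 1 := by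
          rw [map_one, map_mul conjP, map_mul fieldP, ← mul_assoc (conjP _ * conjP _),
            mul_assoc (conjP _) (conjP (glMap _ g)), ← fieldP_mul_conjP, ← mul_assoc]
          refine Eq.trans ?_ hpow
          group
        exact graphP_ne_one (by omega) (inner_imp hn3 (Or.inr rfl) h1).1
    subst hp2
    have h2 : (2 : F) ≠ 0 := fun h => hpr (by
      have hd : r ∣ 2 := (CharP.cast_eq_zero_iff F r 2).1 (by exact_mod_cast h)
      exact ((Nat.prime_dvd_prime_iff_eq Fact.out Nat.prime_two).1 hd).symm)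
    have hall : Data 2 (conjP g * fieldP σ * graphP : MulAut Pn) ∧
        ∃ K : Subgroup (MulAut Pn), K ≤ fixInn (conjP g * fieldP σ * graphP) ∧ 2 ∣ Nat.card K := by
      by_cases hσ1 : σ = 1
      · have e : conjP g * fieldP σ * graphP = gam g := by rw [hσ1, map_one, mul_one]; rfl
        rw [e] at hord ⊢
        exact psl_graph hn3 h2 ((Invol.orderOf_gam hn3 g).1 hord)
      · have hF : Fintype.card F = (r ^ (Nat.log r (Fintype.card F) / 2)) ^ 2 := by
          obtain ⟨f, hr, hf⟩ := FiniteField.card F r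
          have hd : 2 ∣ (f : ℕ) := by
            haveI : Finite (F ≃+* F) := Finite.of_injective (fun e => (e : F → F)) DFunLike.coe_injective
            rw [← orderOf_eq_prime hσ2 hσ1]
            exact order_dvd hf σ
          rw [hf, Nat.log_pow hr.one_lt, ← pow_mul, Nat.div_mul_cancel hd]
        have hx2 : ((fieldP σ : MulAut Pn) * graphP) ^ 2 = 1 := by
          rw [(fieldP_comm_graphP σ).mul_pow, ← map_pow, hσ2, map_one, pow_two, graphP_mul_self, mul_one]
        obtain ⟨h, hh⟩ := graph_case hn3 hσ1 Nat.prime_two hx2 (g := g) (by rw [← mul_assoc]; exact hpow)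
        rw [mul_assoc, hh]
        obtain ⟨hD, K, hK, hK2⟩ := psl_graphField hn3 hF h2 hσ1 hσ2
        refine ⟨hD.conj _, K.map (MulAut.conj (conjP h)).toMonoidHom, ?_, ?_⟩
        · rw [← fixInn_map]; exact Subgroup.map_mono hK
        · rwa [← Nat.card_congr (K.equivMapOfInjective _ (MulAut.conj (conjP h)).injective).toEquiv]
    obtain ⟨hD, K, hK, hK2⟩ := hall
    refine ⟨fun h => absurd ((balance hinj hinn hord hD).1 h) (not_coprime hinj hK hK2), fun h => absurd h.1 hnofield⟩

end Cfsg.Lib.Balance
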