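import Cfsg.Agent.Known.Balance.OrthCore

/-!
Symmetric bilinear modules over finite fields of odd characteristic: semilinear maps preserving anisotropic lines
and groups acting by the full isometry group.
-/

set_option autoImplicit false
set_option linter.unusedSectionVars false
set_option linter.style.haveILetI false

namespace Cfsg.Lib.Balance

universe u v w

variable {K : Type u} [Field K] [Finite K] {M : Type v} [AddCommGroup M] [Module K M] [FiniteDimensional K M]
  (β : LinearMap.BilinForm K M) (hs : ∀ x y, β x y = β y x) (hn : β.Nondegenerate) (h2 : (2 : K) ≠ 0)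

include hs hn h2

/-- An anisotropic vector perpendicular to a small orthogonal family. -/
theorem perp_aniso {r : ℕ} (e : Fin r → M) (ho : ∀ i j, i ≠ j → β (e i) (e j) = 0) (ha : ∀ i, β (e i) (e i) ≠ 0)
    (hr : r < Module.finrank K M) : ∃ x, β x x ≠ 0 ∧ ∀ i, β (e i) x = 0 := by
  classical
  by_contra hne
  push Not at hne
  let L : M →ₗ[K] (Fin r → K) := LinearMap.pi fun i => β (e i)
  obtain ⟨x, hx, hx0⟩ : ∃ x ∈ LinearMap.ker L, x ≠ 0 := Submodule.exists_mem_ne_zero_of_ne_bot fun h => by
    have := LinearMap.finrank_le_finrank_of_injective (f := L) (LinearMap.ker_eq_bot.1 h)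
    rw [Module.finrank_fin_fun] at this
    omega
  have hiso : ∀ y, (∀ i, β (e i) y = 0) → β y y = 0 := fun y hy => by
    by_contra h
    obtain ⟨i, hi⟩ := hne y h
    exact hi (hy i)
  have hxe : ∀ i, β (e i) x = 0 := fun i => congrFun hx i
  refine hx0 (hn.1 x fun z => ?_)
  set z' := z - ∑ i, (β (e i) z / β (e i) (e i)) • e i
  have hz' : ∀ i, β (e i) z' = 0 := fun i => by
    simp only [z', map_sub, map_sum, map_smul, smul_eq_mul]
    rw [Finset.sum_eq_single i (fun j _ hj => by rw [ho i j (Ne.symm hj), mul_zero]) (by simp),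
      div_mul_cancel₀ _ (ha i), sub_self]
  have h1 := hiso (x + z') fun i => by rw [map_add, hxe, hz', add_zero]
  simp only [map_add, LinearMap.add_apply, hiso x hxe, hiso z' hz', hs z' x, zero_add, add_zero, ← two_mul] at h1
  have h3 : β x z' = 0 := (mul_eq_zero.1 h1).resolve_left h2
  simp only [z', map_sub, map_sum, map_smul, smul_eq_mul] at h3
  rw [Finset.sum_eq_zero (fun i _ => by rw [hs x, hxe, mul_zero]), sub_zero] at h3
  exact h3

/-- Every value is taken perpendicular to a small orthogonal family. -/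
theorem perp_value {r : ℕ} (e : Fin r → M) (ho : ∀ i j, i ≠ j → β (e i) (e j) = 0) (ha : ∀ i, β (e i) (e i) ≠ 0)
    (hr : r + 2 ≤ Module.finrank K M) (c : K) : ∃ x, β x x = c ∧ ∀ i, β (e i) x = 0 := by
  classical
  letI := Fintype.ofFinite K
  obtain ⟨p, hp, hpe⟩ := perp_aniso β hs hn h2 e ho ha (by omega)
  obtain ⟨q, hq, hqe⟩ := perp_aniso β hs hn h2 (Fin.snoc e p) (fun i j hij => by
      induction i using Fin.lastCases with
      | last =>
        induction j using Fin.lastCases with
        | last => exact absurd rfl hij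
        | cast j => simp only [Fin.snoc_last, Fin.snoc_castSucc]; rw [hs]; exact hpe j
      | cast i =>
        induction j using Fin.lastCases with
        | last => simp only [Fin.snoc_last, Fin.snoc_castSucc]; exact hpe i
        | cast j => simp only [Fin.snoc_castSucc]; exact ho i j fun h => hij (by rw [h]))
    (fun i => by induction i using Fin.lastCases <;> simp [hp, ha]) (by omega)
  have hpq : β p q = 0 := by simpa using hqe (Fin.last r)
  have hqe' : ∀ i, β (e i) q = 0 := fun i => by simpa using hqe i.castSucc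
  obtain ⟨s, t, hst⟩ := FiniteField.exists_root_sum_quadratic (R := K)
    (f := Polynomial.C (β p p) * Polynomial.X ^ 2 - Polynomial.C c) (g := Polynomial.C (β q q) * Polynomial.X ^ 2)
    (by rw [Polynomial.degree_sub_eq_left_of_degree_lt] <;> rw [Polynomial.degree_C_mul_X_pow 2 hp]
        · rfl
        · exact lt_of_le_of_lt Polynomial.degree_C_le (by norm_num))
    (Polynomial.degree_C_mul_X_pow 2 hq)
    (FiniteField.odd_card_of_char_ne_two fun h => h2 (by haveI := ringChar.of_eq h; exact CharTwo.two_eq_zero))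
  simp only [Polynomial.eval_sub, Polynomial.eval_mul, Polynomial.eval_C, Polynomial.eval_pow, Polynomial.eval_X] at hst
  refine ⟨s • p + t • q, ?_, fun i => by rw [map_add, map_smul, map_smul, hpe, hqe', smul_zero, smul_zero, add_zero]⟩
  simp only [map_add, map_smul, LinearMap.add_apply, LinearMap.smul_apply, smul_eq_mul, hs q p, hpq]
  linear_combination hst

variable {F : Type w} [Field F] [Algebra F K] {V : Type*} [AddCommGroup V] [Module F V]

/-- A semilinear map preserving the anisotropic lines is a scalar. -/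
theorem comp_scalar (h3 : 3 ≤ Module.finrank K M) (j : M →+ V) (hj : Function.Injective j)
    (hjs : ∀ (t : F) m, j (algebraMap F K t • m) = t • j m) {f : V → V} (hadd : ∀ x y, f (x + y) = f x + f y)
    {τ : F ≃+* F} (hsmul : ∀ (t : F) x, f (t • x) = τ t • f x) (hinj : Function.Injective f)
    (hline : ∀ m, β m m ≠ 0 → ∃ c : K, f (j m) = j (c • m)) :
    τ = 1 ∧ ∃ c : K, c ≠ 0 ∧ ∀ m, f (j m) = j (c • m) := by
  classical
  have hf0 : f 0 = 0 := by
    have := hadd 0 0
    rw [add_zero] at this
    exact left_eq_add.1 this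
  have hfneg : ∀ x, f (-x) = -f x := fun x => eq_neg_of_add_eq_zero_left (by rw [← hadd, neg_add_cancel, hf0])
  have triple : ∀ a b, β a b = 0 → β a a ≠ 0 → β b b ≠ 0 → ∀ ca cb : K, f (j a) = j (ca • a) →
      f (j b) = j (cb • b) → ∀ t : F, algebraMap F K (τ t) * cb = ca * algebraMap F K t := by
    intro a b hab ha hb ca cb hca hcb t
    have hba : β b a = 0 := (hs b a).trans hab
    obtain ⟨e, he, hee⟩ := perp_aniso β hs hn h2 ![a, b]
      (fun i j hij => by fin_cases i <;> fin_cases j <;> first | exact absurd rfl hij | simpa) (fun i => by fin_cases i <;> simpa)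
      (by omega)
    have hae : β a e = 0 := by simpa using hee 0
    have hbe : β b e = 0 := by simpa using hee 1
    obtain ⟨ce, hce⟩ := hline e he
    set at' := algebraMap F K t
    obtain ⟨s, s', hs', hx⟩ : ∃ (s : F) (s' : K), algebraMap F K s = s' ∧
        β a a + at' * at' * β b b + s' * s' * β e e ≠ 0 := by
      by_cases h : β a a + at' * at' * β b b = 0
      · exact ⟨1, 1, map_one _, by rw [h, zero_add, one_mul, one_mul]; exact he⟩
      · exact ⟨0, 0, map_zero _, by simpa using h⟩
    have hxx : β (a + at' • b + s' • e) (a + at' • b + s' • e) ≠ 0 := by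
      simp only [map_add, map_smul, LinearMap.add_apply, LinearMap.smul_apply, smul_eq_mul, hab, hba, hae, hbe,
        hs e a, hs e b]
      convert hx using 1
      ring
    obtain ⟨d, hd⟩ := hline _ hxx
    have e1 : f (j (a + at' • b + s' • e)) = j (ca • a + (algebraMap F K (τ t) * cb) • b +
        (algebraMap F K (τ s) * ce) • e) := by
      rw [← hs', map_add, map_add, hjs, hjs, hadd, hadd, hsmul, hsmul, hca, hcb, hce, ← hjs, ← hjs, smul_smul,
        smul_smul, ← map_add, ← map_add]
    have e2 := hj (e1.symm.trans hd)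
    have h4 := congrArg (β a) e2
    have h5 := congrArg (β b) e2
    simp only [map_add, map_smul, smul_eq_mul, hab, hba, hae, hbe, mul_zero, add_zero, zero_add] at h4 h5
    have hd' : ca = d := mul_right_cancel₀ ha h4
    subst hd'
    exact mul_right_cancel₀ hb (by linear_combination h5)
  obtain ⟨a, ha, -⟩ := perp_aniso β hs hn h2 (r := 0) ![] (fun i => i.elim0) (fun i => i.elim0) (by omega)
  obtain ⟨b, hb, hb'⟩ := perp_aniso β hs hn h2 ![a] (fun i j hij => absurd (Subsingleton.elim i j) hij)
    (fun i => by fin_cases i; simpa) (by omega)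
  have hab : β a b = 0 := by simpa using hb' 0
  obtain ⟨c, hc⟩ := hline a ha
  obtain ⟨cb, hcb⟩ := hline b hb
  have key := triple a b hab ha hb c cb hc hcb
  have hcb' : cb = c := by simpa using key 1
  subst hcb'
  have hc0 : cb ≠ 0 := fun h0 => by
    rw [h0, zero_smul, map_zero, ← hf0] at hc
    have := hj ((hinj hc).trans (map_zero j).symm)
    exact ha (by rw [this, map_zero])
  have hτ : τ = 1 := RingEquiv.ext fun t => (algebraMap F K).injective (by
    have := key t
    rw [mul_comm cb] at this
    exact mul_right_cancel₀ hc0 this)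
  refine ⟨hτ, cb, hc0, fun m => ?_⟩
  have htr : ∀ x y, β x y = 0 → β x x ≠ 0 → β y y ≠ 0 → f (j y) = j (cb • y) → f (j x) = j (cb • x) := by
    intro x y hxy hx hy hfy
    obtain ⟨cx, hcx⟩ := hline x hx
    have := triple y x ((hs y x).trans hxy) hy hx cb cx hfy hcx 1
    simp only [map_one, mul_one, one_mul] at this
    rw [hcx, this]
  have hperp : ∀ x, β a x = 0 → f (j x) = j (cb • x) := by
    intro x hax
    by_cases hx : β x x = 0
    · rcases eq_or_ne x 0 with rfl | hx0
      · rw [map_zero, hf0, smul_zero, map_zero]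
      obtain ⟨d, hd⟩ := hline (a + x) (by
        simp only [map_add, LinearMap.add_apply, hax, hs x a, hx, add_zero]; exact ha)
      obtain ⟨d', hd'⟩ := hline (a + -x) (by
        simp only [map_add, map_neg, LinearMap.add_apply, LinearMap.neg_apply, hax, hs x a, hx, neg_zero, add_zero]
        exact ha)
      rw [map_add, hadd, hc, add_comm, ← eq_sub_iff_add_eq, ← map_sub] at hd
      rw [map_add, map_neg, hadd, hfneg, hc, hd, ← map_neg j, ← map_add] at hd'
      have h4 := congrArg (β a) (hj hd')
      simp only [map_add, map_sub, map_neg, map_smul, smul_eq_mul, hax] at h4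
      have h5 : d + d' = cb + cb := mul_right_cancel₀ ha (by linear_combination -h4)
      have h6 : (d' - d) • x = 0 := by
        have hd2 : d' = cb + cb - d := by linear_combination h5
        have h7 := hj hd'
        rw [hd2] at h7 ⊢
        linear_combination (norm := module) h7
      have h7 : d' = d := sub_eq_zero.1 ((smul_eq_zero.1 h6).resolve_right hx0)
      have h8 : d = cb := mul_left_cancel₀ h2 (by linear_combination h5 - h7)
      rw [hd, h8]
      congr 1
      module
    · exact htr x a ((hs x a).trans hax) hx ha hc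
  obtain ⟨l, x, hax, rfl⟩ : ∃ (l : K) (x : M), β a x = 0 ∧ l • a + x = m :=
    ⟨β a m / β a a, m - (β a m / β a a) • a, by rw [map_sub, map_smul, smul_eq_mul, div_mul_cancel₀ _ ha, sub_self],
      add_sub_cancel _ _⟩
  rw [map_add, hadd, hperp x hax, smul_add, map_add]
  congr 1
  rcases eq_or_ne l 0 with rfl | hl
  · rw [zero_smul, map_zero, hf0, smul_zero, map_zero]
  · exact htr _ b (by rw [map_smul, LinearMap.smul_apply, hab, smul_zero])
      (by simpa [hl] using ha) hb hcb

omit [Algebra F K] [Module F V] in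
/-- A group acting by the full isometry group: a normalised part of odd order squares to the identity. -/
theorem comp_core (h3 : Module.finrank K M ≠ 2) {H : Type*} [Group H] [Finite H] {X : Type*} [Group X] (ρ : H → V → V)
    (h1 : ∀ v, ρ 1 v = v) (hmul : ∀ a b v, ρ (a * b) v = ρ a (ρ b v)) (j : M →+ V) (hj : Function.Injective j)
    (hres : ∀ s, ∃ T : M →ₗ[K] M, (∀ m, ρ s (j m) = j (T m)) ∧ ∀ x y, β (T x) (T y) = β x y)
    (hsurj : ∀ T : M →ₗ[K] M, (∀ x y, β (T x) (T y) = β x y) → ∃ s, ∀ m, ρ s (j m) = j (T m))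
    (φ : H →* X) (hker : ∀ s, φ s = 1 → ∃ c : K, ∀ m, ρ s (j m) = j (c • m)) (N : Subgroup H) [N.Normal]
    (R : Subgroup X) (hR : Odd (Nat.card R)) (hRn : ∀ s, ∀ r ∈ R, φ s * r * (φ s)⁻¹ ∈ R) :
    ∀ s ∈ N, φ s ∈ R → ∀ m, ρ s (ρ s (j m)) = j m := by
  classical
  choose T hT hTi using hres
  let n := Module.finrank K M
  let b : Module.Basis (Fin n) K M := Module.finBasis K M
  set G : Matrix (Fin n) (Fin n) K := LinearMap.BilinForm.toMatrix b β
  have hG : G.transpose = G := by
    ext i k
    simp only [G, Matrix.transpose_apply, LinearMap.BilinForm.toMatrix_apply]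
    exact hs _ _
  have hd : G.det ≠ 0 := (LinearMap.BilinForm.nondegenerate_iff_det_ne_zero b).1 hn
  let t : H →* Matrix (Fin n) (Fin n) K :=
    { toFun := fun s => LinearMap.toMatrix b b (T s)
      map_one' := by
        rw [← LinearMap.toMatrix_id b]
        congr 1
        refine LinearMap.ext fun m => hj ?_
        rw [← hT, h1]; rfl
      map_mul' := fun x y => by
        rw [← LinearMap.toMatrix_comp b b b]
        congr 1
        refine LinearMap.ext fun m => hj ?_
        rw [← hT, hmul, hT, hT]; rfl }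
  let res : H →* Matrix.GeneralLinearGroup (Fin n) K := t.toHomUnits
  have horth : ∀ s, res s ∈ orthGrp G := fun s => by
    rw [mem_orthGrp]
    have h4 : β.comp (T s) (T s) = β := LinearMap.ext₂ (hTi s)
    have h5 := congrArg (LinearMap.BilinForm.toMatrix b) h4
    rwa [LinearMap.BilinForm.toMatrix_comp b b] at h5
  have hsurj' : ∀ g ∈ orthGrp G, ∃ s, res s = g := fun g hg => by
    set L := Matrix.toLin b b (g : Matrix (Fin n) (Fin n) K)
    have h4 : β.comp L L = β := by
      refine (LinearMap.BilinForm.toMatrix b).injective ?_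
      rw [LinearMap.BilinForm.toMatrix_comp b b, LinearMap.toMatrix_toLin]
      exact mem_orthGrp.1 hg
    obtain ⟨s, hs'⟩ := hsurj L fun x y => LinearMap.congr_fun₂ h4 x y
    refine ⟨s, Units.ext ?_⟩
    show LinearMap.toMatrix b b (T s) = _
    rw [show T s = L from LinearMap.ext fun m => hj ((hT s m).symm.trans (hs' m)), LinearMap.toMatrix_toLin]
  have hsc : ∀ (s : H) (c : K), (∀ m, ρ s (j m) = j (c • m)) → res s ∈ Subgroup.center _ := fun s c hc => by
    refine Matrix.GeneralLinearGroup.mem_center_iff_val_mem_range_scalar.2 ⟨c, ?_⟩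
    show _ = LinearMap.toMatrix b b (T s)
    rw [show T s = c • LinearMap.id from LinearMap.ext fun m => hj ((hT s m).symm.trans (hc m)), map_smul,
      LinearMap.toMatrix_id, Matrix.scalar_apply, Matrix.smul_one_eq_diagonal]
  set Rt : Subgroup H := N ⊓ R.comap φ
  have hRt : ∀ x, ∀ r ∈ Rt, x * r * x⁻¹ ∈ Rt := fun x r hr =>
    ⟨Subgroup.Normal.conj_mem ‹_› r hr.1 x, by
      show φ _ ∈ R
      rw [map_mul, map_mul, map_inv]; exact hRn x _ hr.2⟩
  have hle : Rt.map res ≤ orthGrp G := by rintro _ ⟨s, -, rfl⟩; exact horth s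
  have hnorm : ∀ g ∈ orthGrp G, ∀ r ∈ Rt.map res, g * r * g⁻¹ ∈ Rt.map res := by
    rintro g hg _ ⟨r, hr, rfl⟩
    obtain ⟨s, rfl⟩ := hsurj' g hg
    exact ⟨s * r * s⁻¹, hRt s r hr, by rw [map_mul, map_mul, map_inv]⟩
  have hodd : Odd ((Subgroup.center _).relIndex (Rt.map res)) := by
    rw [← Subgroup.relIndex_comap]
    refine Odd.of_dvd_nat hR (dvd_trans (Subgroup.relIndex_dvd_of_le_left Rt (H := φ.ker) fun s hs' => ?_) ?_)
    · obtain ⟨c, hc⟩ := hker s hs'
      exact hsc s c hc
    · rw [← MonoidHom.comap_bot, Subgroup.relIndex_comap, Subgroup.relIndex_bot_left]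
      exact Subgroup.card_dvd_of_le (by rintro _ ⟨s, hs', rfl⟩; exact hs'.2)
  intro s hsN hsR m
  have hc : res s ∈ Subgroup.center _ := by
    rcases Nat.lt_or_ge n 3 with hn3 | hn3
    · have : Subsingleton (Fin n) := Fin.subsingleton_iff_le_one.2 (by omega)
      refine Matrix.GeneralLinearGroup.mem_center_iff_val_mem_range_scalar.2
        ⟨∑ i, (res s : Matrix (Fin n) (Fin n) K) i i, Matrix.ext fun i k => ?_⟩
      rw [Subsingleton.elim k i, Matrix.scalar_apply, Matrix.diagonal_apply_eq,
        Fintype.sum_eq_single i fun x hx => absurd (Subsingleton.elim x i) hx]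
    · exact scalar_of_odd_orbits h2 hG hd hn3 hle hnorm hodd ⟨s, ⟨hsN, hsR⟩, rfl⟩
  obtain ⟨c, hc⟩ := Matrix.GeneralLinearGroup.mem_center_iff_val_mem_range_scalar.1 hc
  have hTc : T s = c • LinearMap.id := by
    refine (LinearMap.toMatrix b b).injective ?_
    rw [map_smul, LinearMap.toMatrix_id, ← Matrix.scalar_apply c |>.trans (Matrix.smul_one_eq_diagonal c).symm]
    exact hc.symm
  rw [hT, hT, hTc]
  congr 1
  show c • c • m = m
  rcases eq_or_ne m 0 with rfl | hm
  · simp
  obtain ⟨y, hy⟩ : ∃ y, β m y ≠ 0 := by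
    by_contra hne
    push Not at hne
    exact hm (hn.1 m hne)
  have h4 := hTi s m y
  simp only [hTc, LinearMap.smul_apply, LinearMap.id_apply, map_smul, smul_eq_mul] at h4
  rw [smul_smul, show c * c = 1 from mul_right_cancel₀ hy (by linear_combination h4), one_smul]

end Cfsg.Lib.Balance
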