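import Cfsg.Agent.Known.FormNormal
import Cfsg.Agent.Known.Unit.Trans
import Cfsg.Agent.Classical.Unitary.Matrix

/-!
Semilinear maps fixing rational lines: all lines, the isotropic lines of a Hermitian form, the isotropic lines of a
symmetric form; Siegel transformations of a symmetric form.
-/

set_option autoImplicit false
set_option linter.unusedSectionVars false

namespace Cfsg.Lib.Balance

open Matrix Cfsg.Lib.Classical

universe u v

variable {F : Type u} [Field F] {n : ℕ} {k : Type v} [Field k] {e₀ : k →+* F} {g : Matrix (Fin n) (Fin n) F}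
  {τ : F ≃+* F}

/-- A rational vector. -/
abbrev rat (e₀ : k →+* F) (v : Fin n → k) : Fin n → F := ⇑e₀ ∘ v

/-- The image of a rational vector under a semilinear map. -/
abbrev simg (e₀ : k →+* F) (g : Matrix (Fin n) (Fin n) F) (τ : F ≃+* F) (v : Fin n → k) : Fin n → F :=
  g *ᵥ (⇑τ ∘ (⇑e₀ ∘ v))

theorem rat_add (v w : Fin n → k) : rat e₀ (v + w) = rat e₀ v + rat e₀ w := by funext i; simp [rat]

theorem rat_smul (a : k) (v : Fin n → k) : rat e₀ (a • v) = e₀ a • rat e₀ v := by funext i; simp [rat]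

theorem simg_add (v w : Fin n → k) : simg e₀ g τ (v + w) = simg e₀ g τ v + simg e₀ g τ w := by
  rw [simg, simg, simg, ← mulVec_add]
  congr 1; funext i; simp

theorem simg_smul (a : k) (v : Fin n → k) : simg e₀ g τ (a • v) = τ (e₀ a) • simg e₀ g τ v := by
  rw [simg, simg, ← mulVec_smul]
  congr 1; funext i; simp

theorem rat_ne_zero {v : Fin n → k} (hv : v ≠ 0) : rat e₀ v ≠ 0 := fun h =>
  hv (funext fun i => e₀.injective ((congrFun h i).trans (map_zero e₀).symm))

theorem rat_zero : rat e₀ (0 : Fin n → k) = 0 := by funext i; simp [rat]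

theorem rat_dot (v w : Fin n → k) : rat e₀ v ⬝ᵥ rat e₀ w = e₀ (v ⬝ᵥ w) := by
  simp [rat, dotProduct, map_sum]

theorem simg_ne_zero (hg : IsUnit g) {v : Fin n → k} (hv : v ≠ 0) : simg e₀ g τ v ≠ 0 := by
  intro h
  have h0 : ⇑τ ∘ (⇑e₀ ∘ v) = 0 := mulVec_injective_iff_isUnit.2 hg (by
    show g *ᵥ _ = g *ᵥ 0
    rw [mulVec_zero]; exact h)
  exact hv (funext fun i => e₀.injective (τ.injective ((congrFun h0 i).trans (by simp))))

theorem rat_single [DecidableEq (Fin n)] (i : Fin n) :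
    rat e₀ (Pi.single i 1 : Fin n → k) = Pi.single i 1 := by
  funext j; by_cases h : j = i <;> simp [rat, h]

/-- A semilinear map that is a scalar on rational vectors. -/
theorem eq_scalar {μ : F} (hτ : ∀ a, τ (e₀ a) = e₀ a) (h : ∀ v, simg e₀ g τ v = μ • rat e₀ v) : g = μ • 1 := by
  refine Matrix.ext_of_mulVec_single fun i => ?_
  have h1 := h (Pi.single i 1)
  rw [rat_single] at h1
  rw [smul_mulVec, one_mulVec, ← h1, simg]
  congr 1
  rw [← rat_single (e₀ := e₀) i]
  funext j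
  exact (hτ _).symm

/-- All rational lines are fixed. -/
theorem all_lines (hn : 2 ≤ n) (hg : IsUnit g)
    (h : ∀ v : Fin n → k, v ≠ 0 → ∃ d : F, simg e₀ g τ v = d • rat e₀ v) :
    ∃ μ : F, μ ≠ 0 ∧ g = μ • 1 ∧ ∀ a, τ (e₀ a) = e₀ a := by
  classical
  choose d hd using fun i : Fin n => h (Pi.single i 1) (Pi.single_ne_zero_iff.2 one_ne_zero)
  let o : Fin n := ⟨0, by omega⟩
  have key : ∀ i j, i ≠ j → ∀ a : k, ∃ s : F, τ (e₀ a) * d j = s * e₀ a ∧ d i = s := by
    intro i j hij a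
    obtain ⟨s, hs⟩ := h (Pi.single i 1 + a • Pi.single j 1) (fun h0 => by simpa [hij] using congrFun h0 i)
    rw [simg_add, simg_smul, hd, hd, rat_add, rat_smul, rat_single, rat_single] at hs
    have h1 := congrFun hs i
    have h2 := congrFun hs j
    simp [hij, hij.symm] at h1 h2
    exact ⟨s, h2, h1⟩
  have hdeq : ∀ j, d j = d o := fun j => by
    rcases eq_or_ne j o with rfl | hj
    · rfl
    obtain ⟨s, h1, h2⟩ := key o j hj.symm 1
    simpa [h2] using h1
  have hd0 : d o ≠ 0 := fun h0 => simg_ne_zero (e₀ := e₀) (τ := τ) hg (v := Pi.single o 1)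
    (Pi.single_ne_zero_iff.2 one_ne_zero) (by rw [hd, h0, zero_smul])
  have hτ : ∀ a, τ (e₀ a) = e₀ a := fun a => by
    obtain ⟨s, h1, h2⟩ := key o ⟨1, by omega⟩ (by simp [o]) a
    rw [hdeq, ← h2, mul_comm (d o)] at h1
    exact mul_right_cancel₀ hd0 h1
  refine ⟨d o, hd0, eq_scalar hτ fun v => ?_, hτ⟩
  obtain ⟨s, rfl⟩ : ∃ s : Fin n → k, (∑ i, s i • (Pi.single i 1 : Fin n → k)) = v :=
    ⟨v, (pi_eq_sum_univ' v).symm⟩
  induction (Finset.univ : Finset (Fin n)) using Finset.induction_on with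
  | empty => simp [simg, rat_zero, show ⇑τ ∘ (0 : Fin n → F) = 0 from funext fun _ => map_zero τ]
  | insert i t hi ih =>
    rw [Finset.sum_insert hi, simg_add, simg_smul, rat_add, rat_smul, hd, ih, smul_add, hdeq, hτ, smul_comm]

/-- The isotropic rational lines of a Hermitian form are fixed. -/
theorem herm_lines [Fintype k] {q : ℕ} (hk : Fintype.card k = q ^ 2) (hn : 3 ≤ n) (hg : IsUnit g)
    (h : ∀ v : Fin n → k, v ≠ 0 → (stdHerm n hk).h v v = 0 → ∃ d : F, simg e₀ g τ v = d • rat e₀ v) :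
    ∃ μ : F, μ ≠ 0 ∧ g = μ • 1 ∧ ∀ a, τ (e₀ a) = e₀ a := by
  classical
  set H := stdHerm n hk with hH
  obtain ⟨e, he0, he⟩ := H.exists_isotropic_of_two_le (by rw [Module.finrank_fin_fun]; omega)
  obtain ⟨f₁, hef, hff⟩ := H.exists_hyperbolic he0 he
  let P : Cfsg.Lib.Unitary.Frame H := ⟨e, f₁, he, hff, by rw [H.symm, hef, map_one]⟩
  obtain ⟨a, ha⟩ := h P.e P.e_ne P.he
  obtain ⟨b, hb⟩ := h P.f P.f_ne P.hf
  have hb0 : b ≠ 0 := fun h0 => simg_ne_zero hg P.f_ne (by rw [hb, h0, zero_smul])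
  -- rational functionals
  let L : (Fin n → k) → (Fin n → F) → F := fun y x => x ⬝ᵥ rat e₀ (⇑(powConj hk) ∘ y)
  have hL : ∀ y v, L y (rat e₀ v) = e₀ (H.h v y) := fun y v => rat_dot v _
  have hLadd : ∀ y x z, L y (x + z) = L y x + L y z := fun y x z => add_dotProduct _ _ _
  have hLsmul : ∀ y (c : F) x, L y (c • x) = c * L y x := fun y c x => smul_dotProduct _ _ _
  have hpt : ∀ w c, P.Valid w c → ∃ γ : F, b • rat e₀ P.f + simg e₀ g τ w + (τ (e₀ c) * a) • rat e₀ P.e =
      γ • (rat e₀ P.f + rat e₀ w + e₀ c • rat e₀ P.e) := fun w c hv => by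
    obtain ⟨γ, hγ⟩ := h (P.pt w c) (P.pt_ne hv) (P.pt_iso hv)
    refine ⟨γ, ?_⟩
    rw [Cfsg.Lib.Unitary.Frame.pt, simg_add, simg_add, simg_smul, ha, hb, smul_smul, rat_add, rat_add,
      rat_smul] at hγ
    exact hγ
  obtain ⟨s, hs0, hs⟩ := H.conj.exists_skew
  have hrs : e₀ s ≠ 0 := (map_ne_zero e₀).2 hs0
  have hskew : P.Valid 0 s := ⟨zero_mem _, by rw [hs, H.zero_left, neg_zero]⟩
  have has : τ (e₀ s) * a = b * e₀ s := by
    obtain ⟨γ, hγ⟩ := hpt _ _ hskew
    have h0 : simg e₀ g τ 0 = 0 := by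
      rw [simg, show ⇑τ ∘ (⇑e₀ ∘ (0 : Fin n → k)) = 0 from funext fun _ => by simp, mulVec_zero]
    have h1 := congrArg (L P.e) hγ
    have h2 := congrArg (L P.f) hγ
    simp only [hLadd, hLsmul, hL, h0, rat_zero, show ∀ y, L y 0 = 0 from fun y => zero_dotProduct _, P.hf,
      P.hfe, P.he, P.hef, map_zero, map_one] at h1 h2
    ring_nf at h1 h2
    rw [← h1] at h2
    linear_combination h2
  have hW : ∀ w ∈ P.W, ∃ d : F, simg e₀ g τ w = b • rat e₀ w + d • rat e₀ P.e ∧
      ∀ c, P.Valid w c → d = b * e₀ c - τ (e₀ c) * a := by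
    intro w hw
    have hlow : ∀ c, P.Valid w c → simg e₀ g τ w = b • rat e₀ w + (b * e₀ c - τ (e₀ c) * a) • rat e₀ P.e := by
      intro c hv
      obtain ⟨γ, hγ⟩ := hpt _ _ hv
      have hv' : P.Valid w (c + s) := ⟨hw, by rw [map_add]; linear_combination hv.2 + hs⟩
      obtain ⟨γ', hγ'⟩ := hpt _ _ hv'
      obtain ⟨hwe, hwf⟩ := P.mem_W.1 hw
      have h1 := congrArg (L P.e) hγ
      have h2 := congrArg (L P.f) hγ
      have h1' := congrArg (L P.e) hγ'
      have h2' := congrArg (L P.f) hγ'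
      simp only [hLadd, hLsmul, hL, P.hf, P.hfe, P.he, P.hef, hwe, hwf, map_zero, map_one, map_add] at h1 h2 h1' h2'
      have hγγ : γ' = γ := by linear_combination h1 - h1'
      subst hγγ
      have hγb : γ' = b := mul_right_cancel₀ hrs (by linear_combination h2 - h2' + has)
      subst hγb
      linear_combination (norm := module) hγ
    obtain ⟨c, hc⟩ := P.exists_valid hw
    refine ⟨_, hlow c hc, fun c' hc' => ?_⟩
    have h1 := congrArg (L P.f) ((hlow c hc).symm.trans (hlow c' hc'))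
    simpa [hLadd, hLsmul, hL, P.hef] using h1
  obtain ⟨w, hw, hww⟩ : ∃ w ∈ P.W, H.h w w ≠ 0 := by
    have : Nontrivial P.W := Module.nontrivial_of_finrank_pos (R := k)
      (by rw [P.finrank_W, Module.finrank_fin_fun]; omega)
    obtain ⟨w, hw⟩ := (H.restrict P.W P.nondeg_W).exists_anisotropic
    exact ⟨w.1, w.2, hw⟩
  have hτ : ∀ t, τ (e₀ t) = e₀ t := fun t => by
    obtain ⟨d, hd, -⟩ := hW _ hw
    obtain ⟨d', hd', -⟩ := hW _ (P.W.smul_mem t hw)
    rw [simg_smul, hd, rat_smul] at hd'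
    have h1 := congrArg (L w) hd'
    simp only [hLadd, hLsmul, hL, H.eq_zero_symm (P.mem_W.1 hw).1, map_zero, mul_zero, add_zero] at h1
    exact mul_right_cancel₀ (mul_ne_zero hb0 ((map_ne_zero e₀).2 hww)) (by linear_combination h1)
  have hab : a = b := by
    rw [hτ, mul_comm b] at has
    exact mul_left_cancel₀ hrs has
  have hW' : ∀ w ∈ P.W, simg e₀ g τ w = b • rat e₀ w := fun w hw => by
    obtain ⟨d, hd, hc⟩ := hW w hw
    obtain ⟨c, hv⟩ := P.exists_valid hw
    rw [hd, hc c hv, hτ, hab, mul_comm, sub_self, zero_smul, add_zero]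
  refine ⟨b, hb0, eq_scalar hτ fun x => ?_, hτ⟩
  rw [P.decomp x]
  simp only [simg_add, simg_smul, rat_add, rat_smul, ha, hb, hab, hτ, hW' _ (P.proj_mem x)]
  module

section Transv

variable [DecidableEq (Fin n)]

/-- A rank one unipotent that is moved to a scalar multiple of another one. -/
theorem line_of_transv (hg : IsUnit g) {v φ v' φ' : Fin n → k} (hφ : φ ≠ 0) (hp : φ ⬝ᵥ v = 0) (hv' : v' ≠ 0)
    (hφ' : φ' ≠ 0) (hp' : φ' ⬝ᵥ v' = 0) {c : F}
    (h : g * ((1 + vecMulVec v φ).map e₀).map τ = c • ((1 + vecMulVec v' φ').map e₀ * g)) :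
    ∃ d : F, simg e₀ g τ v = d • rat e₀ v' := by
  set N : Matrix (Fin n) (Fin n) F := vecMulVec (rat e₀ v') (rat e₀ φ')
  set M : Matrix (Fin n) (Fin n) F := vecMulVec (⇑τ ∘ rat e₀ v) (⇑τ ∘ rat e₀ φ)
  have e1 : (1 + vecMulVec v' φ').map e₀ = 1 + N := by
    rw [Matrix.map_add e₀ (map_add e₀), Matrix.map_one e₀ (map_zero e₀) (map_one e₀)]
    congr 1
    ext i j; simp [N, rat, vecMulVec_apply]
  have e2 : ((1 + vecMulVec v φ).map e₀).map τ = 1 + M := by
    ext i j; by_cases hij : i = j <;> simp [M, rat, vecMulVec_apply, Matrix.one_apply, hij]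
  rw [e1, e2, mul_add, mul_one, add_mul, one_mul, smul_add] at h
  have hN : N * N = 0 := by
    rw [vecMulVec_mul_vecMulVec, rat_dot, hp', map_zero]; simp
  have hM : M * M = 0 := by
    rw [vecMulVec_mul_vecMulVec, show (⇑τ ∘ rat e₀ φ) ⬝ᵥ (⇑τ ∘ rat e₀ v) = 0 by
      have h0 : τ (rat e₀ φ ⬝ᵥ rat e₀ v) = 0 := by rw [rat_dot, hp, map_zero, map_zero]
      simpa [dotProduct, map_sum] using h0]
    simp
  have hc : c = 1 := by
    have hgM : g * M = ((c - 1) • (1 : Matrix (Fin n) (Fin n) F) + c • N) * g := by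
      rw [add_mul, smul_mul_assoc, one_mul, smul_mul_assoc, sub_smul, one_smul]
      linear_combination (norm := module) h
    have h2 : ((c - 1) • (1 : Matrix (Fin n) (Fin n) F) + c • N) *
        ((c - 1) • (1 : Matrix (Fin n) (Fin n) F) + c • N) = 0 := by
      refine hg.mul_left_eq_zero.1 ?_
      rw [mul_assoc, ← hgM, ← mul_assoc, ← hgM, mul_assoc, hM, mul_zero]
    have h3 := congrArg (fun X => X * N) h2
    simp only [add_mul, mul_add, smul_mul_assoc, mul_smul_comm, one_mul, mul_one, hN, smul_zero, add_zero,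
      zero_mul, smul_smul] at h3
    have hN0 : N ≠ 0 := by
      obtain ⟨i, hi⟩ := Function.ne_iff.1 hv'
      obtain ⟨j, hj⟩ := Function.ne_iff.1 hφ'
      intro h0
      have := congrFun (congrFun h0 i) j
      simp only [N] at this
      rw [vecMulVec_apply, Matrix.zero_apply, mul_eq_zero] at this
      exact this.elim ((map_ne_zero e₀).2 hi) ((map_ne_zero e₀).2 hj)
    rw [smul_eq_zero, or_iff_left hN0, mul_self_eq_zero, sub_eq_zero] at h3
    exact h3
  subst hc
  rw [one_smul, one_smul, add_right_inj] at h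
  obtain ⟨j, hj⟩ := Function.ne_iff.1 hφ
  have hj' : τ (e₀ (φ j)) ≠ 0 := (map_ne_zero τ).2 ((map_ne_zero e₀).2 hj)
  refine ⟨(rat e₀ φ' ⬝ᵥ (g *ᵥ Pi.single j 1)) / τ (e₀ (φ j)), ?_⟩
  have h1 := congrArg (fun X => X *ᵥ (Pi.single j 1 : Fin n → F)) h
  simp only [← mulVec_mulVec, N, M, vecMulVec_mulVec, mulVec_smul, op_smul_eq_smul] at h1
  rw [show (⇑τ ∘ rat e₀ φ) ⬝ᵥ (Pi.single j 1 : Fin n → F) = τ (e₀ (φ j)) by simp [rat]] at h1
  rw [div_eq_inv_mul, mul_smul, ← h1, smul_smul, inv_mul_cancel₀ hj', one_smul]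

end Transv

section Symm

variable {R : Type*} [Field R]

/-- The bilinear form of a matrix. -/
abbrev bil (G : Matrix (Fin n) (Fin n) R) (x y : Fin n → R) : R := x ⬝ᵥ (G *ᵥ y)

theorem bil_comm {G : Matrix (Fin n) (Fin n) R} (hG : Gᵀ = G) (x y : Fin n → R) : bil G x y = bil G y x := by
  rw [bil, bil, dotProduct_mulVec, ← mulVec_transpose, hG, dotProduct_comm]

/-- A Siegel transformation of a symmetric form. -/
def siegelS (G : Matrix (Fin n) (Fin n) R) (e z : Fin n → R) : Matrix (Fin n) (Fin n) R :=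
  1 + vecMulVec z (G *ᵥ e) - vecMulVec e (G *ᵥ z) - (bil G z z / 2) • vecMulVec e (G *ᵥ e)

theorem siegelS_mulVec {G : Matrix (Fin n) (Fin n) R} (e z x : Fin n → R) :
    siegelS G e z *ᵥ x = x + bil G x e • z - bil G x z • e - (bil G z z / 2 * bil G x e) • e := by
  simp only [siegelS, sub_mulVec, add_mulVec, one_mulVec, smul_mulVec, vecMulVec_mulVec, op_smul_eq_smul, smul_smul]
  rw [dotProduct_comm (G *ᵥ e) x, dotProduct_comm (G *ᵥ z) x]

variable {G : Matrix (Fin n) (Fin n) R}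

theorem bil_add (x y z : Fin n → R) : bil G (x + y) z = bil G x z + bil G y z := add_dotProduct _ _ _

theorem bil_add' (x y z : Fin n → R) : bil G x (y + z) = bil G x y + bil G x z := by
  rw [bil, bil, bil, mulVec_add, dotProduct_add]

theorem bil_smul (c : R) (x y : Fin n → R) : bil G (c • x) y = c * bil G x y := smul_dotProduct _ _ _

theorem bil_smul' (c : R) (x y : Fin n → R) : bil G x (c • y) = c * bil G x y := by
  rw [bil, bil, mulVec_smul, dotProduct_smul, smul_eq_mul]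

theorem bil_sub (x y z : Fin n → R) : bil G (x - y) z = bil G x z - bil G y z := sub_dotProduct _ _ _

theorem bil_sub' (x y z : Fin n → R) : bil G x (y - z) = bil G x y - bil G x z := by
  rw [bil, bil, bil, mulVec_sub, dotProduct_sub]

theorem siegelS_mul (h2 : (2 : R) ≠ 0) (hG : Gᵀ = G) {e z w : Fin n → R} (he : bil G e e = 0) (hz : bil G z e = 0)
    (hw : bil G w e = 0) : siegelS G e z * siegelS G e w = siegelS G e (z + w) := by
  refine Matrix.ext_of_mulVec_single fun i => ?_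
  rw [← mulVec_mulVec]
  simp only [siegelS_mulVec, bil_add, bil_add', bil_sub, bil_smul, hw, he, mul_zero, add_zero, sub_zero]
  rw [bil_comm hG e z, hz, bil_comm hG w z]
  match_scalars <;> field_simp <;> ring

theorem bil_siegelS (h2 : (2 : R) ≠ 0) (hG : Gᵀ = G) {e z : Fin n → R} (he : bil G e e = 0) (hz : bil G z e = 0)
    (x y : Fin n → R) : bil G (siegelS G e z *ᵥ x) (siegelS G e z *ᵥ y) = bil G x y := by
  simp only [siegelS_mulVec, bil_add, bil_add', bil_sub, bil_sub', bil_smul, bil_smul', he, hz,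
    bil_comm hG e z, bil_comm hG e y, bil_comm hG z y]
  field_simp
  ring

theorem siegelS_isometry (h2 : (2 : R) ≠ 0) (hG : Gᵀ = G) {e z : Fin n → R} (he : bil G e e = 0)
    (hz : bil G z e = 0) : (siegelS G e z)ᵀ * G * siegelS G e z = G := by
  ext i j
  have h := bil_siegelS h2 hG he hz (Pi.single i 1) (Pi.single j 1)
  simp only [bil, mulVec_mulVec, mulVec_single_one, single_one_dotProduct] at h
  rw [Matrix.mul_assoc]
  exact h

theorem det_siegelS (h2 : (2 : R) ≠ 0) (hG : Gᵀ = G) (hd : G.det ≠ 0) {e z : Fin n → R} (he : bil G e e = 0)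
    (hz : bil G z e = 0) : (siegelS G e z).det = 1 := by
  set w := (2 : R)⁻¹ • z
  have hw : bil G w e = 0 := by rw [bil_smul, hz, mul_zero]
  have hs : z = w + w := by rw [← add_smul, ← two_mul, mul_inv_cancel₀ h2, one_smul]
  have h1 := congrArg Matrix.det (siegelS_isometry h2 hG he hw)
  rw [det_mul, det_mul, det_transpose] at h1
  rw [hs, ← siegelS_mul h2 hG he hw hw, det_mul]
  exact mul_right_cancel₀ hd (by linear_combination h1)

/-- A symmetric nondegenerate form has a rational hyperbolic pair. -/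
theorem exists_hyp [Finite R] (h2 : (2 : R) ≠ 0) (hG : Gᵀ = G) (hd : G.det ≠ 0) (hn : 3 ≤ n) :
    ∃ e f : Fin n → R, bil G e e = 0 ∧ bil G f f = 0 ∧ bil G e f = 1 := by
  classical
  obtain ⟨e, -, he0, he⟩ := FormNormal.exists_singular (Matrix.toBilin' G).toQuadraticMap ⊤
    (by rw [finrank_top, Module.finrank_fin_fun]; exact hn)
  rw [LinearMap.BilinMap.toQuadraticMap_apply, Matrix.toBilin'_apply'] at he
  obtain ⟨y, hy⟩ : ∃ y, bil G e y ≠ 0 := by
    by_contra h
    push Not at h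
    refine he0 ?_
    have hG' : G *ᵥ e = 0 := dotProduct_eq_zero _ fun w => by
      rw [dotProduct_comm]; exact (bil_comm hG w e).trans (h w)
    by_contra hne
    exact hd (Matrix.exists_mulVec_eq_zero_iff.1 ⟨e, hne, hG'⟩)
  obtain ⟨y', hy'⟩ : ∃ y', bil G e y' = 1 := ⟨(bil G e y)⁻¹ • y, by rw [bil_smul', inv_mul_cancel₀ hy]⟩
  refine ⟨e, y' - (bil G y' y' / 2) • e, he, ?_, ?_⟩
  · rw [bil_sub, bil_sub', bil_sub', bil_smul, bil_smul, bil_smul', bil_smul', bil_comm hG y' e, hy',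
      show bil G e e = 0 from he]
    field_simp
    ring
  · rw [bil_sub', bil_smul', hy', show bil G e e = 0 from he, mul_zero, sub_zero]

/-- A vector orthogonal to two given vectors. -/
theorem exists_perp_two (hn : 3 ≤ n) (x y : Fin n → R) :
    ∃ z : Fin n → R, z ≠ 0 ∧ x ⬝ᵥ z = 0 ∧ y ⬝ᵥ z = 0 := by
  let L : (Fin n → R) →ₗ[R] (Fin 2 → R) := (Matrix.of ![x, y]).mulVecLin
  have h : LinearMap.ker L ≠ ⊥ := fun h => by
    have := LinearMap.finrank_le_finrank_of_injective (LinearMap.ker_eq_bot.1 h)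
    simp at this
    omega
  obtain ⟨z, hz, hz0⟩ := Submodule.exists_mem_ne_zero_of_ne_bot h
  rw [LinearMap.mem_ker] at hz
  exact ⟨z, hz0, congrFun hz 0, congrFun hz 1⟩

/-- The orthogonal complement of a hyperbolic pair. -/
theorem frame_facts (hG : Gᵀ = G) (hd : G.det ≠ 0) {e f : Fin n → R} (he : bil G e e = 0) (hf : bil G f f = 0)
    (hef : bil G e f = 1) :
    (∀ x : Fin n → R, ∃ w, bil G w e = 0 ∧ bil G w f = 0 ∧ x = bil G x f • e + bil G x e • f + w) ∧
      ∀ w : Fin n → R, bil G w e = 0 → bil G w f = 0 → w ≠ 0 →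
        ∃ y, bil G y e = 0 ∧ bil G y f = 0 ∧ bil G w y ≠ 0 := by
  have hfe : bil G f e = 1 := (bil_comm hG f e).trans hef
  have hdec : ∀ x : Fin n → R, ∃ w, bil G w e = 0 ∧ bil G w f = 0 ∧ x = bil G x f • e + bil G x e • f + w :=
    fun x => ⟨x - bil G x f • e - bil G x e • f,
      by rw [bil_sub, bil_sub, bil_smul, bil_smul, he, hfe]; ring,
      by rw [bil_sub, bil_sub, bil_smul, bil_smul, hef, hf]; ring, by module⟩
  refine ⟨hdec, fun w hwe hwf hw => ?_⟩
  obtain ⟨x, hx⟩ : ∃ x, bil G w x ≠ 0 := by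
    by_contra h
    push Not at h
    refine hd (Matrix.exists_mulVec_eq_zero_iff.1 ⟨w, hw, dotProduct_eq_zero _ fun x => ?_⟩)
    rw [dotProduct_comm]; exact (bil_comm hG x w).trans (h x)
  obtain ⟨y, hye, hyf, hdx⟩ := hdec x
  refine ⟨y, hye, hyf, fun h0 => hx ?_⟩
  rw [hdx, bil_add', bil_add', bil_smul', bil_smul', hwe, hwf, h0]
  ring

end Symm

/-- The isotropic rational lines of a symmetric form are fixed. -/
theorem symm_lines [Finite k] (h2 : (2 : k) ≠ 0) {G : Matrix (Fin n) (Fin n) k} (hG : Gᵀ = G) (hd : G.det ≠ 0)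
    (hn : 3 ≤ n) (hg : IsUnit g)
    (h : ∀ v : Fin n → k, v ≠ 0 → bil G v v = 0 → ∃ d : F, simg e₀ g τ v = d • rat e₀ v) :
    ∃ μ : F, μ ≠ 0 ∧ g = μ • 1 ∧ ∀ a, τ (e₀ a) = e₀ a := by
  classical
  obtain ⟨e, f, he, hf, hef⟩ := exists_hyp h2 hG hd hn
  obtain ⟨hdec, hnd⟩ := frame_facts hG hd he hf hef
  have hfe : bil G f e = 1 := (bil_comm hG f e).trans hef
  have he0 : e ≠ 0 := fun h0 => by rw [h0, bil, zero_dotProduct] at hef; exact zero_ne_one hef
  have hf0 : f ≠ 0 := fun h0 => by rw [h0, bil, zero_dotProduct] at hfe; exact zero_ne_one hfe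
  obtain ⟨a, ha⟩ := h e he0 he
  obtain ⟨b, hb⟩ := h f hf0 hf
  have hb0 : b ≠ 0 := fun h0 => simg_ne_zero hg hf0 (by rw [hb, h0, zero_smul])
  let L : (Fin n → k) → (Fin n → F) → F := fun y x => x ⬝ᵥ rat e₀ (G *ᵥ y)
  have hL : ∀ y v, L y (rat e₀ v) = e₀ (bil G v y) := fun y v => rat_dot v _
  have hLadd : ∀ y x z, L y (x + z) = L y x + L y z := fun y x z => add_dotProduct _ _ _
  have hLsmul : ∀ y (c : F) x, L y (c • x) = c * L y x := fun y c x => smul_dotProduct _ _ _
  have h2F : (2 : F) ≠ 0 := fun h0 => h2 (e₀.injective (by rw [map_ofNat, map_zero, h0]))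
  have hW : ∀ w, bil G w e = 0 → bil G w f = 0 →
      simg e₀ g τ w = b • rat e₀ w ∧ τ (e₀ (bil G w w)) * a = b * e₀ (bil G w w) := by
    intro w hwe hwf
    set c : k := -(bil G w w / 2)
    have hiso : ∀ w', bil G w' e = 0 → bil G w' f = 0 → bil G w' w' = bil G w w →
        ∃ γ : F, b • rat e₀ f + simg e₀ g τ w' + (τ (e₀ c) * a) • rat e₀ e =
          γ • (rat e₀ f + rat e₀ w' + e₀ c • rat e₀ e) := by
      intro w' hwe' hwf' hww'
      obtain ⟨γ, hγ⟩ := h (f + w' + c • e) (fun h0 => by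
          have := congrArg (fun x => bil G x e) h0
          simp only [bil_add, bil_smul, hfe, hwe', he, bil, zero_dotProduct] at this
          simp at this) (by
        simp only [bil_add, bil_add', bil_smul, bil_smul', hf, hfe, hef, he, hwe', hwf', hww',
          bil_comm hG f w', bil_comm hG e w', c]
        field_simp
        ring)
      refine ⟨γ, ?_⟩
      rw [simg_add, simg_add, simg_smul, ha, hb, smul_smul, rat_add, rat_add, rat_smul] at hγ
      exact hγ
    obtain ⟨γ, hγ⟩ := hiso w hwe hwf rfl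
    obtain ⟨γ', hγ'⟩ := hiso ((-1 : k) • w) (by rw [bil_smul, hwe, mul_zero]) (by rw [bil_smul, hwf, mul_zero])
      (by rw [bil_smul, bil_smul']; ring)
    rw [simg_smul, rat_smul, map_neg, map_one, map_neg, map_one, neg_smul, one_smul, neg_smul, one_smul] at hγ'
    have hLn : ∀ y x, L y (-x) = -L y x := fun y x => neg_dotProduct _ _
    have h1 := congrArg (L e) hγ
    have h1' := congrArg (L e) hγ'
    have h3 := congrArg (L f) hγ
    have h3' := congrArg (L f) hγ'
    simp only [hLadd, hLsmul, hLn, hL, hf, hfe, he, hef, hwe, hwf, map_zero, map_one] at h1 h1' h3 h3'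
    have hsum : γ + γ' = b + b := by linear_combination -h1 - h1'
    rcases eq_or_ne w 0 with rfl | hw0
    · refine ⟨?_, ?_⟩
      · rw [rat_zero, smul_zero, simg, show ⇑τ ∘ (⇑e₀ ∘ (0 : Fin n → k)) = 0 from funext fun _ => by simp,
          mulVec_zero]
      · simp [bil]
    obtain ⟨y, hye, hyf, hwy⟩ := hnd w hwe hwf hw0
    have h4 := congrArg (L y) hγ
    have h4' := congrArg (L y) hγ'
    simp only [hLadd, hLsmul, hLn, hL, bil_comm hG f y, bil_comm hG e y, hye, hyf, map_zero] at h4 h4'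
    have hγγ : γ' = γ := mul_right_cancel₀ ((map_ne_zero e₀).2 hwy) (by linear_combination h4 + h4')
    subst hγγ
    obtain rfl : γ' = b := mul_left_cancel₀ h2F (by linear_combination hsum)
    have hd' : τ (e₀ c) * a = γ' * e₀ c := mul_left_cancel₀ h2F (by linear_combination h3 + h3')
    refine ⟨?_, ?_⟩
    · rw [hd', mul_smul] at hγ
      linear_combination (norm := module) hγ
    · have e1 : bil G w w = c * (-2) := by simp only [c]; field_simp
      rw [e1]
      simp only [map_mul, map_neg, map_ofNat] at hd' ⊢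
      linear_combination (-2 : F) * hd'
  obtain ⟨w, hwe, hwf, hww⟩ : ∃ w, bil G w e = 0 ∧ bil G w f = 0 ∧ bil G w w ≠ 0 := by
    obtain ⟨z, hz0, hze, hzf⟩ := exists_perp_two hn (G *ᵥ e) (G *ᵥ f)
    rw [dotProduct_comm] at hze hzf
    obtain ⟨y, hye, hyf, hzy⟩ := hnd z hze hzf hz0
    by_contra hcon
    push Not at hcon
    replace hze : bil G z e = 0 := hze
    replace hzf : bil G z f = 0 := hzf
    have h1 := hcon (z + y) (by rw [bil_add, hze, hye, add_zero]) (by rw [bil_add, hzf, hyf, add_zero])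
    rw [bil_add, bil_add', bil_add', hcon z hze hzf, hcon y hye hyf, bil_comm hG y z] at h1
    exact hzy (mul_left_cancel₀ h2 (by linear_combination h1))
  have hτ : ∀ t, τ (e₀ t) = e₀ t := fun t => by
    have h1 := (hW (t • w) (by rw [bil_smul, hwe, mul_zero]) (by rw [bil_smul, hwf, mul_zero])).1
    rw [simg_smul, (hW w hwe hwf).1, rat_smul] at h1
    have h3 := congrArg (L w) h1
    simp only [hLsmul, hL] at h3
    exact mul_right_cancel₀ (mul_ne_zero hb0 ((map_ne_zero e₀).2 hww)) (by linear_combination h3)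
  have hab : a = b := by
    have h1 := (hW w hwe hwf).2
    rw [hτ, mul_comm b] at h1
    exact mul_left_cancel₀ ((map_ne_zero e₀).2 hww) h1
  refine ⟨b, hb0, eq_scalar hτ fun x => ?_, hτ⟩
  obtain ⟨z, hze, hzf, hx⟩ := hdec x
  rw [hx]
  simp only [simg_add, simg_smul, rat_add, rat_smul, ha, hb, hab, hτ, (hW z hze hzf).1]
  module

/-- A Siegel transformation moved to a scalar multiple of itself fixes its isotropic line. -/
theorem symm_rigid [Finite k] (h2 : (2 : k) ≠ 0) {G : Matrix (Fin n) (Fin n) k} (hG : Gᵀ = G) (hd : G.det ≠ 0)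
    (hn : 3 ≤ n) (hg : IsUnit g)
    (h : ∀ e z : Fin n → k, e ≠ 0 → bil G e e = 0 → bil G z e = 0 →
      ∃ c : F, g * ((siegelS G e z).map e₀).map τ = c • ((siegelS G e z).map e₀ * g)) :
    ∃ μ : F, μ ≠ 0 ∧ g = μ • 1 ∧ ∀ a, τ (e₀ a) = e₀ a := by
  classical
  refine symm_lines h2 hG hd hn hg fun e he0 he => ?_
  set X := simg e₀ g τ e
  have hX0 : X ≠ 0 := simg_ne_zero hg he0
  set GF : Matrix (Fin n) (Fin n) F := G.map e₀
  have hGm : ∀ v, rat e₀ (G *ᵥ v) = GF *ᵥ rat e₀ v := fun v => funext fun i => RingHom.map_mulVec e₀ G v i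
  have hmap : ∀ z, (siegelS G e z).map e₀ = siegelS GF (rat e₀ e) (rat e₀ z) := by
    intro z
    have hb : ∀ x y, bil GF (rat e₀ x) (rat e₀ y) = e₀ (bil G x y) := fun x y => by
      rw [bil, ← hGm, rat_dot]
    ext i j
    simp only [siegelS, Matrix.sub_apply, Matrix.add_apply, Matrix.smul_apply, Matrix.map_apply, vecMulVec_apply,
      map_sub, map_add, smul_eq_mul, map_mul, map_div₀, map_ofNat, hb, Matrix.one_apply]
    rw [← hGm, ← hGm]
    split_ifs <;> simp [rat]
  -- the image of `e` is fixed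
  have hfix : ∀ z, bil G z e = 0 → siegelS GF (rat e₀ e) (rat e₀ z) *ᵥ X = X := by
    intro z hz
    obtain ⟨c, hc⟩ := h e z he0 he hz
    have hfe : siegelS G e z *ᵥ e = e := by
      rw [siegelS_mulVec, he, bil_comm hG e z, hz]; simp
    have hfe' : ((siegelS G e z).map e₀).map τ *ᵥ (⇑τ ∘ rat e₀ e) = ⇑τ ∘ rat e₀ e := by
      funext i
      have := congrArg (fun t => τ (e₀ t)) (congrFun hfe i)
      simpa [mulVec, dotProduct, map_sum, rat, Matrix.map_apply] using this
    have h1 := congrArg (fun M => M *ᵥ (⇑τ ∘ rat e₀ e)) hc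
    simp only [← mulVec_mulVec, smul_mulVec, hfe'] at h1
    rw [hmap] at h1
    change X = c • (siegelS GF (rat e₀ e) (rat e₀ z) *ᵥ X) at h1
    have hc1 : c = 1 := by
      by_contra hc1
      have hc0 : c ≠ 0 := fun h0 => hX0 (by rw [h1, h0, zero_smul])
      have h3 : siegelS GF (rat e₀ e) (rat e₀ z) *ᵥ X = c⁻¹ • X := by
        conv_rhs => rw [h1]
        rw [smul_smul, inv_mul_cancel₀ hc0, one_smul]
      have hbe : bil GF (rat e₀ e) (rat e₀ e) = 0 := by rw [bil, ← hGm, rat_dot]; exact (congrArg e₀ he).trans (map_zero _)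
      have hbz : bil GF (rat e₀ z) (rat e₀ e) = 0 := by rw [bil, ← hGm, rat_dot]; exact (congrArg e₀ hz).trans (map_zero _)
      have hbs : GFᵀ = GF := by rw [← transpose_map, hG]
      have hXe : bil GF X (rat e₀ e) = 0 := by
        have h4 := congrArg (fun x => bil GF x (rat e₀ e)) h3
        simp only [siegelS_mulVec, bil_sub, bil_add, bil_smul, hbe, hbz, mul_zero, add_zero, sub_zero] at h4
        rcases mul_eq_zero.1 (show (c⁻¹ - 1) * bil GF X (rat e₀ e) = 0 by linear_combination -h4) with h5 | h5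
        · exact absurd (inv_eq_one.1 (sub_eq_zero.1 h5)) hc1
        · exact h5
      rw [siegelS_mulVec, hXe, zero_smul, add_zero, mul_zero, zero_smul, sub_zero] at h3
      set t := bil GF X (rat e₀ z)
      have h5 : (1 - c⁻¹) • X = t • rat e₀ e := by linear_combination (norm := module) h3
      have h6 := congrArg (fun x => bil GF x (rat e₀ z)) h5
      simp only [bil_smul, bil_comm hbs (rat e₀ e) (rat e₀ z), hbz, mul_zero] at h6
      have h1c : (1 - c⁻¹) ≠ 0 := sub_ne_zero.2 fun h0 => hc1 (inv_eq_one.1 h0.symm)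
      have ht : t = 0 := (mul_eq_zero.1 h6).resolve_left h1c
      rw [ht, zero_smul, smul_eq_zero] at h5
      exact hX0 (h5.resolve_left h1c)
    rw [hc1, one_smul] at h1
    exact h1.symm
  -- so it is on the line of `e`
  obtain ⟨y, hy⟩ : ∃ y, bil G e y ≠ 0 := by
    by_contra hcon
    push Not at hcon
    refine hd (Matrix.exists_mulVec_eq_zero_iff.1 ⟨e, he0, dotProduct_eq_zero _ fun x => ?_⟩)
    rw [dotProduct_comm]; exact (bil_comm hG x e).trans (hcon x)
  obtain ⟨z₀, hz00, hz0e, hz0y⟩ := exists_perp_two hn (G *ᵥ e) (G *ᵥ y)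
  rw [dotProduct_comm] at hz0e hz0y
  replace hz0e : bil G z₀ e = 0 := hz0e
  replace hz0y : bil G z₀ y = 0 := hz0y
  have hkey : ∀ z, bil G z e = 0 → bil GF X (rat e₀ e) • rat e₀ z =
      (bil GF X (rat e₀ z) + bil GF (rat e₀ z) (rat e₀ z) / 2 * bil GF X (rat e₀ e)) • rat e₀ e := fun z hz => by
    have h1 := hfix z hz
    rw [siegelS_mulVec] at h1
    linear_combination (norm := module) h1
  have hXe : bil GF X (rat e₀ e) = 0 := by
    have h1 := congrArg (fun x => x ⬝ᵥ rat e₀ (G *ᵥ y)) (hkey z₀ hz0e)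
    simp only [smul_dotProduct, rat_dot, smul_eq_mul] at h1
    change bil GF X (rat e₀ e) * e₀ (bil G z₀ y) = _ * e₀ (bil G e y) at h1
    rw [hz0y, map_zero, mul_zero, eq_comm, mul_eq_zero, or_iff_left ((map_ne_zero e₀).2 hy)] at h1
    have h3 := hkey z₀ hz0e
    rw [h1, zero_smul, smul_eq_zero] at h3
    exact h3.resolve_right (rat_ne_zero hz00)
  have hperp : ∀ z, bil G z e = 0 → bil GF X (rat e₀ z) = 0 := fun z hz => by
    have h1 := hkey z hz
    rw [hXe, zero_smul, mul_zero, add_zero, eq_comm, smul_eq_zero] at h1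
    exact h1.resolve_right (rat_ne_zero he0)
  set s : F := bil GF X (rat e₀ y) / e₀ (bil G e y)
  refine ⟨s, ?_⟩
  have hall : ∀ x, bil GF (X - s • rat e₀ e) (rat e₀ x) = 0 := fun x => by
    set t := bil G x e / bil G e y
    have hz : bil G (x - t • y) e = 0 := by
      rw [bil_sub, bil_smul, bil_comm hG y e, div_mul_cancel₀ _ hy, sub_self]
    have h1 := hperp _ hz
    have hye : e₀ (bil G e y) ≠ 0 := (map_ne_zero e₀).2 hy
    have e1 : rat e₀ x = rat e₀ (x - t • y) + e₀ t • rat e₀ y := by rw [← rat_smul, ← rat_add, sub_add_cancel]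
    have e2 : bil GF (rat e₀ e) (rat e₀ (x - t • y)) = 0 := by
      rw [bil, ← hGm, rat_dot]
      exact (congrArg e₀ ((bil_comm hG _ _).trans hz)).trans (map_zero _)
    have e3 : bil GF (rat e₀ e) (rat e₀ y) = e₀ (bil G e y) := by rw [bil, ← hGm, rat_dot]
    rw [e1, bil_add', bil_smul', bil_sub, bil_sub, bil_smul, bil_smul, h1, e2, e3, show s * e₀ (bil G e y) =
      bil GF X (rat e₀ y) from div_mul_cancel₀ _ hye]
    ring
  rw [← sub_eq_zero]
  by_contra hne
  have hdF : GF.det ≠ 0 := by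
    show (G.map e₀).det ≠ 0
    rw [← RingHom.mapMatrix_apply, ← RingHom.map_det]; exact (map_ne_zero e₀).2 hd
  refine hdF (Matrix.exists_vecMul_eq_zero_iff.1 ⟨_, hne, funext fun j => ?_⟩)
  have h1 := hall (Pi.single j 1)
  rw [rat_single, bil, dotProduct_mulVec] at h1
  simpa using h1

end Cfsg.Lib.Balance
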