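import Cfsg.Agent.Known.Balance.MinusInvol
import Cfsg.Agent.Known.OrthOut.Minus
import Cfsg.Agent.Known.OrthSim.Minus

/-!
The criterion for the failure of local balance in `PΩ⁻_{2k+2}(q)`.
-/

set_option autoImplicit false
set_option linter.unusedSectionVars false
set_option linter.style.haveILetI false

namespace Cfsg.Lib.Balance

open Matrix Cfsg.Lib.Classical Cfsg.Lib.Classical.Refl Cfsg.Lib.OrthAut Cfsg.Lib.OrthField
open Cfsg.Lib.OrthSim (GO gm semiPO conjPO toGO scal Aniso)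
open Cfsg.Lib.OrthOut (good_minus narrow_minus)

universe u

variable {F : Type u} [Field F] [Fintype F] [DecidableEq F] {k : ℕ}

local notation "ιM" => (Fin k ⊕ Fin k) ⊕ Fin 2

set_option maxHeartbeats 1000000 in
theorem minus_balance {r : ℕ} [Fact r.Prime] [hchar : CharP F r] (hk : 3 ≤ k) {a b : F} (hab : Aniso a b)
    (φ : (ιM → F) → F) (hφ : φ = ⇑(minusForm k F a b)) (A : Subgroup (MulAut (Cfsg.POmega F φ)))
    (hinn : ∀ t : Cfsg.POmega F φ, MulAut.conj t ∈ A) {p : ℕ} [Fact p.Prime] (hpr : p ≠ r)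
    (x : MulAut (Cfsg.POmega F φ)) (hord : orderOf x = p)
    (hnot : ¬ ∃ g : GL ιM F, g ∈ Cfsg.Geo.quadSimilarityGroup (F := F) φ ∧
      Cfsg.PreservesSingularClassesMinus k a b (g : Matrix ιM ιM F) ∧
      Cfsg.IsInducedBySemilinearPOmega φ g (RingEquiv.refl F) x) :
    Cfsg.pPrimeCore p ↥(A ⊓ Subgroup.centralizer {x}) ≠ ⊥ ↔
      ((∃ (a' b' : F) (ψ : Cfsg.POmega F φ ≃* Cfsg.POmega F (Cfsg.quadFormMinus k F a' b')) (σ : F ≃+* F),
        Aniso a' b' ∧ σ ≠ RingEquiv.refl F ∧ σ a' = a' ∧ σ b' = b' ∧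
        Cfsg.IsFieldAutPOmegaOf (Cfsg.quadFormMinus k F a' b') σ ((ψ.symm.trans x).trans ψ)) ∧
      Nat.Coprime p (Nat.card ↥(MonoidHom.eqLocus x.toMonoidHom (MonoidHom.id (Cfsg.POmega F φ))))) := by
  classical
  subst hφ
  have G := good_minus (F := F) hk hab
  have hH := narrow_minus (F := F) hk hab
  obtain ⟨g, τ, hp, rfl⟩ := OrthOut.exists_semi G hH x
  have hpow : semiPO g τ hp ^ p = 1 := hord ▸ pow_orderOf_eq_one _
  by_cases hτ : τ = 1
  swap
  · obtain ⟨hfield, hdata⟩ := minus_field hk hab hp hτ hpow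
    rw [and_iff_right hfield]
    exact balance (po_conj_inj G) hinn hord hdata
  obtain rfl : τ = RingEquiv.refl F := hτ
  have hg : g ∈ GO (minusForm k F a b) := by
    obtain ⟨c, hc⟩ := id hp
    exact ⟨c, fun v => by simpa using hc v⟩
  set w : GO (minusForm k F a b) := ⟨g, hg⟩
  have hx : semiPO g (RingEquiv.refl F) hp = conjPO (minusForm k F a b) w := OrthOut.semiPO_refl_eq hp hg
  rw [hx] at hord hnot hpow ⊢
  have he : eM hk hab w = -1 := (Int.units_eq_one_or _).resolve_left fun he =>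
    hnot ⟨g, hg, (preserves_minus_iff hk hab w).2 he, (OrthSim.induced_iff _ w _).2 rfl⟩
  have hker : w ^ p ∈ (conjPO (minusForm k F a b)).ker := by rw [MonoidHom.mem_ker, map_pow, hpow]
  rw [OrthSim.conjPO_ker _ G.nd G.big] at hker
  obtain ⟨c, hc⟩ := hker
  obtain rfl : p = 2 := by
    have h1 := congrArg (eM hk hab) hc
    rw [map_pow, he, eM_scal] at h1
    refine ((Fact.out : p.Prime).eq_two_or_odd').resolve_right fun ho => ?_
    rw [ho.neg_one_pow] at h1
    exact absurd h1 (by decide)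
  have h2 : (2 : F) ≠ 0 := fun h0 => by
    exact hpr (CharP.eq F (CharTwo.of_one_ne_zero_of_two_eq_zero one_ne_zero h0) hchar)
  set S := OrthSim.setupM h2 hk hab
  have heS : S.e w = -1 := by
    refine (OrthSim.eps_pm (minusForm k F a b) S.hQ S.hn S.hk w).resolve_left fun h1 => ?_
    have h3 := (preserves_minus_iff hk hab w).1 ((OrthSim.preservesMinus_iff h2 hk hab w).2 h1)
    rw [he] at h3
    exact absurd h3 (by decide)
  have hsq : w * w = scal (minusForm k F a b) c := by rw [hc, pow_two]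
  obtain ⟨hdata, hncop⟩ : Data 2 (conjPO (minusForm k F a b) w) ∧
      ¬ Nat.Coprime 2 (Nat.card ↥(MonoidHom.eqLocus (conjPO (minusForm k F a b) w).toMonoidHom
        (MonoidHom.id (Cfsg.POmega F (⇑(minusForm k F a b)))))) := by
    by_cases hcs : IsSquare (c : F)
    · obtain ⟨d, hd⟩ := hcs
      exact invol_sq S G hH heS hsq hd
    · exact invol_nonsq S G hH heS hsq hcs
  refine ⟨fun h => absurd ((balance (po_conj_inj G) hinn hord hdata).1 h) hncop, fun h => absurd h.2 hncop⟩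

end Cfsg.Lib.Balance
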