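import Cfsg.Agent.Known.Balance.Generic
import Cfsg.Agent.Known.OrthField.Std
import Cfsg.Agent.Known.OrthSim.Common
import Cfsg.Agent.Classical.Orth.Simple

/-!
Semisimilarities commuting with products of reflections.
-/

set_option autoImplicit false
set_option linter.unusedSectionVars false
set_option linter.style.haveILetI false

namespace Cfsg.Lib.Balance

open Matrix Cfsg.Lib.Classical Cfsg.Lib.Classical.Refl Cfsg.Lib.OrthAut
open Cfsg.Lib.OrthSim (GO gm semiPO conjPO toGO scal NN glS)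

universe u

variable {F : Type u} [Field F] [Fintype F] [DecidableEq F] {ι : Type} [Fintype ι] [DecidableEq ι]
  {Q : QuadraticForm F (ι → F)}

theorem conjPO_omega (s : Cfsg.Omega F (⇑Q)) :
    conjPO Q (toGO Q s.1) = MulAut.conj (QuotientGroup.mk s : Cfsg.POmega F (⇑Q)) := by
  refine MulEquiv.ext fun x => QuotientGroup.induction_on x fun t => ?_
  rw [OrthSim.conjPO_apply, MulAut.conj_apply, ← QuotientGroup.mk_inv, ← QuotientGroup.mk_mul,
    ← QuotientGroup.mk_mul]
  exact congrArg _ (Subtype.ext (Subtype.ext rfl))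

theorem conjPO_omega_mem {s : Cfsg.isometryGroup F (⇑Q)} (hs : s ∈ Cfsg.Omega F (⇑Q)) :
    conjPO Q (toGO Q s) ∈ Cfsg.Inn (Cfsg.POmega F (⇑Q)) :=
  ⟨QuotientGroup.mk ⟨s, hs⟩, (conjPO_omega ⟨s, hs⟩).symm⟩

theorem po_conj_inj (G : Good Q) :
    Function.Injective (MulAut.conj : Cfsg.POmega F (⇑Q) →* MulAut (Cfsg.POmega F (⇑Q))) := by
  rw [injective_iff_map_eq_one]
  intro x hx
  obtain ⟨s, rfl⟩ := QuotientGroup.mk_surjective x
  rw [← conjPO_omega, ← MonoidHom.mem_ker, OrthSim.conjPO_ker Q G.nd G.big] at hx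
  obtain ⟨c, hc⟩ := hx
  refine (QuotientGroup.eq_one_iff _).2 (mem_center_of_scalar Q s (c := (c : F)) ?_)
  rw [← OrthSim.gm_toGO, ← hc, OrthSim.gm_scal]

variable {g : GL ι F} {σ : F ≃+* F}

/-- A semisimilarity whose automorphism commutes with that of an isometry commutes with it up to sign. -/
theorem semi_comm (G : Good Q) (hp : Cfsg.IsSemisimilarityPair (⇑Q) g σ) {s : Cfsg.isometryGroup F (⇑Q)}
    (h : conjPO Q (toGO Q s) * semiPO g σ hp = semiPO g σ hp * conjPO Q (toGO Q s)) :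
    ∃ e : F, (e = 1 ∨ e = -1) ∧ ∀ v, semiMap g σ (mat Q s *ᵥ v) = e • (mat Q s *ᵥ semiMap g σ v) := by
  obtain ⟨x', hx', e⟩ := OrthOut.semi_conj hp (toGO Q s)
  have hk : x' * (toGO Q s)⁻¹ ∈ (conjPO Q).ker := by
    rw [MonoidHom.mem_ker, map_mul, map_inv, mul_inv_eq_one]
    exact mul_right_cancel (e.symm.trans h.symm)
  rw [OrthSim.conjPO_ker Q G.nd G.big] at hk
  obtain ⟨c, hc⟩ := hk
  have hx : x' = scal Q c * toGO Q s := by rw [hc, inv_mul_cancel_right]
  have key : ∀ v, semiMap g σ (mat Q s *ᵥ v) = (c : F) • (mat Q s *ᵥ semiMap g σ v) := fun v => by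
    have h1 : semiMap g σ (mat Q s *ᵥ v) = gm Q x' *ᵥ semiMap g σ v := by
      simp only [semiMap, gm, hx', Units.val_mul, mulVec_mulVec, mul_assoc]
      rw [show ((g⁻¹ : GL ι F) : Matrix ι ι F) * (g : Matrix ι ι F) = 1 from by
        rw [← Units.val_mul, inv_mul_cancel, Units.val_one], mul_one, ← mulVec_mulVec, OrthSim.coe_glS]
      exact congrArg _ (funext fun i => RingHom.map_mulVec σ.toRingHom _ v i)
    rw [h1, hx, OrthSim.gm_mul, OrthSim.gm_scal, smul_mul_assoc, one_mul, smul_mulVec]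
    rfl
  refine ⟨(c : F), ?_, key⟩
  obtain ⟨d, hd⟩ := hp
  obtain ⟨v, hv⟩ := OrthSim.exists_anisotropic Q G.nd G.big
  have h2 := congrArg Q (key v)
  rw [QuadraticMap.map_smul, semiMap_q hd, (mem_iff Q).1 s.2, (mem_iff Q).1 s.2, semiMap_q hd, hv, map_one, mul_one,
    smul_eq_mul] at h2
  exact mul_self_eq_one_iff.1 (mul_right_cancel₀ d.ne_zero (h2.symm.trans (one_mul _).symm))

/-- The moved space of an isometry with small support is preserved. -/
theorem range_fixed (G : Good Q) (hp : Cfsg.IsSemisimilarityPair (⇑Q) g σ) {s : Cfsg.isometryGroup F (⇑Q)}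
    (h : conjPO Q (toGO Q s) * semiPO g σ hp = semiPO g σ hp * conjPO Q (toGO Q s)) {P : Submodule F (ι → F)}
    (hP : ∀ x, mat Q s *ᵥ x - x ∈ P) (hfix : ∀ x ∈ HypQuad.perp Q P, mat Q s *ᵥ x = x)
    (hdim : 2 * Module.finrank F P < Fintype.card ι) (x : ι → F) :
    semiMap g σ (mat Q s *ᵥ x - x) ∈ P := by
  obtain ⟨e, he, hf⟩ := semi_comm G hp h
  have he1 : e = 1 := by
    rcases he with he | he
    · exact he
    by_contra hne
    have h2 : (2 : F) ≠ 0 := fun h2 => hne (by rw [he]; linear_combination (-1 : F) * h2)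
    have hmem : ∀ y ∈ HypQuad.perp Q P, semiMap g σ y ∈ P := fun y hy => by
      have h1 := hf y
      rw [hfix y hy, he, neg_one_smul, eq_neg_iff_add_eq_zero] at h1
      have h3 := hP (semiMap g σ y)
      have h4 : mat Q s *ᵥ semiMap g σ y - semiMap g σ y = (-2 : F) • semiMap g σ y := by
        linear_combination (norm := module) h1
      rw [h4] at h3
      exact (P.smul_mem_iff (neg_ne_zero.2 h2)).1 h3
    have hcard := Nat.card_le_card_of_injective
      (fun y : HypQuad.perp Q P => (⟨semiMap g σ y, hmem y y.2⟩ : P))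
      fun y z hyz => Subtype.ext (semiMap_injective g σ (congrArg Subtype.val hyz))
    rw [Module.natCard_eq_pow_finrank (K := F) (V := HypQuad.perp Q P),
      Module.natCard_eq_pow_finrank (K := F) (V := P), Nat.card_eq_fintype_card] at hcard
    have := Nat.pow_le_pow_iff_right (Fintype.one_lt_card (α := F)) |>.1 hcard
    rw [HypQuad.finrank_perp Q G.nd, finrank_V] at this
    omega
  have h1 : semiMap g σ (mat Q s *ᵥ x - x) = mat Q s *ᵥ semiMap g σ x - semiMap g σ x := by
    have h2 := hf x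
    rw [he1, one_smul] at h2
    rw [← h2, eq_sub_iff_add_eq, ← semiMap_add, sub_add_cancel]
  rw [h1]
  exact hP _

theorem mat_refl_mul {a b : ι → F} (ha : Q a ≠ 0) (hb : Q b ≠ 0) (hab : QuadraticMap.polar (⇑Q) a b = 0)
    (x : ι → F) : mat Q (refl Q a ha * refl Q b hb) *ᵥ x =
      x - ((Q a)⁻¹ * QuadraticMap.polar (⇑Q) a x) • a - ((Q b)⁻¹ * QuadraticMap.polar (⇑Q) b x) • b := by
  show (Cfsg.reflectionMatrix (⇑Q) a * Cfsg.reflectionMatrix (⇑Q) b) *ᵥ x = _
  rw [← mulVec_mulVec, mulVec_eq, mulVec_eq, QuadraticMap.polar_sub_right, QuadraticMap.polar_smul_right, hab,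
    smul_zero, sub_zero]
  abel

/-- The plane of two orthogonal reflections is preserved. -/
theorem plane_fixed (G : Good Q) (hp : Cfsg.IsSemisimilarityPair (⇑Q) g σ) {a b : ι → F} (ha : Q a ≠ 0)
    (hb : Q b ≠ 0) (hab : QuadraticMap.polar (⇑Q) a b = 0)
    (h : conjPO Q (toGO Q (refl Q a ha * refl Q b hb)) * semiPO g σ hp =
      semiPO g σ hp * conjPO Q (toGO Q (refl Q a ha * refl Q b hb)))
    (hsurj : ∃ z, QuadraticMap.polar (⇑Q) a z ≠ 0 ∧ QuadraticMap.polar (⇑Q) b z = 0) :
    semiMap g σ a ∈ Submodule.span F ({a, b} : Set (ι → F)) := by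
  set P := Submodule.span F ({a, b} : Set (ι → F))
  have hmat := mat_refl_mul ha hb hab
  have haP : a ∈ P := Submodule.subset_span (by simp)
  have hbP : b ∈ P := Submodule.subset_span (by simp)
  have hdim : Module.finrank F P ≤ 2 := by
    refine le_trans (finrank_span_le_card _) ?_
    simp only [Set.toFinset_insert, Set.toFinset_singleton]
    exact Finset.card_le_two
  obtain ⟨z, hz, hz'⟩ := hsurj
  have h1 := range_fixed G hp h (P := P) (fun x => by
      rw [hmat]
      rw [sub_right_comm (x - _), sub_sub_cancel_left]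
      exact sub_mem (neg_mem (P.smul_mem _ haP)) (P.smul_mem _ hbP))
    (fun x hx => by
      rw [hmat, (HypQuad.mem_perp Q).1 hx a haP, (HypQuad.mem_perp Q).1 hx b hbP]
      simp)
    (by have := G.big; omega) z
  rw [hmat, hz', mul_zero, zero_smul, sub_zero, sub_sub_cancel_left, ← neg_smul, semiMap_smul] at h1
  exact (P.smul_mem_iff ((map_ne_zero σ).2 (neg_ne_zero.2 (mul_ne_zero (inv_ne_zero ha) hz)))).1 h1

/-- The line common to two planes. -/
theorem mem_line {v a b b' : ι → F} (hind : LinearIndependent F ![a, b, b'])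
    (h : v ∈ Submodule.span F ({a, b} : Set (ι → F))) (h' : v ∈ Submodule.span F ({a, b'} : Set (ι → F))) :
    v ∈ Submodule.span F {a} := by
  obtain ⟨x, y, rfl⟩ := Submodule.mem_span_pair.1 h
  obtain ⟨x', y', e⟩ := Submodule.mem_span_pair.1 h'
  have h0 := Fintype.linearIndependent_iff.1 hind ![x - x', y, -y'] (by
    simp only [Fin.sum_univ_three, Matrix.cons_val_zero, Matrix.cons_val_one, Matrix.cons_val_two,
      Matrix.tail_cons, Matrix.head_cons]
    linear_combination (norm := module) -e) 1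
  have hy : y = 0 := by simpa using h0
  rw [hy, zero_smul, add_zero]
  exact Submodule.mem_span_singleton.2 ⟨x, rfl⟩

end Cfsg.Lib.Balance
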