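import Cfsg.Agent.Known.Balance.SemiPlanes
import Cfsg.Agent.Known.OrthField.Transport

/-!
Transport of the local balance data and of semisimilarities along isomorphisms.
-/

set_option autoImplicit false
set_option linter.unusedSectionVars false
set_option linter.style.haveILetI false

namespace Cfsg.Lib.Balance

open Matrix Cfsg.Lib.Classical Cfsg.Lib.Classical.Refl Cfsg.Lib.OrthAut Cfsg.Lib.OrthField
open Cfsg.Lib.OrthSim (GO gm semiPO conjPO toGO scal NN glS)

universe u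

section Groups

variable {T T' : Type*} [Group T] [Group T'] (ψ : T ≃* T')

theorem fixInn_autT (x : MulAut T) : (fixInn x).map (autT ψ).toMonoidHom = fixInn (autT ψ x) := by
  have hcomm : ∀ c, autT ψ c * autT ψ x = autT ψ x * autT ψ c ↔ c * x = x * c := fun c => by
    rw [← map_mul, ← map_mul, (autT ψ).injective.eq_iff]
  ext y
  constructor
  · rintro ⟨c, ⟨hc, hc'⟩, rfl⟩
    exact ⟨autT_inn ψ ▸ Subgroup.mem_map_of_mem _ hc,
      Subgroup.mem_centralizer_singleton_iff.2 ((hcomm c).2 (Subgroup.mem_centralizer_singleton_iff.1 hc'))⟩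
  · rintro ⟨hy, hy'⟩
    rw [← autT_inn ψ] at hy
    obtain ⟨c, hc, rfl⟩ := hy
    exact ⟨c, ⟨hc, Subgroup.mem_centralizer_singleton_iff.2
      ((hcomm c).1 (Subgroup.mem_centralizer_singleton_iff.1 hy'))⟩, rfl⟩

theorem Data.autT {p : ℕ} {x : MulAut T} (h : Data p x) : Data p (OrthField.autT ψ x) := by
  obtain ⟨K, hK, hs, hn, hp, hc⟩ := h
  let e := (OrthField.autT ψ).toMonoidHom
  have hinj : Function.Injective e := (OrthField.autT ψ).injective
  let eK : K ≃* K.map e := K.equivMapOfInjective e hinj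
  refine ⟨K.map e, (fixInn_autT ψ x) ▸ Subgroup.map_mono hK, hs.equiv eK, ?_, fun h => ?_, fun y hy => ?_⟩
  · intro c hc' k hk
    rw [← fixInn_autT] at hc'
    obtain ⟨c', hc'', rfl⟩ := hc'
    obtain ⟨k', hk', rfl⟩ := hk
    exact ⟨c' * k' * c'⁻¹, hn c' hc'' k' hk', by rw [map_mul, map_mul, map_inv]⟩
  · rw [Nat.card_congr eK.symm.toEquiv]
    refine hp ?_
    rwa [← fixInn_autT, ← Nat.card_congr ((fixInn x).equivMapOfInjective _ (OrthField.autT ψ).injective).toEquiv] at h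
  · obtain ⟨z, rfl⟩ := (OrthField.autT ψ).surjective y
    have h1 : z ∈ Subgroup.zpowers x := hc (Subgroup.mem_centralizer_iff.2 fun k hk => by
      refine (OrthField.autT ψ).injective ?_
      rw [map_mul, map_mul]
      exact Subgroup.mem_centralizer_iff.1 hy _ ⟨k, hk, rfl⟩)
    obtain ⟨i, rfl⟩ := h1
    exact ⟨i, (map_zpow _ _ _).symm⟩

end Groups

variable {F : Type u} [Field F] [Fintype F] [DecidableEq F] {ι : Type} [Fintype ι] [DecidableEq ι]
  {Q Q' : QuadraticForm F (ι → F)} {g : GL ι F} {c : Fˣ}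
  (hg : ∀ v, Q ((g : Matrix ι ι F) *ᵥ v) = (c : F) * Q' v)

include hg

theorem pair_transport {w : GL ι F} {τ : F ≃+* F} (hp : Cfsg.IsSemisimilarityPair (⇑Q') w τ) :
    Cfsg.IsSemisimilarityPair (⇑Q) (g * w * glS τ g⁻¹) τ := by
  obtain ⟨d, hd⟩ := hp
  refine ⟨c * d * (Units.map τ.toRingHom.toMonoidHom c)⁻¹, fun v => ?_⟩
  set u : ι → F := ((g⁻¹ : GL ι F) : Matrix ι ι F) *ᵥ v
  have e : ((g * w * glS τ g⁻¹ : GL ι F) : Matrix ι ι F) *ᵥ (fun i => τ (v i)) =
      (g : Matrix ι ι F) *ᵥ ((w : Matrix ι ι F) *ᵥ fun i => τ (u i)) := by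
    rw [Units.val_mul, Units.val_mul, ← mulVec_mulVec, ← mulVec_mulVec, OrthSim.coe_glS]
    exact congrArg _ (congrArg _ (funext fun i => (RingHom.map_mulVec τ.toRingHom _ v i).symm))
  have hv : Q v = (c : F) * Q' u := by
    rw [← hg, mulVec_mulVec, ← Units.val_mul, mul_inv_cancel, Units.val_one, one_mulVec]
  rw [e, hg, hd, hv, map_mul, Units.val_mul, Units.val_mul, Units.val_inv_eq_inv_val]
  show _ = (c : F) * d * (τ c)⁻¹ * (τ c * τ (Q' u))
  have hc0 : τ (c : F) ≠ 0 := (map_ne_zero τ).2 c.ne_zero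
  field_simp

/-- An isomorphism along a similitude of forms, on semisimilarities. -/
theorem exists_poT_semi : ∃ ψ : Cfsg.POmega F (⇑Q') ≃* Cfsg.POmega F (⇑Q),
    ∀ (w : GL ι F) (τ : F ≃+* F) (hp : Cfsg.IsSemisimilarityPair (⇑Q') w τ),
      autT ψ (semiPO w τ hp) = semiPO (g * w * glS τ g⁻¹) τ (pair_transport hg hp) := by
  let e : Cfsg.isometryGroup F (⇑Q') ≃* Cfsg.isometryGroup F (⇑Q) :=
    ((Cfsg.isometryGroup F (⇑Q')).equivMapOfInjective _ (MulAut.conj g).injective).trans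
      (MulEquiv.subgroupCongr (iso_map hg))
  have he : (commutator (Cfsg.isometryGroup F (⇑Q'))).map e.toMonoidHom = commutator (Cfsg.isometryGroup F (⇑Q)) := by
    rw [commutator_def, Subgroup.map_commutator, Subgroup.map_top_of_surjective _ e.surjective, commutator_def]
  let eO : Cfsg.Omega F (⇑Q') ≃* Cfsg.Omega F (⇑Q) :=
    ((Cfsg.Omega F (⇑Q')).equivMapOfInjective _ e.injective).trans (MulEquiv.subgroupCongr he)
  let ψ : Cfsg.POmega F (⇑Q') ≃* Cfsg.POmega F (⇑Q) := QuotientGroup.congr _ _ eO (center_map eO)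
  refine ⟨ψ, fun w τ hp => (OrthSim.induced_semi_iff _ _ _ _).1 fun s s' h => ?_⟩
  show ψ (semiPO w τ hp (ψ.symm (QuotientGroup.mk s))) = QuotientGroup.mk s'
  have h0 : ψ.symm (QuotientGroup.mk s) = QuotientGroup.mk (eO.symm s) :=
    ψ.symm_apply_eq.2 (congrArg QuotientGroup.mk (eO.apply_symm_apply s).symm)
  rw [h0]
  show ψ (QuotientGroup.mk (OrthSim.semiOm w τ hp (eO.symm s))) = _
  refine congrArg QuotientGroup.mk (Subtype.ext (Subtype.ext (Units.ext ?_)))
  rw [h]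
  have h1 : g * ((eO.symm s).1 : GL ι F) * g⁻¹ = (s.1 : GL ι F) :=
    congrArg (fun z : Cfsg.Omega F (⇑Q) => (z.1 : GL ι F)) (eO.apply_symm_apply s)
  show ((g * (OrthSim.semiOm w τ hp (eO.symm s)).1.1 * g⁻¹ : GL ι F) : Matrix ι ι F) = _
  rw [OrthSim.semiOm_coe, ← OrthSim.coe_glS, ← Units.val_mul, ← Units.val_mul]
  refine congrArg Units.val ?_
  rw [← h1]
  simp only [map_mul, map_inv, _root_.mul_inv_rev, inv_inv, mul_assoc, inv_mul_cancel_left]

end Cfsg.Lib.Balance
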