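import Cfsg.Agent.Known.Balance.Odd
import Cfsg.Agent.Known.Balance.SemiPlanes
import Cfsg.Agent.Known.Balance.Transfer
import Cfsg.Agent.Known.OrthField.MinusCase

/-!
Local balance data at field automorphisms of forms with a rational structure, and field automorphisms of
`PΩ⁻_{2k+2}(q)`.
-/

set_option autoImplicit false
set_option linter.unusedSectionVars false
set_option linter.style.haveILetI false

namespace Cfsg.Lib.Balance

open Matrix Cfsg.Lib.Classical Cfsg.Lib.Classical.Refl Cfsg.Lib.OrthAut Cfsg.Lib.OrthField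
open Cfsg.Lib.OrthSim (GO gm semiPO conjPO toGO scal NN glS Aniso)
open scoped commutatorElement

universe u v

section Generic

variable {F : Type u} [Field F] [Fintype F] [DecidableEq F] {ι : Type} [Fintype ι] [DecidableEq ι]
  {K : Type v} [Field K] [Fintype K] [DecidableEq K] {e₀ : K →+* F}
  {q : QuadraticForm K (ι → K)} {Q : QuadraticForm F (ι → F)} {σ : F ≃+* F}

/-- A semilinear map fixing all rational lines is a scalar fixing the rational field. -/
theorem semi_all_lines [Nontrivial ι] {g : GL ι F} {τ : F ≃+* F}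
    (h : ∀ v : ι → K, v ≠ 0 → ∃ d : F, semiMap g τ (⇑e₀ ∘ v) = d • (⇑e₀ ∘ v)) :
    ∃ D : Fˣ, (g : Matrix ι ι F) = (D : F) • 1 ∧ ∀ a, τ (e₀ a) = e₀ a := by
  classical
  choose d hd using fun i : ι => h (Pi.single i 1) (Pi.single_ne_zero_iff.2 one_ne_zero)
  have hg1 : ∀ i, (g : Matrix ι ι F) *ᵥ Pi.single i 1 = d i • Pi.single i 1 := fun i => by
    have h1 := hd i
    rw [semiMap, comp_single, map_one] at h1
    rw [← h1]
    exact congrArg _ (funext fun j => by by_cases hj : j = i <;> simp [hj])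
  have hd0 : ∀ i, d i ≠ 0 := fun i h0 => by
    have h1 := mulVec_injective_iff_isUnit.2 (Units.isUnit g) (a₁ := Pi.single i 1) (a₂ := 0)
      (by rw [hg1, h0, zero_smul, mulVec_zero])
    simpa using congrFun h1 i
  have key : ∀ i j, i ≠ j → ∀ a : K, τ (e₀ a) * d j = d i * e₀ a := by
    intro i j hij a
    obtain ⟨s, hs⟩ := h (Pi.single i 1 + Pi.single j a) fun h0 => by simpa [hij] using congrFun h0 i
    have e : (fun l => τ ((⇑e₀ ∘ (Pi.single i 1 + Pi.single j a : ι → K)) l)) =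
        Pi.single i 1 + τ (e₀ a) • (Pi.single j 1 : ι → F) := by
      funext l
      by_cases hi : l = i <;> by_cases hj : l = j <;> simp [hi, hj, hij, Ne.symm hij]
    rw [semiMap, e, mulVec_add, mulVec_smul, hg1, hg1] at hs
    have h1 := congrFun hs i
    have h2 := congrFun hs j
    simp [hij, hij.symm] at h1 h2
    rw [h2, h1]
  obtain ⟨o, o', hoo⟩ := exists_pair_ne ι
  have hdeq : ∀ j, d j = d o := fun j => by
    rcases eq_or_ne o j with rfl | hj
    · rfl
    · simpa using key o j hj 1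
  refine ⟨Units.mk0 (d o) (hd0 o), Matrix.ext_of_mulVec_single fun i => ?_, fun a => ?_⟩
  · rw [hg1, hdeq, smul_mulVec, one_mulVec, Units.val_mk0]
  · have h1 := key o o' hoo a
    rw [hdeq o', mul_comm (d o)] at h1
    exact mul_right_cancel₀ (hd0 o) h1

theorem refl_pair_mem (G : Good Q) {a b : ι → F} (ha : Q a ≠ 0) (hb : Q b ≠ 0) (h : Q a = Q b) :
    refl Q a ha * refl Q b hb ∈ Cfsg.Omega F (⇑Q) := by
  have ha0 : a ≠ 0 := fun e => ha (by rw [e, QuadraticMap.map_zero])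
  have hb0 : b ≠ 0 := fun e => hb (by rw [e, QuadraticMap.map_zero])
  obtain ⟨g, hg⟩ := Refl.exists_map Q G.nd ha0 hb0 h
  subst hg
  have e : g * refl Q a ha * g⁻¹ = refl Q (mat Q g *ᵥ a) hb :=
    (Refl.refl_conj Q g a ha).trans (Subtype.ext (Units.ext rfl))
  rw [← e, show refl Q a ha * (g * refl Q a ha * g⁻¹) = ⁅refl Q a ha, g⁆ by
    rw [commutatorElement_def, inv_eq_of_mul_eq_one_right (refl_mul_self Q a ha)]; simp only [mul_assoc]]
  exact Subgroup.commutator_mem_commutator (Subgroup.mem_top _) (Subgroup.mem_top _)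

/-- Fourth powers of similitudes lie in `NN`. -/
theorem four_pow_mem (G : Good Q) (b : GO Q) : b ^ 4 ∈ NN Q := by
  classical
  have hn2 : 2 ≤ Fintype.card ι := by have := G.big; omega
  set μ := OrthSim.mu Q b
  obtain ⟨s, hs⟩ := OrthSim.exists_iso_of_mu Q G.nd G.big (g := scal Q μ⁻¹ * (b * b)) (by
    rw [OrthSim.mu_mul Q G.nd G.big, OrthSim.mu_mul Q G.nd G.big, OrthSim.mu_scal Q G.nd G.big, ← mul_inv,
      inv_mul_cancel])
  have hbb : b * b = scal Q μ * toGO Q s := by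
    rw [← hs, ← mul_assoc, ← map_mul, mul_inv_cancel, map_one, one_mul]
  refine (OrthSim.mem_NN Q).2 ⟨μ * μ, s * s, ?_, ?_⟩
  · by_cases h2 : (2 : F) = 0
    · haveI : CharP F 2 := CharTwo.of_one_ne_zero_of_two_eq_zero one_ne_zero h2
      refine (OmegaCls.dickson_iff G.nd (by omega) (Or.inr (by have := G.big; omega)) _).2 ?_
      rw [map_mul, Int.units_mul_self]
    · refine (mem_omega_iff _ h2 G.nd hn2).2 ⟨Units.ext ?_, by rw [map_mul, Int.units_mul_self]⟩
      show (mat Q (s * s)).det = 1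
      rw [OmegaCls.det_dickson h2 G.nd, map_mul, Int.units_mul_self]
      simp
  · rw [show b ^ 4 = (b * b) * (b * b) by simp [pow_succ, mul_assoc], hbb, map_mul, map_mul, mul_assoc, ← mul_assoc (toGO Q s),
      ← OrthSim.scal_comm]
    simp only [mul_assoc]

variable (hq : Ext e₀ q Q)

include hq

theorem mapIso_omega {s : Cfsg.isometryGroup K (⇑q)} (hs : s ∈ Cfsg.Omega K (⇑q)) :
    mapIso hq s ∈ Cfsg.Omega F (⇑Q) := by
  have h : (commutator (Cfsg.isometryGroup K (⇑q))).map (mapIso hq) ≤ commutator (Cfsg.isometryGroup F (⇑Q)) := by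
    rw [commutator_def, Subgroup.map_commutator, commutator_def]
    exact Subgroup.commutator_mono le_top le_top
  exact h (Subgroup.mem_map_of_mem _ hs)

variable (hσ : Fixes σ Q) (hfix : ∀ x, σ x = x ↔ x ∈ Set.range e₀) (G : Good Q) (G₀ : Good q)

include hσ hfix G G₀

set_option maxHeartbeats 1000000 in
/-- The automorphisms commuting with the rational elements of `Ω`. -/
theorem field_rigid (hH : Narrow Q) {y : MulAut (Cfsg.POmega F (⇑Q))}
    (hy : ∀ s ∈ Cfsg.Omega K (⇑q),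
      conjPO Q (toGO Q (mapIso hq s)) * y = y * conjPO Q (toGO Q (mapIso hq s))) :
    y ∈ Subgroup.zpowers (semiW hσ (1 : GO Q)) := by
  classical
  haveI : Nontrivial ι := Fintype.one_lt_card_iff_nontrivial.1 (by have := G.big; omega)
  have hn := G.big
  obtain ⟨g, τ, hp, rfl⟩ := OrthOut.exists_semi G hH y
  set ψ := semiW hσ (1 : GO Q)
  -- rational planes with equal values are preserved
  have hplane : ∀ a b r : ι → K, q a ≠ 0 → q b = q a → QuadraticMap.polar (⇑q) a b = 0 →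
      QuadraticMap.polar (⇑q) b r = 1 → QuadraticMap.polar (⇑q) a r = 0 →
      semiMap g τ (⇑e₀ ∘ a) ∈ Submodule.span F ({⇑e₀ ∘ a, ⇑e₀ ∘ b} : Set (ι → F)) := by
    intro a b r ha hba hab hbr har
    have hb : q b ≠ 0 := hba ▸ ha
    have h1 := hy _ (refl_pair_mem G₀ ha hb hba.symm)
    rw [map_mul, mapIso_refl hq ha, mapIso_refl hq hb] at h1
    refine plane_fixed G hp (ext_ne hq ha) (ext_ne hq hb) (by rw [ext_polar e₀ hq, hab, map_zero]) h1 ?_
    have hA0 : ⇑e₀ ∘ a ≠ 0 := fun h => ext_ne hq ha (by rw [h, QuadraticMap.map_zero])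
    obtain ⟨z, hz⟩ : ∃ z, QuadraticMap.polar (⇑Q) (⇑e₀ ∘ a) z ≠ 0 := by
      by_contra hne
      push Not at hne
      exact hA0 (G.nd.1 _ hne)
    refine ⟨z - QuadraticMap.polar (⇑Q) (⇑e₀ ∘ b) z • (⇑e₀ ∘ r), ?_, ?_⟩
    · rwa [QuadraticMap.polar_sub_right, QuadraticMap.polar_smul_right, ext_polar e₀ hq, har, map_zero, smul_zero,
        sub_zero]
    · rw [QuadraticMap.polar_sub_right, QuadraticMap.polar_smul_right, ext_polar e₀ hq b r, hbr, map_one, smul_eq_mul,
        mul_one, sub_self]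
  -- two rational vectors of given value perpendicular to a third
  have hpairs : ∀ a : ι → K, a ≠ 0 → ∀ c : K, c ≠ 0 → ∃ b r b' r' : ι → K,
      (q b = c ∧ QuadraticMap.polar (⇑q) a b = 0 ∧ QuadraticMap.polar (⇑q) b r = 1 ∧
        QuadraticMap.polar (⇑q) a r = 0) ∧
      (q b' = c ∧ QuadraticMap.polar (⇑q) a b' = 0 ∧ QuadraticMap.polar (⇑q) b' r' = 1 ∧
        QuadraticMap.polar (⇑q) a r' = 0) ∧
      LinearIndependent F ![⇑e₀ ∘ a, ⇑e₀ ∘ b, ⇑e₀ ∘ b'] := by
    intro a ha0 c hc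
    have hself : ∀ x : ι → K, q x = 0 → QuadraticMap.polar (⇑q) x x = 0 := fun x hx => by
      rw [FormNormal.polar_self' q, hx, mul_zero]
    have hval : ∀ w r : ι → K, q w = 0 → q r = 0 → QuadraticMap.polar (⇑q) w r = 1 → q (w + c • r) = c :=
      fun w r hw hr hwr => by rw [WittQuad.val_smul_add, hw, hr, hwr]; ring
    obtain ⟨w, hw, r, hr, hQw, hQr, hwr⟩ := exists_pair_perp q G₀.nd (Submodule.span K {a})
      (by rw [finrank_span_singleton ha0]; have := G₀.big; omega)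
    have haw := (HypQuad.mem_perp q).1 hw a (Submodule.mem_span_singleton_self a)
    have har := (HypQuad.mem_perp q).1 hr a (Submodule.mem_span_singleton_self a)
    set b := w + c • r with hb
    have hbr : QuadraticMap.polar (⇑q) b r = 1 := by
      rw [hb, QuadraticMap.polar_add_left, QuadraticMap.polar_smul_left, hwr, hself r hQr, smul_zero, add_zero]
    have hab : QuadraticMap.polar (⇑q) a b = 0 := by
      rw [hb, QuadraticMap.polar_add_right, QuadraticMap.polar_smul_right, haw, har, smul_zero, add_zero]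
    obtain ⟨w', hw', r', hr', hQw', hQr', hwr'⟩ := exists_pair_perp q G₀.nd (Submodule.span K ({a, b} : Set (ι → K)))
      (by have := G₀.big; have := Refl.finrank_span_two (F := K) a b; omega)
    have haw' := (HypQuad.mem_perp q).1 hw' a (Submodule.subset_span (by simp))
    have har' := (HypQuad.mem_perp q).1 hr' a (Submodule.subset_span (by simp))
    have hbr' := (HypQuad.mem_perp q).1 hr' b (Submodule.subset_span (by simp))
    set b' := w' + c • r' with hb'
    have hbr'' : QuadraticMap.polar (⇑q) b' r' = 1 := by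
      rw [hb', QuadraticMap.polar_add_left, QuadraticMap.polar_smul_left, hwr', hself r' hQr', smul_zero, add_zero]
    have hab' : QuadraticMap.polar (⇑q) a b' = 0 := by
      rw [hb', QuadraticMap.polar_add_right, QuadraticMap.polar_smul_right, haw', har', smul_zero, add_zero]
    refine ⟨b, r, b', r', ⟨hval w r hQw hQr hwr, hab, hbr, har⟩, ⟨hval w' r' hQw' hQr' hwr', hab', hbr'', har'⟩, ?_⟩
    refine Fintype.linearIndependent_iff.2 fun x hx => ?_
    simp only [Fin.sum_univ_three, Matrix.cons_val_zero, Matrix.cons_val_one, Matrix.cons_val_two,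
      Matrix.tail_cons, Matrix.head_cons] at hx
    have hz := congrArg (fun v => QuadraticMap.polar (⇑Q) v (⇑e₀ ∘ r')) hx
    simp only [QuadraticMap.polar_add_left, QuadraticMap.polar_smul_left, ext_polar e₀ hq, har', hbr', hbr'',
      map_zero, map_one, smul_eq_mul, mul_zero, mul_one, zero_add, QuadraticMap.polar_zero_left] at hz
    have hy' := congrArg (fun v => QuadraticMap.polar (⇑Q) v (⇑e₀ ∘ r)) hx
    simp only [hz, zero_smul, add_zero, QuadraticMap.polar_add_left, QuadraticMap.polar_smul_left, ext_polar e₀ hq,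
      har, hbr, map_zero, map_one, smul_eq_mul, mul_zero, mul_one, zero_add, QuadraticMap.polar_zero_left] at hy'
    rw [hz, hy', zero_smul, zero_smul, add_zero, add_zero, smul_eq_zero] at hx
    have hx0 : x 0 = 0 := hx.resolve_right fun e =>
      ha0 (funext fun i => e₀.injective ((congrFun e i).trans (map_zero e₀).symm))
    intro i; fin_cases i <;> assumption
  have hline : ∀ a : ι → K, a ≠ 0 → ∃ d : F, semiMap g τ (⇑e₀ ∘ a) = d • (⇑e₀ ∘ a) := by
    intro a ha0
    suffices h : semiMap g τ (⇑e₀ ∘ a) ∈ Submodule.span F {⇑e₀ ∘ a} by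
      obtain ⟨d, hd⟩ := Submodule.mem_span_singleton.1 h
      exact ⟨d, hd.symm⟩
    by_cases ha : q a = 0
    · obtain ⟨b, r, b', r', ⟨hb, hab, hbr, har⟩, ⟨hb', hab', hbr', har'⟩, hind⟩ := hpairs a ha0 1 one_ne_zero
      have key : ∀ b r : ι → K, q b = 1 → QuadraticMap.polar (⇑q) a b = 0 →
          QuadraticMap.polar (⇑q) b r = 1 → QuadraticMap.polar (⇑q) a r = 0 →
          semiMap g τ (⇑e₀ ∘ a) ∈ Submodule.span F ({⇑e₀ ∘ a, ⇑e₀ ∘ b} : Set (ι → F)) := by
        intro b r hb hab hbr har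
        have hsum : q (a + b) = 1 := by
          rw [QuadraticMap.map_add (⇑q) a b, ha, hb, hab]; ring
        -- the lines of `b` and `a + b`
        have hline' : ∀ e : ι → K, q e = 1 → semiMap g τ (⇑e₀ ∘ e) ∈ Submodule.span F {⇑e₀ ∘ e} := by
          intro e he
          obtain ⟨c, s, c', s', ⟨hc, hec, hcs, hes⟩, ⟨hc', hec', hcs', hes'⟩, hind'⟩ :=
            hpairs e (fun h => by simp [h] at he) 1 one_ne_zero
          exact mem_line hind' (hplane e c s (by rw [he]; exact one_ne_zero) (hc.trans he.symm) hec hcs hes)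
            (hplane e c' s' (by rw [he]; exact one_ne_zero) (hc'.trans he.symm) hec' hcs' hes')
        obtain ⟨d₁, h₁⟩ := Submodule.mem_span_singleton.1 (hline' b hb)
        obtain ⟨d₂, h₂⟩ := Submodule.mem_span_singleton.1 (hline' (a + b) hsum)
        have hadd : ⇑e₀ ∘ (a + b) = ⇑e₀ ∘ a + ⇑e₀ ∘ b := funext fun i => map_add e₀ _ _
        rw [hadd, semiMap_add, ← h₁] at h₂
        exact Submodule.mem_span_pair.2 ⟨d₂, d₂ - d₁, by linear_combination (norm := module) h₂⟩
      exact mem_line hind (key b r hb hab hbr har) (key b' r' hb' hab' hbr' har')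
    · obtain ⟨b, r, b', r', ⟨hb, hab, hbr, har⟩, ⟨hb', hab', hbr', har'⟩, hind⟩ := hpairs a ha0 _ ha
      exact mem_line hind (hplane a b r ha hb hab hbr har) (hplane a b' r' ha hb' hab' hbr' har')
  obtain ⟨D, hD, hτ⟩ := semi_all_lines hline
  haveI : Finite (F ≃+* F) := Finite.of_injective (fun e => (e : F → F)) DFunLike.coe_injective
  obtain ⟨i, hi⟩ := (isOfFinOrder_of_finite σ).mem_powers_iff_mem_zpowers.2 (mem_zpowers_of_fix hfix hτ)
  have hi' : σ ^ i = τ := hi
  subst hi'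
  obtain ⟨h, hq', e, em⟩ := OrthOut.exists_pow (pair_go hσ (1 : GO Q)) i
  refine ⟨(i : ℤ), ?_⟩
  show ψ ^ (i : ℤ) = semiPO g (σ ^ i) hp
  rw [zpow_natCast]
  refine e.trans ?_
  rw [← one_mul (semiPO h _ hq'), ← OrthSim.conjPO_scal Q D, OrthOut.conjPO_eq_semi,
    OrthSim.semiPO_mul]
  refine OrthOut.semiPO_congr _ _ (RingEquiv.ext fun _ => rfl) fun w => ?_
  have hit : ∀ n w, (semiMap ((1 : GO Q) : GL ι F) σ)^[n] w = fun i => (σ ^ n) (w i) := by
    intro n
    induction n with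
    | zero => intro w; rfl
    | succ n ih => intro w; rw [Function.iterate_succ_apply', ih, semiMap, pow_succ']; simp
  rw [OrthOut.semiMap_comp, em, hit]
  show gm Q (scal Q D) *ᵥ _ = (g : Matrix ι ι F) *ᵥ _
  rw [hD, OrthSim.gm_scal]
  rfl

set_option maxHeartbeats 1000000 in
/-- The data at the field automorphism. -/
theorem field_data (hH : Narrow Q) {p : ℕ} [Fact p.Prime] (hp2 : p ≠ 2) : Data p (semiW hσ (1 : GO Q)) := by
  classical
  set ψ := semiW hσ (1 : GO Q)
  have hT : ∀ v, semiMap ((1 : GO Q) : GL ι F) σ (LinearEquiv.refl F (ι → F) v) =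
      LinearEquiv.refl F _ fun i => σ (v i) := fun v => by simp [semiMap]
  have hc : ∀ v, Q (LinearEquiv.refl F (ι → F) v) = ((1 : Fˣ) : F) * Q v := fun v => by simp
  have ht : ∀ (x : GO Q) v, gm Q (MonoidHom.id _ x) *ᵥ LinearEquiv.refl F (ι → F) v =
      LinearEquiv.refl F _ (gm Q x *ᵥ v) := fun x v => rfl
  set φ0 : GO q →* MulAut (Cfsg.POmega F (⇑Q)) := (conjPO Q).comp (mapGO hq)
  set N := (NN q).map φ0
  have hker : ∀ b, φ0 b = 1 ↔ conjPO q b = 1 := fun b => map_ker hq hT hc ht G G₀ b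
  have hinn : Cfsg.Inn (Cfsg.POmega K (⇑q)) = (NN q).map (conjPO q) := by
    ext z
    constructor
    · rintro ⟨t, rfl⟩
      obtain ⟨s, rfl⟩ := QuotientGroup.mk_surjective t
      exact ⟨toGO q s.1, (OrthSim.mem_NN q).2 ⟨1, s.1, s.2, by rw [map_one, one_mul]⟩, conjPO_omega s⟩
    · rintro ⟨x, hx, rfl⟩
      obtain ⟨a, s, hs, rfl⟩ := (OrthSim.mem_NN q).1 hx
      rw [map_mul, OrthSim.conjPO_scal, one_mul]
      exact conjPO_omega_mem hs
  obtain ⟨e1⟩ : Nonempty (N ≃* Cfsg.POmega K (⇑q)) := by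
    obtain ⟨e⟩ := range_equiv (φ0.comp (NN q).subtype) ((conjPO q).comp (NN q).subtype)
      (Subgroup.ext fun b => hker b)
    exact ⟨((MulEquiv.subgroupCongr (by rw [MonoidHom.range_comp, Subgroup.range_subtype])).trans
      (e.trans (MulEquiv.subgroupCongr (show _ = Cfsg.Inn (Cfsg.POmega K (⇑q)) by
        rw [hinn, MonoidHom.range_comp, Subgroup.range_subtype])))).trans
      (MonoidHom.ofInjective (po_conj_inj G₀)).symm⟩
  haveI : IsSimpleGroup (Cfsg.POmega K (⇑q)) := Refl.simple _ G₀.nd (by have := G₀.big; omega)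
  haveI : Nontrivial N := e1.toEquiv.nontrivial
  have hNs : IsSimpleGroup N := IsSimpleGroup.isSimpleGroup_of_surjective e1.symm.toMonoidHom e1.symm.surjective
  have hφ0 : ∀ s, φ0 (toGO q s) = conjPO Q (toGO Q (mapIso hq s)) := fun s => by
    show conjPO Q (mapGO hq (toGO q s)) = _
    rw [mapGO_toGO]
  have hNinn : N ≤ fixInn ψ := by
    rintro _ ⟨b, hb, rfl⟩
    refine ⟨?_, Subgroup.mem_centralizer_singleton_iff.2
      (map_commute hσ hq hT ht (fun x => (hfix _).2 ⟨x, rfl⟩) b)⟩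
    obtain ⟨a, s, hs, rfl⟩ := (OrthSim.mem_NN q).1 hb
    rw [map_mul, hφ0, show φ0 (scal q a) = 1 by
      show conjPO Q (mapGO hq (scal q a)) = 1; rw [mapGO_scal, OrthSim.conjPO_scal], one_mul]
    exact conjPO_omega_mem (mapIso_omega hq hs)
  have hsub : ∀ c ∈ fixInn ψ, ∃ b, φ0 b = c := by
    rintro c ⟨hi, hcen⟩
    have h1 : c ∈ (⊤ : Subgroup (GO Q)).map (conjPO Q) ⊓ Subgroup.centralizer {ψ} := ⟨by
      obtain ⟨t, rfl⟩ := hi
      obtain ⟨s, rfl⟩ := QuotientGroup.mk_surjective t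
      exact ⟨_, trivial, conjPO_omega s⟩, hcen⟩
    rw [cent_eq hσ hq hT hc ht G hfix ⊤ (fun _ => trivial) ⊤ (fun _ => Iff.rfl)] at h1
    obtain ⟨b, -, hb⟩ := h1
    exact ⟨b, hb⟩
  refine ⟨N, hNinn, noCore_of_simple hNs, ?_, fun hdvd => ?_, fun y hy => ?_⟩
  · rintro c hc' _ ⟨n, hn, rfl⟩
    obtain ⟨b, rfl⟩ := hsub c hc'
    haveI := OrthSim.nn_normal q
    exact ⟨b * n * b⁻¹, Subgroup.Normal.conj_mem ‹_› n hn b, by rw [map_mul, map_mul, map_inv]⟩
  · obtain ⟨⟨c, hc'⟩, hco⟩ := exists_prime_orderOf_dvd_card' p hdvd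
    rw [Subgroup.orderOf_mk] at hco
    obtain ⟨b, rfl⟩ := hsub c hc'
    have hcK : φ0 b ^ 4 ∈ N := ⟨b ^ 4, four_pow_mem G₀ b, map_pow _ _ _⟩
    have hcop : Nat.Coprime 4 (orderOf (φ0 b)) := by
      rw [hco]
      exact (Nat.Coprime.pow_left 2 ((Nat.coprime_primes Nat.prime_two Fact.out).2 (Ne.symm hp2)) :)
    obtain ⟨j, hj⟩ := exists_pow_eq_self_of_coprime hcop
    rw [← hco, ← Subgroup.orderOf_mk (φ0 b) (show φ0 b ∈ N from hj ▸ pow_mem hcK j)]
    exact orderOf_dvd_natCard _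
  · refine field_rigid hq hσ hfix G G₀ hH fun s hs => ?_
    have hk : φ0 (toGO q s) ∈ N := ⟨_, (OrthSim.mem_NN q).2 ⟨1, s, hs, by rw [map_one, one_mul]⟩, rfl⟩
    rw [← hφ0]
    exact Subgroup.mem_centralizer_iff.1 hy _ hk

end Generic

section Minus

open Cfsg.Lib.OrthOut (good_minus narrow_minus)

variable {F : Type u} [Field F] [Fintype F] [DecidableEq F] {k : ℕ}

local notation "ιM" => (Fin k ⊕ Fin k) ⊕ Fin 2

/-- The minus form has no semilinear involutions. -/
theorem no_semi_two (hk : 3 ≤ k) {a b : F} (hab : Aniso a b) {w : GL ιM F} {σ : F ≃+* F}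
    (hp : Cfsg.IsSemisimilarityPair (⇑(minusForm k F a b)) w σ) (hσ : orderOf σ = 2)
    (hpow : semiPO w σ hp ^ 2 = 1) : False := by
  classical
  haveI : Nonempty ιM := ⟨Sum.inr 0⟩
  have G := good_minus (F := F) hk hab
  obtain ⟨-, c, hc⟩ := pow_semi G (narrow_minus hk hab) hp hpow
  obtain ⟨t, ht⟩ := normalise (Q := minusForm k F a b) hσ two_pos hc
  haveI : Finite (F ≃+* F) := Finite.of_injective (fun e => (e : F → F)) DFunLike.coe_injective
  let S : Subgroup (F ≃+* F) := Subgroup.zpowers σ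
  letI : Fintype S := Fintype.ofFinite S
  let L := FixedPoints.subfield S F
  have hfix : ∀ x, σ x = x ↔ x ∈ Set.range L.subtype := fun x => by
    constructor
    · intro hx
      refine ⟨⟨x, ?_⟩, rfl⟩
      rintro ⟨τ, hτ⟩
      have h1 : S ≤ MulAction.stabilizer (F ≃+* F) x := Subgroup.zpowers_le.2 hx
      exact h1 hτ
    · rintro ⟨y, rfl⟩
      exact y.2 ⟨σ, Subgroup.mem_zpowers σ⟩
  have hfix' : ∀ x, σ (L.subtype x) = L.subtype x := fun x => (hfix _).2 ⟨x, rfl⟩
  have hfin : Module.finrank L F = 2 := by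
    rw [FixedPoints.finrank_eq_card, ← Nat.card_eq_fintype_card, Nat.card_zpowers, hσ]
  obtain ⟨ζ, hζ⟩ := exists_zeta (F := L)
  obtain ⟨q, T, c, hnd, hT, hc⟩ := exists_form (minusForm_nondegenerate' k hab) hfix hσ two_pos (pair_scal hp t) ht
  have hts : ∀ (Q₁ : QuadraticForm F (ιM → F)) (T' : (ιM → F) ≃ₗ[F] (ιM → F)) (c' : Fˣ)
      (U : Submodule F (ιM → F)), (∀ v, minusForm k F a b (T' v) = (c' : F) * Q₁ v) →
      Module.finrank F U = k + 1 → (∀ x ∈ U, Q₁ x = 0) → False := by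
    intro Q₁ T' c' U hc' hU hU0
    have h1 := minus_ts_le hab (T := U.map T'.toLinearMap) (by
      rintro _ ⟨x, hx, rfl⟩
      show minusForm k F a b (T' x) = 0
      rw [hc', hU0 x hx, mul_zero])
    rw [LinearEquiv.finrank_map_eq, hU] at h1
    omega
  rcases even_cases hnd (m := k + 1) (by simp; omega) with ⟨g, hg⟩ | ⟨k', hk', hkk⟩
  · obtain ⟨T', c', -, hc'⟩ := triv_of_model hfix' hT hc (q₁ := HypQuad.plusForm (k + 1) L)
      (Q₁ := HypQuad.plusForm (k + 1) F)
      (fun v => by simp [HypQuad.plusForm_apply, Cfsg.quadFormPlus, map_sum]) g one_ne_zero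
      fun v => by rw [hg, one_mul, HypQuad.plusForm_apply]
    have h1 := minus_ts_le hab (T := (HypQuad.leftSpace (k + 1) F).map T'.toLinearMap) (by
      rintro _ ⟨x, hx, rfl⟩
      show minusForm k F a b (T' x) = 0
      rw [hc', (HypQuad.leftSpace_isMax (k + 1)).2 x hx, mul_zero])
    rw [LinearEquiv.finrank_map_eq, (HypQuad.leftSpace_isMax (k + 1)).1] at h1
    omega
  · cases (show k = k' by omega)
    obtain ⟨g, hg⟩ := hkk ζ hζ
    obtain ⟨T', c', -, hc'⟩ := triv_of_model hfix' hT hc (q₁ := minusForm k L 1 ζ)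
      (Q₁ := minusForm k F 1 (L.subtype ζ)) (fun v => by simp [minusForm_coe, Cfsg.quadFormMinus]) g one_ne_zero
      fun v => by rw [hg, one_mul, minusForm_coe]
    obtain ⟨ρ, hρ⟩ := MinusExtend.exists_root (K := F) hfin (a := (1 : L)) (c := ζ) fun z₁ z₂ h => aniso_zeta hζ z₁ z₂ h
    have hρ' : ρ ^ 2 + (1 : F) * ρ + L.subtype ζ = 0 := by
      rw [map_one] at hρ
      exact hρ
    obtain ⟨h1, h2⟩ := OrthSim.lineSpace_isMax (m := k) hρ'
    exact hts _ T' c' _ hc' h1 h2

/-- A standard field automorphism acts as the automorphism of the trivial similitude. -/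
theorem std_semiW {ι : Type} [Fintype ι] [DecidableEq ι] {Q : QuadraticForm F (ι → F)} {σ : F ≃+* F}
    (hσ : Fixes σ Q) : Cfsg.IsFieldAutPOmegaOf (⇑Q) σ (semiW hσ (1 : GO Q)) := fun s s' e =>
  (OrthSim.induced_semi_iff _ _ _ _).2 rfl s s' (by simpa using e)

theorem minus_field (hk : 3 ≤ k) {a b : F} (hab : Aniso a b) {w : GL ιM F} {τ : F ≃+* F}
    (hp : Cfsg.IsSemisimilarityPair (⇑(minusForm k F a b)) w τ) {p : ℕ} [Fact p.Prime] (hτ : τ ≠ 1)
    (hpow : semiPO w τ hp ^ p = 1) :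
    (∃ (a' b' : F) (ψ : Cfsg.POmega F (⇑(minusForm k F a b)) ≃* Cfsg.POmega F (Cfsg.quadFormMinus k F a' b'))
        (σ : F ≃+* F), Aniso a' b' ∧ σ ≠ RingEquiv.refl F ∧ σ a' = a' ∧ σ b' = b' ∧
        Cfsg.IsFieldAutPOmegaOf (Cfsg.quadFormMinus k F a' b') σ ((ψ.symm.trans (semiPO w τ hp)).trans ψ)) ∧
      Data p (semiPO w τ hp) := by
  classical
  have G := good_minus (F := F) hk hab
  obtain ⟨hτp, -⟩ := pow_semi G (narrow_minus hk hab) hp hpow
  have hord : orderOf τ = p := orderOf_eq_prime hτp hτ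
  have hp2 : p ≠ 2 := by
    rintro rfl
    exact no_semi_two hk hab hp hord hpow
  let L : Subfield F := τ.toRingHom.eqLocusField (RingHom.id F)
  have hfix : ∀ x, τ x = x ↔ x ∈ Set.range L.subtype := fun x =>
    ⟨fun hx => ⟨⟨x, hx⟩, rfl⟩, by rintro ⟨y, rfl⟩; exact y.2⟩
  obtain ⟨ζ, hζ⟩ := exists_zeta (F := L)
  have hζ₀ : Aniso (1 : L) ζ := fun z₁ z₂ h => aniso_zeta hζ z₁ z₂ h
  have ha' : τ (L.subtype 1) = L.subtype 1 := (hfix _).2 ⟨1, rfl⟩
  have hb' : τ (L.subtype ζ) = L.subtype ζ := (hfix _).2 ⟨ζ, rfl⟩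
  have hab' : Aniso (L.subtype 1) (L.subtype ζ) := by
    intro z₁ z₂ h
    by_cases h2 : z₂ = 0
    · subst h2
      exact ⟨by simpa using h, rfl⟩
    exfalso
    set ρ := z₁ / z₂
    have hρ : ρ ^ 2 + ρ + L.subtype ζ = 0 := by
      rw [map_one] at h
      simp only [ρ]
      field_simp
      linear_combination h
    have hρ' : τ ρ ^ 2 + τ ρ + L.subtype ζ = 0 := by
      rw [← hb', ← map_pow, ← map_add, ← map_add, hρ, map_zero]
    have hor : (τ ρ - ρ) * (τ ρ + ρ + 1) = 0 := by linear_combination hρ' - hρ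
    have h2' : (τ ^ 2) ρ = ρ := by
      show τ (τ ρ) = ρ
      rcases mul_eq_zero.1 hor with e | e
      · rw [sub_eq_zero.1 e, sub_eq_zero.1 e]
      · rw [show τ ρ = -ρ - 1 by linear_combination e, map_sub, map_neg, map_one,
          show τ ρ = -ρ - 1 by linear_combination e]
        ring
    obtain ⟨j, hj⟩ := (Fact.out : p.Prime).odd_of_ne_two hp2
    have hfixρ : τ ρ = ρ := by
      have e : τ = (τ ^ 2) ^ (j + 1) := by
        rw [← pow_mul, show 2 * (j + 1) = p + 1 by omega, pow_succ, ← hord, pow_orderOf_eq_one, one_mul]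
      rw [e]
      exact map_pow_fix h2' _
    obtain ⟨y, hy⟩ := (hfix ρ).1 hfixρ
    refine hζ y (Subtype.ext ?_)
    rw [← hy] at hρ
    simpa using hρ
  set Q' := minusForm k F (L.subtype 1) (L.subtype ζ)
  obtain ⟨g, c, hg⟩ := exists_minus_similitude hk hab hab'
  obtain ⟨ψ₀, hψ₀⟩ := exists_poT_semi (Q := Q') hg
  have hσ : Fixes τ Q' := fixes_minus ha' hb'
  set w' : GO Q' := ⟨_, go_of_pair hσ (pair_transport hg hp)⟩
  have hx : autT ψ₀ (semiPO w τ hp) = semiW hσ w' := hψ₀ w τ hp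
  have hpow' : semiW hσ w' ^ p = 1 := by rw [← hx, ← map_pow, hpow, map_one]
  obtain ⟨y, -, hy⟩ := minus_conj_std hk hab' ha' hb' hord (Fact.out : p.Prime).pos hpow'
  refine ⟨?_, ?_⟩
  · have hstd : autT (ψ₀.trans ((conjPO Q' y)⁻¹ : MulAut _)) (semiPO w τ hp) = semiW hσ 1 := by
      calc autT (ψ₀.trans ((conjPO Q' y)⁻¹ : MulAut _)) (semiPO w τ hp)
          = (conjPO Q' y)⁻¹ * autT ψ₀ (semiPO w τ hp) * ((conjPO Q' y)⁻¹)⁻¹ :=
            MulEquiv.ext fun z => rfl
        _ = _ := by rw [hx, hy]; simp only [Q']; group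
    have e : Cfsg.quadFormMinus k F (L.subtype 1) (L.subtype ζ) = ⇑Q' := (minusForm_coe _ _ _).symm
    refine ⟨L.subtype 1, L.subtype ζ, ?_⟩
    rw [e]
    exact ⟨ψ₀.trans ((conjPO Q' y)⁻¹ : MulAut _), τ, hab', hτ, ha', hb', by
      show Cfsg.IsFieldAutPOmegaOf (⇑Q') τ (autT (ψ₀.trans ((conjPO Q' y)⁻¹ : MulAut _)) (semiPO w τ hp))
      rw [hstd]
      exact std_semiW hσ⟩
  · have hd : Data p (semiW hσ (1 : GO Q')) :=
      field_data (ext_minusForm L.subtype) hσ hfix (good_minus hk hab') (good_minus (F := L) hk hζ₀)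
        (narrow_minus hk hab') hp2
    have h1 : Data p (autT ψ₀ (semiPO w τ hp)) := by rw [hx, hy]; exact hd.conj _
    have h2 := h1.autT ψ₀.symm
    rwa [show autT ψ₀.symm (autT ψ₀ (semiPO w τ hp)) = semiPO w τ hp from
      MulEquiv.ext fun z => by simp [autT]] at h2

end Minus

end Cfsg.Lib.Balance
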