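import Cfsg.Agent.Known.Balance.MinusField
import Cfsg.Agent.Known.Balance.BilComp
import Cfsg.Agent.Known.Balance.PSL
import Cfsg.Agent.Known.OrthSim.Invol

/-!
Local balance at involutory similitudes of sign `-1`.
-/

set_option autoImplicit false
set_option linter.unusedSectionVars false
set_option linter.style.haveILetI false

namespace Cfsg.Lib.Balance

open Matrix Cfsg.Lib.Classical Cfsg.Lib.Classical.Refl Cfsg.Lib.OrthAut Cfsg.Lib.OrthField
open Cfsg.Lib.OrthSim (GO gm semiPO conjPO toGO scal mu mu_spec Setup)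
open scoped commutatorElement

universe u

variable {F : Type u} [Field F] [Fintype F] [DecidableEq F] {ι : Type} [Fintype ι] [DecidableEq ι]
  {Q : QuadraticForm F (ι → F)}

theorem polar_iso (s : Cfsg.isometryGroup F (⇑Q)) (x y : ι → F) :
    QuadraticMap.polar (⇑Q) (mat Q s *ᵥ x) (mat Q s *ᵥ y) = QuadraticMap.polar (⇑Q) x y := by
  simp only [QuadraticMap.polar, ← mulVec_add, (mem_iff Q).1 s.2]

theorem exists_iso (hQ : (QuadraticMap.polarBilin Q).Nondegenerate) (L : (ι → F) →ₗ[F] (ι → F))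
    (hL : ∀ v, Q (L v) = Q v) : ∃ s : Cfsg.isometryGroup F (⇑Q), ∀ v, mat Q s *ᵥ v = L v := by
  have hinj : Function.Injective L := by
    rw [← LinearMap.ker_eq_bot, Submodule.eq_bot_iff]
    intro v hv
    refine hQ.1 v fun y => ?_
    show QuadraticMap.polar (⇑Q) v y = 0
    have h : QuadraticMap.polar (⇑Q) (L v) (L y) = QuadraticMap.polar (⇑Q) v y := by
      simp only [QuadraticMap.polar, ← map_add, hL]
    rw [← h, LinearMap.mem_ker.1 hv, QuadraticMap.polar_zero_left]
  have hdet : (LinearMap.toMatrix' L).det ≠ 0 := by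
    rw [LinearMap.det_toMatrix']
    exact (LinearEquiv.isUnit_det' (LinearEquiv.ofInjectiveEndo L hinj)).ne_zero
  exact ⟨⟨Matrix.GeneralLinearGroup.mkOfDetNeZero _ hdet, (mem_iff Q).2 fun v => by
    show Q (LinearMap.toMatrix' L *ᵥ v) = Q v
    rw [LinearMap.toMatrix'_mulVec, hL]⟩, fun v => LinearMap.toMatrix'_mulVec L v⟩

/-- Two orthogonal reflections commute with an adjoint map preserving their plane. -/
theorem refl_pair_comm (h2 : (2 : F) ≠ 0) {T : (ι → F) →ₗ[F] (ι → F)}
    (hT : ∀ x y, QuadraticMap.polar (⇑Q) (T x) y = QuadraticMap.polar (⇑Q) x (T y)) {a b : ι → F} (ha : Q a ≠ 0)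
    (hb : Q b ≠ 0) (hab : QuadraticMap.polar (⇑Q) a b = 0) {p q p' q' : F} (hTa : T a = p • a + q • b)
    (hTb : T b = p' • a + q' • b) (x : ι → F) :
    mat Q (refl Q a ha * refl Q b hb) *ᵥ T x = T (mat Q (refl Q a ha * refl Q b hb) *ᵥ x) := by
  have hsym : q * Q b * 2 = p' * Q a * 2 := by
    have h := hT a b
    rw [hTa, hTb, QuadraticMap.polar_add_left, QuadraticMap.polar_smul_left, QuadraticMap.polar_smul_left,
      QuadraticMap.polar_add_right, QuadraticMap.polar_smul_right, QuadraticMap.polar_smul_right, hab,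
      FormNormal.polar_self' Q, FormNormal.polar_self' Q] at h
    simp only [smul_eq_mul, mul_zero, zero_add, add_zero] at h
    linear_combination h
  have hq : q * Q b = p' * Q a := mul_right_cancel₀ h2 hsym
  have e1 : QuadraticMap.polar (⇑Q) a (T x) = p * QuadraticMap.polar (⇑Q) a x + q * QuadraticMap.polar (⇑Q) b x := by
    rw [← hT, hTa, QuadraticMap.polar_add_left, QuadraticMap.polar_smul_left, QuadraticMap.polar_smul_left]; rfl
  have e2 : QuadraticMap.polar (⇑Q) b (T x) =
      p' * QuadraticMap.polar (⇑Q) a x + q' * QuadraticMap.polar (⇑Q) b x := by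
    rw [← hT, hTb, QuadraticMap.polar_add_left, QuadraticMap.polar_smul_left, QuadraticMap.polar_smul_left]; rfl
  rw [mat_refl_mul ha hb hab, mat_refl_mul ha hb hab]
  simp only [map_sub, map_smul, hTa, hTb, e1, e2]
  match_scalars
  · rfl
  · field_simp
    linear_combination (-QuadraticMap.polar (⇑Q) b x) * hq
  · field_simp
    linear_combination QuadraticMap.polar (⇑Q) a x * hq

/-- The isometries commuting with a similitude. -/
def centG (g : GO Q) : Subgroup (Cfsg.isometryGroup F (⇑Q)) := (Subgroup.centralizer {g}).comap (toGO Q)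

theorem mem_centG {g : GO Q} {s : Cfsg.isometryGroup F (⇑Q)} :
    s ∈ centG g ↔ ∀ v, mat Q s *ᵥ (gm Q g *ᵥ v) = gm Q g *ᵥ (mat Q s *ᵥ v) := by
  rw [centG, Subgroup.mem_comap, Subgroup.mem_centralizer_singleton_iff]
  constructor
  · intro h v
    have h1 := congrArg (fun z => gm Q z *ᵥ v) h
    simpa [OrthSim.gm_mul, OrthSim.gm_toGO, ← mulVec_mulVec] using h1
  · intro h
    refine OrthSim.go_ext Q (Matrix.toLin'.injective (LinearMap.ext fun v => ?_))
    rw [OrthSim.gm_mul, OrthSim.gm_mul, OrthSim.gm_toGO, Matrix.toLin'_apply, Matrix.toLin'_apply, ← mulVec_mulVec,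
      ← mulVec_mulVec]
    exact h v

/-- The automorphism of an isometry commuting with `g`. -/
noncomputable def phiC (g : GO Q) : centG g →* MulAut (Cfsg.POmega F (⇑Q)) :=
  ((conjPO Q).comp (toGO Q)).comp (centG g).subtype

theorem phiC_comm {g : GO Q} (s : centG g) : phiC g s * conjPO Q g = conjPO Q g * phiC g s := by
  show conjPO Q (toGO Q s.1) * _ = _ * conjPO Q (toGO Q s.1)
  rw [← map_mul, ← map_mul, Subgroup.mem_centralizer_singleton_iff.1 s.2]

theorem phiC_inn {g : GO Q} {s : centG g} (hs : s.1 ∈ Cfsg.Omega F (⇑Q)) : phiC g s ∈ fixInn (conjPO Q g) :=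
  ⟨conjPO_omega_mem hs, Subgroup.mem_centralizer_singleton_iff.2 (phiC_comm s)⟩

theorem scal_of_phiC (G : Good Q) {g : GO Q} {s : centG g} (h : phiC g s = 1) :
    ∃ c : F, ∀ v, mat Q s.1 *ᵥ v = c • v := by
  have h1 : toGO Q s.1 ∈ (conjPO Q).ker := h
  rw [OrthSim.conjPO_ker Q G.nd G.big] at h1
  obtain ⟨c, hc⟩ := h1
  exact ⟨c, fun v => by rw [← OrthSim.gm_toGO, ← hc, OrthSim.gm_scal, smul_mulVec, one_mulVec]⟩

/-- The data from the fourth powers in normalised odd subgroups and from rigidity. -/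
theorem invol_data_of (G : Good Q) {g : GO Q}
    (hsimple : IsSimpleGroup (Cfsg.POmega F (⇑Q)))
    (hodd : ∀ R : Subgroup (MulAut (Cfsg.POmega F (⇑Q))), Odd (Nat.card R) →
      (∀ s : centG g, ∀ r ∈ R, phiC g s * r * (phiC g s)⁻¹ ∈ R) →
      ∀ s : centG g, s.1 ∈ Cfsg.Omega F (⇑Q) → phiC g s ∈ R → ∀ v, mat Q s.1 *ᵥ (mat Q s.1 *ᵥ v) = v)
    (hrig : ∀ y : MulAut (Cfsg.POmega F (⇑Q)),
      (∀ s : centG g, s.1 ∈ Cfsg.Omega F (⇑Q) → phiC g s * y = y * phiC g s) → y ∈ Subgroup.zpowers (conjPO Q g)) :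
    Data 2 (conjPO Q g) ∧
      ¬ Nat.Coprime 2 (Nat.card ↥(MonoidHom.eqLocus (conjPO Q g).toMonoidHom (MonoidHom.id (Cfsg.POmega F (⇑Q))))) := by
  classical
  haveI : Finite (MulAut (Cfsg.POmega F (⇑Q))) := Finite.of_injective (fun e => (e : _ → _)) DFunLike.coe_injective
  set x := conjPO Q g
  set H := fixInn x
  have hnorm : ∀ s : centG g, ∀ c ∈ H, phiC g s * c * (phiC g s)⁻¹ ∈ H := fun s c hc => by
    have h := mem_fixInn_conj (α := phiC g s) hc
    rwa [show phiC g s * x * (phiC g s)⁻¹ = x from mul_inv_eq_iff_eq_mul.2 (phiC_comm s)] at h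
  -- the centraliser
  have hcent : Subgroup.centralizer (H : Set (MulAut (Cfsg.POmega F (⇑Q)))) ≤ Subgroup.zpowers x := fun y hy =>
    hrig y fun s hs => Subgroup.mem_centralizer_iff.1 hy _ (phiC_inn hs)
  -- the core
  have hcore : Cfsg.pPrimeCore 2 H = ⊥ := by
    set C := Cfsg.pPrimeCore 2 H
    set R := C.map H.subtype
    have hR : Odd (Nat.card R) := by
      rw [Subgroup.card_map_of_injective H.subtype_injective, ← Nat.coprime_two_right]
      exact Cfsg.Lib.Components.coprime_card_pPrimeCore 2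
    have hRn : ∀ s : centG g, ∀ r ∈ R, phiC g s * r * (phiC g s)⁻¹ ∈ R := by
      intro s
      let α : H ≃* H :=
        { toFun := fun c => ⟨_, hnorm s c c.2⟩
          invFun := fun c => ⟨(phiC g s)⁻¹ * c * (phiC g s), by
            simpa using hnorm s⁻¹ c c.2⟩
          left_inv := fun c => Subtype.ext (by group)
          right_inv := fun c => Subtype.ext (by group)
          map_mul' := fun c d => Subtype.ext (by simp [mul_assoc]) }
      have hα : C.map α.toMonoidHom ≤ C := by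
        haveI : (C.map α.toMonoidHom).Normal := (show C.Normal from inferInstance).map _ α.surjective
        refine Cfsg.Lib.Components.le_pPrimeCore ?_
        rw [← Nat.card_congr (C.equivMapOfInjective α.toMonoidHom α.injective).toEquiv]
        exact Cfsg.Lib.Components.coprime_card_pPrimeCore 2
      rintro _ ⟨c, hc, rfl⟩
      exact ⟨α c, hα ⟨c, hc, rfl⟩, rfl⟩
    refine (Subgroup.eq_bot_iff_forall _).2 fun r hr => ?_
    obtain ⟨⟨t, ht⟩, hrx⟩ := r.2
    obtain ⟨s, rfl⟩ := QuotientGroup.mk_surjective t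
    rw [← conjPO_omega] at ht
    have hker : toGO Q s.1 * g * (g * toGO Q s.1)⁻¹ ∈ (conjPO Q).ker := by
      rw [MonoidHom.mem_ker, map_mul, map_inv, mul_inv_eq_one, map_mul, map_mul, ht]
      exact Subgroup.mem_centralizer_singleton_iff.1 hrx
    rw [OrthSim.conjPO_ker Q G.nd G.big] at hker
    obtain ⟨z, hz⟩ := hker
    have hsg : toGO Q s.1 * g = scal Q z * (g * toGO Q s.1) := by rw [hz, inv_mul_cancel_right]
    have hz1 : z * z = 1 := by
      have h := congrArg (mu Q) hsg
      simp only [OrthSim.mu_mul Q G.nd G.big, OrthSim.mu_scal Q G.nd G.big, OrthSim.mu_toGO Q G.nd G.big, one_mul,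
        mul_one] at h
      exact mul_eq_right.1 h.symm
    have hs2 : s.1 * s.1 ∈ centG g := by
      rw [centG, Subgroup.mem_comap, Subgroup.mem_centralizer_singleton_iff, map_mul]
      calc toGO Q s.1 * toGO Q s.1 * g = toGO Q s.1 * (scal Q z * (g * toGO Q s.1)) := by rw [mul_assoc, hsg]
        _ = scal Q z * (toGO Q s.1 * g) * toGO Q s.1 := by rw [← mul_assoc, ← OrthSim.scal_comm]; simp only [mul_assoc]
        _ = _ := by rw [hsg, ← mul_assoc, ← map_mul, hz1, map_one, one_mul, mul_assoc]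
    have hr2 : phiC g ⟨_, hs2⟩ = r.1 ^ 2 := by
      show conjPO Q (toGO Q (s.1 * s.1)) = _
      rw [map_mul, map_mul, pow_two, ← ht]
    have h4 := hodd R hR hRn ⟨_, hs2⟩ ((Cfsg.Omega F (⇑Q)).mul_mem s.2 s.2) (hr2 ▸ pow_mem (show r.1 ∈ R from ⟨r, hr, rfl⟩) 2)
    have h5 : (⟨_, hs2⟩ * ⟨_, hs2⟩ : centG g) = 1 := Subtype.ext (ext_mulVec Q fun v => by
      show (mat Q (s.1 * s.1) * mat Q (s.1 * s.1)) *ᵥ v = mat Q 1 *ᵥ v
      rw [← mulVec_mulVec, h4]
      exact (one_mulVec v).symm)
    have h6 : r.1 ^ 4 = 1 := by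
      rw [show (4 : ℕ) = 2 * 2 from rfl, pow_mul, pow_two (r.1 ^ 2), ← hr2, ← map_mul, h5, map_one]
    have h7 : orderOf r ∣ 2 ^ 2 := orderOf_dvd_of_pow_eq_one (Subtype.ext (by simpa using h6))
    have h8 : orderOf r ∣ Nat.card C := by
      rw [← Subgroup.orderOf_mk r hr]
      exact orderOf_dvd_natCard _
    exact orderOf_eq_one_iff.1
      (Nat.eq_one_of_dvd_coprimes ((Cfsg.Lib.Components.coprime_card_pPrimeCore 2).pow_right 2) h8 h7)
  have hne : Nontrivial H := by
    by_contra hcon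
    rw [not_nontrivial_iff_subsingleton] at hcon
    have hall : ∀ y, y ∈ Subgroup.zpowers x := fun y => hcent (Subgroup.mem_centralizer_iff.2 fun k hk => by
      rw [show k = 1 from congrArg Subtype.val (Subsingleton.elim (⟨k, hk⟩ : H) 1)]; simp)
    have hcomm : ∀ s t : Cfsg.POmega F (⇑Q), s * t = t * s := fun s t => by
      obtain ⟨i, hi⟩ := hall (MulAut.conj s)
      obtain ⟨j, hj⟩ := hall (MulAut.conj t)
      refine po_conj_inj G ?_
      simp only at hi hj
      rw [map_mul, map_mul, ← hi, ← hj, ← _root_.zpow_add, ← _root_.zpow_add, add_comm]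
    haveI := hsimple.toNontrivial
    obtain ⟨s, hs⟩ := exists_ne (1 : Cfsg.POmega F (⇑Q))
    refine hs (po_conj_inj G ?_)
    rw [map_one]
    exact MulEquiv.ext fun z => by simp [hcomm s z]
  have h2H : 2 ∣ Nat.card H := by
    by_contra hdiv
    have hcop : Nat.Coprime (Nat.card (⊤ : Subgroup H)) 2 := by
      rw [Subgroup.card_top, Nat.coprime_two_right, Nat.odd_iff]
      omega
    have htop := (Cfsg.Lib.Components.le_pPrimeCore hcop).trans (le_of_eq hcore)
    obtain ⟨y, hy⟩ := exists_ne (1 : H)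
    exact hy (Subgroup.mem_bot.1 (htop (Subgroup.mem_top y)))
  refine ⟨⟨H, le_rfl, ⟨hne, fun _ N hN hc => ?_⟩, fun c hc k hk => mul_mem (mul_mem hc hk) (inv_mem hc), id, hcent⟩,
    not_coprime (po_conj_inj G) le_rfl h2H⟩
  haveI := hN
  exact le_bot_iff.1 (hcore ▸ Cfsg.Lib.Components.le_pPrimeCore hc)

section Invol

variable {k : ℕ} (S : Setup Q k) {g : GO Q} {c : Fˣ}

include S

/-- The eigenspaces have odd dimension. -/
theorem eigen_odd (he : S.e g = -1) (hg : g * g = scal Q c) {d : F} (hd : (c : F) = d * d) :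
    Odd (Module.finrank F ↥(LinearMap.ker (Matrix.toLin' (gm Q g) + d • 1))) := by
  classical
  obtain ⟨hcompl, m1, m2, -⟩ := S.eigen_split he hg hd
  set W₁ := LinearMap.ker (Matrix.toLin' (gm Q g) - d • 1)
  set W₂ := LinearMap.ker (Matrix.toLin' (gm Q g) + d • 1)
  have hsum := Submodule.finrank_add_eq_of_isCompl hcompl
  rw [Module.finrank_fintype_fun_eq_card, S.hk] at hsum
  have hdet : (gm Q g).det = d ^ Module.finrank F W₁ * (-d) ^ Module.finrank F W₂ := by
    have e : Matrix.toLin' (gm Q g) ∘ₗ (Submodule.prodEquivOfIsCompl W₁ W₂ hcompl).toLinearMap =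
        (Submodule.prodEquivOfIsCompl W₁ W₂ hcompl).toLinearMap ∘ₗ (d • LinearMap.id).prodMap ((-d) • LinearMap.id) := by
      refine LinearMap.ext fun p => ?_
      simp [Matrix.toLin'_apply, mulVec_add, (m1 _).1 p.1.2, (m2 _).1 p.2.2, neg_smul]
    have e' : (Submodule.prodEquivOfIsCompl W₁ W₂ hcompl).toLinearMap ∘ₗ (d • LinearMap.id).prodMap ((-d) • LinearMap.id) ∘ₗ
        (Submodule.prodEquivOfIsCompl W₁ W₂ hcompl).symm.toLinearMap = Matrix.toLin' (gm Q g) := by
      rw [← LinearMap.comp_assoc, ← e, LinearMap.comp_assoc, LinearEquiv.comp_coe, LinearEquiv.symm_trans_self,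
        LinearEquiv.refl_toLinearMap, LinearMap.comp_id]
    rw [← LinearMap.det_toLin', ← e', LinearMap.det_conj, LinearMap.det_prodMap, LinearMap.det_smul,
      LinearMap.det_smul, LinearMap.det_id, LinearMap.det_id, mul_one, mul_one]
  by_contra hh'
  rw [Nat.not_odd_iff_even] at hh'
  rw [hh'.neg_pow, ← pow_add, hsum, pow_mul, pow_two, ← hd] at hdet
  have h1 : ((S.e g : Fˣ) : F) = 1 := by
    rw [Setup.e, OrthSim.coe_eps, hdet, S.mu_eq_of_sq he hg, div_self (pow_ne_zero _ c.ne_zero)]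
  rw [he] at h1
  exact S.neg_ne (Units.ext h1)

set_option maxHeartbeats 1000000 in
theorem invol_sq (G : Good Q) (hH : Narrow Q) (he : S.e g = -1) (hg : g * g = scal Q c) {d₀ : F}
    (hd₀ : (c : F) = d₀ * d₀) :
    Data 2 (conjPO Q g) ∧
      ¬ Nat.Coprime 2 (Nat.card ↥(MonoidHom.eqLocus (conjPO Q g).toMonoidHom (MonoidHom.id (Cfsg.POmega F (⇑Q))))) := by
  classical
  have hn := G.big
  have hadj : ∀ x y, QuadraticMap.polar (⇑Q) (Matrix.toLin' (gm Q g) x) y =
      QuadraticMap.polar (⇑Q) x (Matrix.toLin' (gm Q g) y) := fun x y => by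
    rw [Matrix.toLin'_apply, Matrix.toLin'_apply]; exact S.self_adjoint he hg x y
  let W : F → Submodule F (ι → F) := fun t => LinearMap.ker (Matrix.toLin' (gm Q g) - t • 1)
  have mW : ∀ t x, x ∈ W t ↔ gm Q g *ᵥ x = t • x := fun t x => by
    show x ∈ LinearMap.ker _ ↔ _
    rw [LinearMap.mem_ker]; simp [Matrix.toLin'_apply, sub_eq_zero]
  have hWneg : ∀ t, LinearMap.ker (Matrix.toLin' (gm Q g) + t • 1) = W (-t) := fun t => by
    show _ = LinearMap.ker _
    rw [show Matrix.toLin' (gm Q g) - (-t) • (1 : Module.End F (ι → F)) = Matrix.toLin' (gm Q g) + t • 1 by module]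
  have hcompl : ∀ t, (c : F) = t * t → IsCompl (W t) (W (-t)) := fun t ht => by
    rw [← hWneg]; exact (S.eigen_split he hg ht).1
  have horth : ∀ t, (c : F) = t * t → ∀ x ∈ W t, ∀ y ∈ W (-t), QuadraticMap.polar (⇑Q) x y = 0 := fun t ht x hx y hy =>
    (S.eigen_split he hg ht).2.2.2 x y ((mW t x).1 hx) (by rw [(mW _ y).1 hy, neg_smul])
  have hodd : ∀ t, (c : F) = t * t → Odd (Module.finrank F (W t)) := fun t ht => by
    have h1 := eigen_odd S he hg (d := -t) (by rw [neg_mul_neg]; exact ht)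
    rwa [hWneg, neg_neg] at h1
  have hsum : Module.finrank F (W d₀) + Module.finrank F (W (-d₀)) = Fintype.card ι := by
    rw [Submodule.finrank_add_eq_of_isCompl (hcompl _ hd₀), Module.finrank_fintype_fun_eq_card]
  -- the larger eigenspace is first
  obtain ⟨d, hd, hbig⟩ : ∃ d, (c : F) = d * d ∧ 5 ≤ Module.finrank F (W d) := by
    obtain ⟨i, hi⟩ := hodd d₀ hd₀
    obtain ⟨j, hj⟩ := hodd (-d₀) (by rw [neg_mul_neg]; exact hd₀)
    have := S.hk
    rcases Nat.lt_or_ge (Module.finrank F (W d₀)) 5 with h | h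
    · exact ⟨-d₀, by rw [neg_mul_neg]; exact hd₀, by omega⟩
    · exact ⟨d₀, hd₀, h⟩
  have hd' : (c : F) = -d * -d := by rw [neg_mul_neg]; exact hd
  have hd0 : d ≠ 0 := fun h => c.ne_zero (by rw [hd, h, mul_zero])
  let β : ∀ t, LinearMap.BilinForm F (W t) := fun t => LinearMap.BilinForm.restrict (QuadraticMap.polarBilin Q) (W t)
  have hβ : ∀ t (x y : W t), β t x y = QuadraticMap.polar (⇑Q) x.1 y.1 := fun t x y => rfl
  have hs : ∀ t (x y : W t), β t x y = β t y x := fun t x y => QuadraticMap.polar_comm _ _ _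
  have hnd : ∀ t, (c : F) = t * t → (β t).Nondegenerate := fun t ht => by
    have h0 : ∀ x : W t, (∀ y, β t x y = 0) → x = 0 := fun x hx => Subtype.ext (G.nd.1 x.1 fun w => by
      show QuadraticMap.polar (⇑Q) x.1 w = 0
      obtain ⟨p, hp, q, hq, rfl⟩ := Submodule.mem_sup.1 ((hcompl t ht).sup_eq_top ▸ Submodule.mem_top (x := w))
      rw [QuadraticMap.polar_add_right, horth t ht x.1 x.2 q hq, add_zero]
      exact hx ⟨p, hp⟩)
    exact ⟨h0, fun x hx => h0 x fun y => (hs t x y).trans (hx y)⟩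
  have hQβ : ∀ t (x : W t), β t x x = 2 * Q x.1 := fun t x => FormNormal.polar_self' Q x.1
  have hpres : ∀ t (s : centG g), ∀ x ∈ W t, mat Q s.1 *ᵥ x ∈ W t := fun t s x hx => by
    rw [mW, ← mem_centG.1 s.2, (mW t x).1 hx, mulVec_smul]
  refine invol_data_of G (Refl.simple _ G.nd (by omega)) (fun R hR hRn s hsO hsR => ?_) (fun y hy => ?_)
  · have hcomp : ∀ t, (c : F) = t * t → ∀ x ∈ W t, mat Q s.1 *ᵥ (mat Q s.1 *ᵥ x) = x := by
      intro t ht x hx
      refine comp_core (β t) (hs t) (hnd t ht) S.h2 ?_ (H := centG g) (fun s v => mat Q s.1 *ᵥ v)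
        (fun v => one_mulVec v) (fun a b v => (mulVec_mulVec _ _ _).symm) (W t).subtype.toAddMonoidHom
        (W t).subtype_injective (fun s' => ?_) (fun T hT => ?_) (phiC g) (fun s' h' => ?_)
        ((Cfsg.Omega F (⇑Q)).subgroupOf (centG g)) R hR hRn s hsO hsR ⟨x, hx⟩
      · intro h
        obtain ⟨i, hi⟩ := hodd t ht
        omega
      · exact ⟨(Matrix.toLin' (mat Q s'.1)).restrict (p := W t) (q := W t) (fun z hz => hpres t s' z hz),
          fun m => rfl, fun m m' => polar_iso s'.1 m.1 m'.1⟩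
      · set P := Submodule.prodEquivOfIsCompl (W t) (W (-t)) (hcompl t ht)
        set L : (ι → F) →ₗ[F] (ι → F) := P.toLinearMap ∘ₗ (T.prodMap LinearMap.id) ∘ₗ P.symm.toLinearMap
        have hLP : ∀ p : W t × W (-t), L (p.1.1 + p.2.1) = (T p.1).1 + p.2.1 := fun p => by
          have h1 : P p = p.1.1 + p.2.1 := rfl
          rw [← h1]
          show P ((T.prodMap LinearMap.id) (P.symm (P p))) = _
          rw [P.symm_apply_apply]; rfl
        have hL : ∀ v, Q (L v) = Q v := fun v => by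
          obtain ⟨p, rfl⟩ := P.surjective v
          show Q (L (p.1.1 + p.2.1)) = Q (p.1.1 + p.2.1)
          rw [hLP, QuadraticMap.map_add (⇑Q), QuadraticMap.map_add (⇑Q), horth t ht _ (T p.1).2 _ p.2.2,
            horth t ht _ p.1.2 _ p.2.2]
          have h := hT p.1 p.1
          rw [hQβ, hQβ] at h
          rw [mul_left_cancel₀ S.h2 h]
        obtain ⟨s', hs'⟩ := exists_iso G.nd L hL
        have hLW : ∀ m : W t, L m.1 = (T m).1 := fun m => by simpa using hLP (m, 0)
        refine ⟨⟨s', mem_centG.2 fun v => ?_⟩, fun m => (hs' m.1).trans (hLW m)⟩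
        obtain ⟨p, rfl⟩ := P.surjective v
        have h1 : ∀ q : W t × W (-t), gm Q g *ᵥ (q.1.1 + q.2.1) = (t • q.1).1 + ((-t) • q.2).1 := fun q => by
          rw [mulVec_add, (mW _ _).1 q.1.2, (mW _ _).1 q.2.2]; rfl
        show mat Q s' *ᵥ (gm Q g *ᵥ (p.1.1 + p.2.1)) = gm Q g *ᵥ (mat Q s' *ᵥ (p.1.1 + p.2.1))
        rw [h1, hs', hs', hLP (t • p.1, (-t) • p.2), hLP p, h1 (T p.1, p.2), map_smul]
      · obtain ⟨e, h⟩ := scal_of_phiC G h'
        exact ⟨e, fun m => h m.1⟩
    intro v
    obtain ⟨p, hp, q, hq, rfl⟩ := Submodule.mem_sup.1 ((hcompl d hd).sup_eq_top ▸ Submodule.mem_top (x := v))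
    rw [mulVec_add, mulVec_add, hcomp d hd p hp, hcomp (-d) hd' q hq]
  · obtain ⟨h, τ, hp, rfl⟩ := OrthOut.exists_semi G hH y
    -- planes of two eigenvectors of equal value
    have hplane : ∀ t u (a : W t) (b : W u), Q a.1 ≠ 0 → Q b.1 = Q a.1 → QuadraticMap.polar (⇑Q) a.1 b.1 = 0 →
        semiMap h τ a.1 ∈ Submodule.span F ({a.1, b.1} : Set (ι → F)) := by
      intro t u a b ha hba hab
      have hb : Q b.1 ≠ 0 := hba ▸ ha
      have hmem : refl Q a.1 ha * refl Q b.1 hb ∈ centG g := mem_centG.2 fun v => by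
        have := refl_pair_comm S.h2 hadj ha hb hab (p := t) (q := 0) (p' := 0) (q' := u)
          (by rw [Matrix.toLin'_apply, (mW _ _).1 a.2, zero_smul, add_zero])
          (by rw [Matrix.toLin'_apply, (mW _ _).1 b.2, zero_smul, zero_add]) v
        rwa [Matrix.toLin'_apply, Matrix.toLin'_apply] at this
      have h1 := hy ⟨_, hmem⟩ (refl_pair_mem G ha hb hba.symm)
      refine plane_fixed G hp ha hb hab h1 ⟨a.1, ?_, ?_⟩
      · rw [FormNormal.polar_self' Q]; exact mul_ne_zero S.h2 ha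
      · rw [QuadraticMap.polar_comm]; exact hab
    have hline : ∀ t, (c : F) = t * t → (t = d ∨ t = -d) → ∀ a : W t, β t a a ≠ 0 →
        ∃ e : F, semiMap h τ a.1 = (e • a).1 := by
      intro t ht htd a ha
      have haQ : Q a.1 ≠ 0 := fun h0 => ha (by rw [hQβ, h0, mul_zero])
      suffices hmain : semiMap h τ a.1 ∈ Submodule.span F {a.1} by
        obtain ⟨e, he'⟩ := Submodule.mem_span_singleton.1 hmain
        exact ⟨e, he'.symm⟩
      obtain ⟨b, b', hb, hb', hab, hab', hbb⟩ : ∃ b b' : W d, Q b.1 = Q a.1 ∧ Q b'.1 = Q a.1 ∧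
          QuadraticMap.polar (⇑Q) a.1 b.1 = 0 ∧ QuadraticMap.polar (⇑Q) a.1 b'.1 = 0 ∧
          QuadraticMap.polar (⇑Q) b.1 b'.1 = 0 := by
        have hval : ∀ x : W d, β d x x = 2 * Q a.1 → Q x.1 = Q a.1 := fun x hx =>
          mul_left_cancel₀ S.h2 ((hQβ d x).symm.trans hx)
        rcases htd with rfl | rfl
        · obtain ⟨b, hb, hab⟩ := perp_value (β t) (hs t) (hnd t ht) S.h2 ![a]
            (fun i j hij => absurd (Subsingleton.elim i j) hij) (fun i => by fin_cases i; exact ha) (by omega) (2 * Q a.1)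
          obtain ⟨b', hb', hab'⟩ := perp_value (β t) (hs t) (hnd t ht) S.h2 ![a, b]
            (fun i j hij => by
              fin_cases i <;> fin_cases j <;> first | exact absurd rfl hij | exact hab 0 | exact (hs t _ _).trans (hab 0))
            (fun i => by fin_cases i; exact ha; exact hb.trans_ne (mul_ne_zero S.h2 haQ)) (by omega) (2 * Q a.1)
          exact ⟨b, b', hval b hb, hval b' hb', hab 0, hab' 0, hab' 1⟩
        · obtain ⟨b, hb, -⟩ := perp_value (β d) (hs d) (hnd d hd) S.h2 (r := 0) ![] (fun i => i.elim0) (fun i => i.elim0)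
            (by omega) (2 * Q a.1)
          obtain ⟨b', hb', hbb⟩ := perp_value (β d) (hs d) (hnd d hd) S.h2 ![b]
            (fun i j hij => absurd (Subsingleton.elim i j) hij)
            (fun i => by fin_cases i; exact hb.trans_ne (mul_ne_zero S.h2 haQ)) (by omega) (2 * Q a.1)
          exact ⟨b, b', hval b hb, hval b' hb', (QuadraticMap.polar_comm _ _ _).trans (horth d hd _ b.2 _ a.2),
            (QuadraticMap.polar_comm _ _ _).trans (horth d hd _ b'.2 _ a.2), hbb 0⟩
      refine mem_line ?_ (hplane t d a b haQ hb hab) (hplane t d a b' haQ hb' hab')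
      refine Fintype.linearIndependent_iff.2 fun x hx => ?_
      simp only [Fin.sum_univ_three, Matrix.cons_val_zero, Matrix.cons_val_one, Matrix.cons_val_two,
        Matrix.tail_cons, Matrix.head_cons] at hx
      have h0 := congrArg (fun v => QuadraticMap.polar (⇑Q) v a.1) hx
      have h1 := congrArg (fun v => QuadraticMap.polar (⇑Q) v b.1) hx
      have h2' := congrArg (fun v => QuadraticMap.polar (⇑Q) v b'.1) hx
      have h2Q : 2 * Q a.1 ≠ 0 := mul_ne_zero S.h2 haQ
      simp [QuadraticMap.polar_add_left, QuadraticMap.polar_smul_left, hab, hab', hbb, hb, hb',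
        QuadraticMap.polar_comm _ b.1 a.1, QuadraticMap.polar_comm _ b'.1 a.1, QuadraticMap.polar_comm _ b'.1 b.1,
        FormNormal.polar_self' Q, h2Q] at h0 h1 h2'
      intro i; fin_cases i
      · exact h0
      · exact h1
      · exact h2'
    have hsmul : ∀ (t : F) v, semiMap h τ (t • v) = τ t • semiMap h τ v := fun t v => semiMap_smul h τ t v
    obtain ⟨hτ, c₁, -, hc₁⟩ := comp_scalar (β d) (hs d) (hnd d hd) S.h2 (by omega) (W d).subtype.toAddMonoidHom
      (W d).subtype_injective (fun t m => rfl) (semiMap_add h τ) hsmul (semiMap_injective h τ)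
      (fun m hm => hline d hd (Or.inl rfl) m hm)
    obtain ⟨c₂, hc₂⟩ : ∃ c₂ : F, ∀ m : W (-d), semiMap h τ m.1 = (c₂ • m).1 := by
      obtain ⟨i, hi⟩ := hodd (-d) hd'
      rcases Nat.lt_or_ge (Module.finrank F (W (-d))) 3 with h1 | h1
      · obtain ⟨a, ha, -⟩ := perp_aniso (β (-d)) (hs _) (hnd _ hd') S.h2 (r := 0) ![] (fun i => i.elim0)
          (fun i => i.elim0) (by omega)
        obtain ⟨e, he'⟩ := hline (-d) hd' (Or.inr rfl) a ha
        refine ⟨e, fun m => ?_⟩
        obtain ⟨l, rfl⟩ := exists_smul_eq_of_finrank_eq_one (x := a) (show Module.finrank F (W (-d)) = 1 by omega)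
          (fun h0 => ha (by rw [h0, map_zero])) m
        show semiMap h τ (l • a.1) = e • (l • a.1)
        rw [hsmul, he', hτ, smul_comm]
        rfl
      · obtain ⟨-, c₂, -, hc₂⟩ := comp_scalar (β (-d)) (hs _) (hnd _ hd') S.h2 h1
          (W (-d)).subtype.toAddMonoidHom (W (-d)).subtype_injective (fun t m => rfl) (semiMap_add h τ) hsmul
          (semiMap_injective h τ) (fun m hm => hline (-d) hd' (Or.inr rfl) m hm)
        exact ⟨c₂, hc₂⟩
    obtain ⟨μ, hμ⟩ := id hp
    have hval : ∀ (t : F) (e : F) (a : W t), β t a a ≠ 0 → semiMap h τ a.1 = (e • a).1 → e * e = μ := by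
      intro t e a ha h1
      have h2' := semiMap_q (g := h) (σ := τ) hμ a.1
      rw [h1, hτ] at h2'
      change Q (e • a.1) = (μ : F) * Q a.1 at h2'
      rw [QuadraticMap.map_smul, smul_eq_mul] at h2'
      exact mul_right_cancel₀ (fun h0 => ha (by rw [hQβ, h0, mul_zero])) h2'
    obtain ⟨a₁, ha₁, -⟩ := perp_aniso (β d) (hs d) (hnd d hd) S.h2 (r := 0) ![] (fun i => i.elim0) (fun i => i.elim0)
      (by omega)
    obtain ⟨a₂, ha₂, -⟩ := perp_aniso (β (-d)) (hs _) (hnd _ hd') S.h2 (r := 0) ![] (fun i => i.elim0) (fun i => i.elim0)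
      (by obtain ⟨i, hi⟩ := hodd (-d) hd'; omega)
    have e1 := hval d c₁ a₁ ha₁ (hc₁ a₁)
    have e2 := hval (-d) c₂ a₂ ha₂ (hc₂ a₂)
    have hc10 : c₁ ≠ 0 := fun h0 => μ.ne_zero (by rw [← e1, h0, mul_zero])
    obtain ⟨z, hz, hzy⟩ : ∃ z : GO Q, conjPO Q z ∈ Subgroup.zpowers (conjPO Q g) ∧
        ∀ v, semiMap h τ v = gm Q z *ᵥ v := by
      have hsplit : ∀ v, ∃ p : W d, ∃ q : W (-d), p.1 + q.1 = v := fun v => by
        obtain ⟨p, hp', q, hq', e⟩ := Submodule.mem_sup.1 ((hcompl d hd).sup_eq_top ▸ Submodule.mem_top (x := v))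
        exact ⟨⟨p, hp'⟩, ⟨q, hq'⟩, e⟩
      rcases mul_self_eq_mul_self_iff.1 (e2.trans e1.symm) with h1 | h1
      · refine ⟨scal Q (Units.mk0 c₁ hc10), by rw [OrthSim.conjPO_scal]; exact one_mem _, fun v => ?_⟩
        obtain ⟨p, q, rfl⟩ := hsplit v
        rw [semiMap_add, hc₂ q, h1, OrthSim.gm_scal, smul_mulVec, one_mulVec, Units.val_mk0, smul_add]
        exact congrArg (· + _) (hc₁ p)
      · refine ⟨scal Q (Units.mk0 (c₁ / d) (div_ne_zero hc10 hd0)) * g, by
          rw [map_mul, OrthSim.conjPO_scal, one_mul]; exact Subgroup.mem_zpowers _, fun v => ?_⟩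
        obtain ⟨p, q, rfl⟩ := hsplit v
        rw [semiMap_add, hc₂ q, h1, OrthSim.gm_mul, ← mulVec_mulVec, mulVec_add, (mW _ _).1 p.2, (mW _ _).1 q.2,
          OrthSim.gm_scal, smul_mulVec, one_mulVec, Units.val_mk0, smul_add, smul_smul, smul_smul, mul_neg,
          div_mul_cancel₀ _ hd0]
        exact congrArg (· + _) (hc₁ p)
    have e : semiPO h τ hp = conjPO Q z := by
      rw [OrthOut.conjPO_eq_semi]
      exact OrthOut.semiPO_congr _ _ hτ fun v => hzy v
    rw [e]
    exact hz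

local notation "LQ" => QuadraticAlgebra F ((c : Fˣ) : F) 0

set_option maxHeartbeats 2000000 in
theorem invol_nonsq (G : Good Q) (hH : Narrow Q) (he : S.e g = -1) (hg : g * g = scal Q c)
    (hc : ¬ IsSquare (c : F)) :
    Data 2 (conjPO Q g) ∧
      ¬ Nat.Coprime 2 (Nat.card ↥(MonoidHom.eqLocus (conjPO Q g).toMonoidHom (MonoidHom.id (Cfsg.POmega F (⇑Q))))) := by
  classical
  have hn := G.big
  have hc0 : (c : F) ≠ 0 := c.ne_zero
  have h2 := S.h2
  haveI : Fact (∀ r : F, r ^ 2 ≠ (c : F) + (0 : F) * r) :=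
    ⟨fun r hr => hc ⟨r, by linear_combination -hr⟩⟩
  let gE : Module.End F (ι → F) := Matrix.toLin' (gm Q g)
  have hgg : ∀ v, gm Q g *ᵥ (gm Q g *ᵥ v) = (c : F) • v := fun v => by
    rw [mulVec_mulVec, ← OrthSim.gm_mul, hg, OrthSim.gm_scal, smul_mulVec, one_mulVec]
  have hgE : gE * gE = (c : F) • 1 + (0 : F) • gE := LinearMap.ext fun v => by simp [gE, hgg]
  let φL : LQ →ₐ[F] Module.End F (ι → F) := QuadraticAlgebra.lift ⟨gE, hgE⟩
  letI : Module LQ (ι → F) := Module.compHom _ φL.toRingHom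
  have hl : ∀ (l : LQ) v, l • v = l.re • v + l.im • (gm Q g *ᵥ v) := fun l v => by
    show φL l v = _
    simp [φL, gE]
  haveI : IsScalarTower F LQ (ι → F) := ⟨fun t l v => by
    rw [hl, hl, QuadraticAlgebra.re_smul, QuadraticAlgebra.im_smul, smul_add, smul_smul, smul_smul]; rfl⟩
  haveI : Finite LQ := Module.finite_of_finite F
  haveI : Module.Finite LQ (ι → F) := Module.Finite.of_restrictScalars_finite F LQ (ι → F)
  have hdim : 4 ≤ Module.finrank LQ (ι → F) := by
    have h1 := Module.finrank_mul_finrank F LQ (ι → F)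
    rw [QuadraticAlgebra.finrank_eq_two, Module.finrank_fintype_fun_eq_card] at h1
    omega
  let ω : LQ := ⟨0, 1⟩
  have hω : ∀ v, ω • v = gm Q g *ᵥ v := fun v => by rw [hl]; simp [ω]
  have hadj := S.self_adjoint he hg
  have h2L : (2 : LQ) ≠ 0 := fun h => h2 ((algebraMap F LQ).injective (by rw [map_ofNat, map_zero]; exact h))
  -- the form over the extension
  let β : LinearMap.BilinForm LQ (ι → F) := LinearMap.mk₂ LQ
    (fun x y => (⟨QuadraticMap.polar (⇑Q) x y, QuadraticMap.polar (⇑Q) (gm Q g *ᵥ x) y / (c : F)⟩ : LQ))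
    (fun x x' y => by
      ext <;> simp [mulVec_add, QuadraticMap.polar_add_left, add_div])
    (fun l x y => by
      rw [hl]
      ext <;> simp [mulVec_add, mulVec_smul, hgg, QuadraticMap.polar_add_left, QuadraticMap.polar_smul_left] <;>
        field_simp)
    (fun x y y' => by
      ext <;> simp [QuadraticMap.polar_add_right, add_div])
    (fun l x y => by
      rw [hl]
      ext <;> simp [QuadraticMap.polar_add_right, QuadraticMap.polar_smul_right, ← hadj, hgg,
        QuadraticMap.polar_smul_left] <;> field_simp)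
  have hre : ∀ x y, (β x y).re = QuadraticMap.polar (⇑Q) x y := fun x y => rfl
  have hsym : ∀ x y, β x y = β y x := fun x y => QuadraticAlgebra.ext (QuadraticMap.polar_comm _ x y) (by
    show QuadraticMap.polar (⇑Q) (gm Q g *ᵥ x) y / (c : F) = QuadraticMap.polar (⇑Q) (gm Q g *ᵥ y) x / (c : F)
    rw [hadj, QuadraticMap.polar_comm _ x])
  have hnd : β.Nondegenerate := by
    have h0 : ∀ x, (∀ y, β x y = 0) → x = 0 := fun x hx => G.nd.1 x fun y => by
      show QuadraticMap.polar (⇑Q) x y = 0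
      rw [← hre, hx]; rfl
    exact ⟨h0, fun x hx => h0 x fun y => (hsym x y).trans (hx y)⟩
  have hβ2 : ∀ (m m' : LQ) (u x : ι → F), β (m • u) (m' • x) = m * m' * β u x := fun m m' u x => by
    simp only [map_smul, LinearMap.smul_apply, smul_eq_mul]; ring
  have hQ : ∀ (l : LQ) (u : ι → F), 2 * Q (l • u) = (l * l * β u u).re := fun l u => by
    rw [← FormNormal.polar_self' Q, ← hre, hβ2]
  have hcomm : ∀ (s : centG g) (l : LQ) v, mat Q s.1 *ᵥ (l • v) = l • (mat Q s.1 *ᵥ v) := fun s l v => by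
    rw [hl, hl, mulVec_add, mulVec_smul, mulVec_smul, mem_centG.1 s.2]
  refine invol_data_of G (Refl.simple _ G.nd (by omega)) (fun R hR hRn s hsO hsR => ?_) (fun y hy => ?_)
  · refine comp_core β hsym hnd h2L (by omega) (H := centG g) (fun s v => mat Q s.1 *ᵥ v) (fun v => one_mulVec v)
      (fun a b v => (mulVec_mulVec _ _ _).symm) (AddMonoidHom.id _) (fun _ _ h => h) (fun s' => ?_) (fun T hT => ?_)
      (phiC g) (fun s' h' => ?_) ((Cfsg.Omega F (⇑Q)).subgroupOf (centG g)) R hR hRn s hsO hsR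
    · refine ⟨{ toFun := fun v => mat Q s'.1 *ᵥ v, map_add' := mulVec_add _, map_smul' := hcomm s' }, fun m => rfl,
        fun x y => QuadraticAlgebra.ext (polar_iso s'.1 x y) ?_⟩
      show QuadraticMap.polar (⇑Q) (gm Q g *ᵥ (mat Q s'.1 *ᵥ x)) (mat Q s'.1 *ᵥ y) / (c : F) = _
      rw [← mem_centG.1 s'.2, polar_iso]
      rfl
    · obtain ⟨s', hs'⟩ := exists_iso G.nd (T.restrictScalars F) fun v => by
        refine mul_left_cancel₀ h2 ?_
        rw [← FormNormal.polar_self' Q, ← FormNormal.polar_self' Q, ← hre, ← hre]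
        exact congrArg QuadraticAlgebra.re (hT v v)
      refine ⟨⟨s', mem_centG.2 fun v => ?_⟩, fun m => hs' m⟩
      rw [hs', hs']
      show T _ = gm Q g *ᵥ T v
      rw [← hω, ← hω, map_smul]
    · obtain ⟨e, h⟩ := scal_of_phiC G h'
      exact ⟨algebraMap F LQ e, fun m => by
        show mat Q s'.1 *ᵥ m = algebraMap F LQ e • m
        rw [algebraMap_smul, h m]⟩
  · obtain ⟨h, τ, hp, rfl⟩ := OrthOut.exists_semi G hH y
    set f := semiMap h τ
    have hplane : ∀ v w, β v w = 0 → β w w = β v v → β v v ≠ 0 → ∃ p q : LQ, f v = p • v + q • w := by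
      intro v w hvw hww hv
      obtain ⟨b₀, hb₀, hb₀0⟩ : ∃ b₀, β v v = b₀ ∧ b₀ ≠ 0 := ⟨_, rfl, hv⟩
      obtain ⟨l, hl0⟩ : ∃ l : LQ, (l * l * b₀).re ≠ 0 := by
        by_cases h0 : b₀.re = 0
        · refine ⟨⟨1, 1⟩, ?_⟩
          have him : b₀.im ≠ 0 := fun h1 => hb₀0 (QuadraticAlgebra.ext h0 h1)
          have e : ((⟨1, 1⟩ : LQ) * ⟨1, 1⟩ * b₀).re = (c : F) * (2 * b₀.im) := by simp [h0]; ring
          rw [e]
          exact mul_ne_zero hc0 (mul_ne_zero h2 him)
        · exact ⟨1, by simpa using h0⟩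
      obtain ⟨c₁, hc₁⟩ : ∃ c₁, c₁ = (l * l * b₀).re := ⟨_, rfl⟩
      obtain ⟨c₂, hc₂⟩ : ∃ c₂, c₂ = (c : F) * (l * l * b₀).im := ⟨_, rfl⟩
      have hc₁0 : c₁ ≠ 0 := hc₁ ▸ hl0
      let l' : LQ := (⟨-c₂, c₁⟩ : LQ) * l
      have hl'0 : (l' * l' * b₀).re ≠ 0 := by
        have e : l' * l' * b₀ = (⟨-c₂, c₁⟩ : LQ) * ⟨-c₂, c₁⟩ * (l * l * b₀) := by simp only [l']; ring
        rw [e]
        generalize hz : l * l * b₀ = z at hc₁ hc₂ ⊢
        subst hc₁ hc₂
        have e' : ((⟨-((c : F) * z.im), z.re⟩ : LQ) * ⟨-((c : F) * z.im), z.re⟩ * z).re =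
            (c : F) * z.re * (z.re * z.re - (c : F) * (z.im * z.im)) := by simp; ring
        rw [e']
        refine mul_ne_zero (mul_ne_zero hc0 hc₁0) fun h0 => ?_
        rcases eq_or_ne z.im 0 with h1 | h1
        · rw [h1, mul_zero, mul_zero, sub_zero] at h0
          exact hc₁0 (mul_self_eq_zero.1 h0)
        · exact hc ⟨z.re / z.im, by field_simp; linear_combination -h0⟩
      have hll' : (l * l' * b₀).re = 0 := by
        have e : l * l' * b₀ = (⟨-c₂, c₁⟩ : LQ) * (l * l * b₀) := by simp only [l']; ring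
        rw [e]
        simp only [QuadraticAlgebra.re_mul, ← hc₁]
        rw [hc₂]
        ring
      have hωl : ω * l = algebraMap F LQ (c₂ / c₁) * l + algebraMap F LQ c₁⁻¹ * l' := by
        simp only [l']
        rw [← mul_assoc, ← add_mul]
        congr 1
        simp only [QuadraticAlgebra.algebraMap_eq]
        ext <;> simp [ω] <;> field_simp <;> ring
      have hωl' : ω * l' = algebraMap F LQ ((c : F) * c₁ - c₂ * c₂ / c₁) * l + algebraMap F LQ (-(c₂ / c₁)) * l' := by
        simp only [l']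
        rw [← mul_assoc, ← mul_assoc, ← add_mul]
        congr 1
        simp only [QuadraticAlgebra.algebraMap_eq]
        ext <;> simp [ω] <;> field_simp <;> ring
      have hspan : ∀ m : LQ, ∃ x y : F, m = algebraMap F LQ x * l + algebraMap F LQ y * l' := fun m => by
        have hl00 : l ≠ 0 := fun h0 => hl0 (by simp [h0])
        obtain ⟨z, hz⟩ : ∃ z, z = m / l := ⟨_, rfl⟩
        refine ⟨z.re + z.im * c₂ / c₁, z.im / c₁, ?_⟩
        simp only [l']
        rw [← mul_assoc, ← add_mul]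
        have e : algebraMap F LQ (z.re + z.im * c₂ / c₁) + algebraMap F LQ (z.im / c₁) * ⟨-c₂, c₁⟩ = z := by
          simp only [QuadraticAlgebra.algebraMap_eq]
          ext <;> simp <;> field_simp <;> ring
        rw [e, hz, div_mul_cancel₀ _ hl00]
      have hsm : ∀ (x : F) (m : LQ) (u : ι → F), (algebraMap F LQ x * m) • u = x • (m • u) := fun x m u => by
        rw [mul_smul, algebraMap_smul]
      have hA : ∀ u, β u u = b₀ → Q (l • u) ≠ 0 := fun u hu h0 => by
        have := hQ l u; rw [hu, h0, mul_zero] at this; exact hl0 this.symm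
      have hA' : ∀ u, β u u = b₀ → Q (l' • u) ≠ 0 := fun u hu h0 => by
        have := hQ l' u; rw [hu, h0, mul_zero] at this; exact hl'0 this.symm
      have hpol : ∀ (m m' : LQ) (u x : ι → F), QuadraticMap.polar (⇑Q) (m • u) (m' • x) = (m * m' * β u x).re :=
        fun m m' u x => by
          rw [← hre, hβ2]
      have hAB : ∀ u, β u u = b₀ → QuadraticMap.polar (⇑Q) (l • u) (l' • u) = 0 := fun u hu => by
        rw [hpol, hu, hll']
      have hBA : ∀ u, β u u = b₀ → QuadraticMap.polar (⇑Q) (l' • u) (l • u) = 0 := fun u hu => by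
        rw [QuadraticMap.polar_comm]; exact hAB u hu
      have hTl : ∀ u, Matrix.toLin' (gm Q g) (l • u) = (c₂ / c₁) • (l • u) + c₁⁻¹ • (l' • u) := fun u => by
        rw [Matrix.toLin'_apply, ← hω, smul_smul, hωl, add_smul, hsm, hsm]
      have hTl' : ∀ u, Matrix.toLin' (gm Q g) (l' • u) =
          ((c : F) * c₁ - c₂ * c₂ / c₁) • (l • u) + (-(c₂ / c₁)) • (l' • u) := fun u => by
        rw [Matrix.toLin'_apply, ← hω, smul_smul, hωl', add_smul, hsm, hsm]
      have hadjT : ∀ x y, QuadraticMap.polar (⇑Q) (Matrix.toLin' (gm Q g) x) y =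
          QuadraticMap.polar (⇑Q) x (Matrix.toLin' (gm Q g) y) := fun x y => by
        rw [Matrix.toLin'_apply, Matrix.toLin'_apply]; exact hadj x y
      -- the reflection of the line of `u`
      let R : ∀ u, β u u = b₀ → Cfsg.isometryGroup F (⇑Q) := fun u hu =>
        refl Q (l • u) (hA u hu) * refl Q (l' • u) (hA' u hu)
      let R' : ∀ u, β u u = b₀ → Cfsg.isometryGroup F (⇑Q) := fun u hu =>
        refl Q (l' • u) (hA' u hu) * refl Q (l • u) (hA u hu)
      have hRR' : ∀ u hu, R u hu = R' u hu := fun u hu => ext_mulVec Q fun x => by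
        simp only [R, R']
        rw [mat_refl_mul _ _ (hAB u hu), mat_refl_mul _ _ (hBA u hu)]
        abel
      have hRC : ∀ u hu, R u hu ∈ centG g := fun u hu => mem_centG.2 fun x => by
        have := refl_pair_comm h2 hadjT (hA u hu) (hA' u hu) (hAB u hu) (hTl u) (hTl' u) x
        rwa [Matrix.toLin'_apply, Matrix.toLin'_apply] at this
      have hRdiff : ∀ u hu x, ∃ m : LQ, mat Q (R u hu) *ᵥ x - x = m • u := fun u hu x => by
        simp only [R]
        rw [mat_refl_mul _ _ (hAB u hu)]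
        refine ⟨algebraMap F LQ (-((Q (l • u))⁻¹ * QuadraticMap.polar (⇑Q) (l • u) x)) * l +
          algebraMap F LQ (-((Q (l' • u))⁻¹ * QuadraticMap.polar (⇑Q) (l' • u) x)) * l', ?_⟩
        rw [add_smul, hsm, hsm]
        module
      have hRneg : ∀ u hu (m : LQ), mat Q (R u hu) *ᵥ (m • u) = -(m • u) := fun u hu m => by
        obtain ⟨x, y, rfl⟩ := hspan m
        rw [add_smul, hsm, hsm]
        simp only [R]
        rw [mat_refl_mul _ _ (hAB u hu)]
        simp only [QuadraticMap.polar_add_right, QuadraticMap.polar_smul_right, hAB u hu, hBA u hu,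
          FormNormal.polar_self' Q, smul_eq_mul, mul_zero, add_zero, zero_add]
        have e1 := hA u hu
        have e2 := hA' u hu
        rw [show (Q (l • u))⁻¹ * (x * (2 * Q (l • u))) = 2 * x by field_simp,
          show (Q (l' • u))⁻¹ * (y * (2 * Q (l' • u))) = 2 * y by field_simp]
        have key : ∀ A B : ι → F, x • A + y • B - (2 * x) • A - (2 * y) • B = -(x • A + y • B) := fun A B => by
          module
        exact key _ _
      have hRfix : ∀ u hu x, β u x = 0 → mat Q (R u hu) *ᵥ x = x := fun u hu x hx => by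
        simp only [R]
        have e : ∀ m : LQ, QuadraticMap.polar (⇑Q) (m • u) x = 0 := fun m => by
          rw [← hre, map_smul, LinearMap.smul_apply, hx, smul_zero]; rfl
        rw [mat_refl_mul _ _ (hAB u hu), e, e]
        simp
      obtain ⟨t, ht⟩ : ∃ t : LQ, t * t * 2 = 1 := by
        by_cases hs2 : IsSquare ((2 : F)⁻¹)
        · obtain ⟨s, hs⟩ := hs2
          refine ⟨algebraMap F LQ s, ?_⟩
          rw [← map_mul, ← hs, ← map_ofNat (algebraMap F LQ) 2, ← map_mul, inv_mul_cancel₀ h2, map_one]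
        · obtain ⟨s, hs⟩ : IsSquare ((2 : F)⁻¹ * (c : F)⁻¹) := by
            refine (quadraticChar_one_iff_isSquare (mul_ne_zero (inv_ne_zero h2) (inv_ne_zero hc0))).1 ?_
            rw [map_mul, quadraticChar_neg_one_iff_not_isSquare.2 hs2,
              quadraticChar_neg_one_iff_not_isSquare.2 (fun h => hc (by simpa using h.inv))]
            norm_num
          refine ⟨⟨0, s⟩, ?_⟩
          ext <;> simp [QuadraticAlgebra.re_ofNat, QuadraticAlgebra.im_ofNat, QuadraticAlgebra.re_one, QuadraticAlgebra.im_one]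
          field_simp at hs
          linear_combination -hs
      set u := t • (v - w)
      have hwv : β w v = 0 := (hsym w v).trans hvw
      have hu : β u u = b₀ := by
        simp only [u, map_smul, LinearMap.smul_apply, map_sub, LinearMap.sub_apply, hvw, hwv, hww, hb₀, smul_eq_mul]
        linear_combination b₀ * ht
      have ht0 : t ≠ 0 := fun h0 => by simp [h0] at ht
      -- a square root of the product of the two line reflections
      let r : centG g := ⟨R v hb₀ * R u hu, mul_mem (hRC v hb₀) (hRC u hu)⟩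
      have hrO : r.1 ∈ Cfsg.Omega F (⇑Q) := by
        show R v hb₀ * R u hu ∈ _
        rw [hRR' u hu]
        have m1 := refl_pair_mem G (hA' v hb₀) (hA' u hu) (mul_left_cancel₀ h2 (by rw [hQ, hQ, hb₀, hu]))
        have m2 := refl_pair_mem G (hA v hb₀) (hA u hu) (mul_left_cancel₀ h2 (by rw [hQ, hQ, hb₀, hu]))
        have e : R v hb₀ * R' u hu = (refl Q (l • v) (hA v hb₀) * (refl Q (l' • v) (hA' v hb₀) * refl Q (l' • u) (hA' u hu)) *
            (refl Q (l • v) (hA v hb₀))⁻¹) * (refl Q (l • v) (hA v hb₀) * refl Q (l • u) (hA u hu)) := by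
          simp only [R, R']
          group
        rw [e]
        exact mul_mem ((inferInstance : (Cfsg.Omega F (⇑Q)).Normal).conj_mem _ m1 _) m2
      have hrv : mat Q r.1 *ᵥ v = w ∧ mat Q r.1 *ᵥ w = -v := by
        have hru : ∀ x, mat Q r.1 *ᵥ x = mat Q (R v hb₀) *ᵥ (mat Q (R u hu) *ᵥ x) := fun x =>
          (mulVec_mulVec _ _ _).symm
        have hu1 : mat Q (R u hu) *ᵥ (v - w) = -(v - w) := by
          have := hRneg u hu t⁻¹
          rwa [show t⁻¹ • u = v - w from inv_smul_smul₀ ht0 _] at this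
        have hu2 : mat Q (R u hu) *ᵥ (v + w) = v + w := hRfix u hu _ (by
          simp only [u, map_smul, LinearMap.smul_apply, map_sub, LinearMap.sub_apply, map_add, hvw, hwv, hww, hb₀,
            smul_eq_mul]
          ring)
        rw [mulVec_sub] at hu1
        rw [mulVec_add] at hu2
        have hRu : mat Q (R u hu) *ᵥ v = w ∧ mat Q (R u hu) *ᵥ w = v := by
          constructor <;> refine smul_right_injective (ι → F) h2 ?_ <;> show (2 : F) • _ = (2 : F) • _
          · linear_combination (norm := module) hu1 + hu2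
          · linear_combination (norm := module) hu2 - hu1
        have hv1 := hRneg v hb₀ 1
        rw [one_smul] at hv1
        exact ⟨by rw [hru, hRu.1, hRfix v hb₀ w hvw], by rw [hru, hRu.2, hv1]⟩
      obtain ⟨e, he', hf₀⟩ := semi_comm G hp (hy r hrO)
      have hf : ∀ x, f (mat Q r.1 *ᵥ x) = e • (mat Q r.1 *ᵥ f x) := hf₀
      have hf2 : f (mat Q r.1 *ᵥ (mat Q r.1 *ᵥ v)) = mat Q r.1 *ᵥ (mat Q r.1 *ᵥ f v) := by
        rw [hf, hf, mulVec_smul, smul_smul, show e * e = 1 from mul_self_eq_one_iff.2 he', one_smul]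
      rw [hrv.1, hrv.2] at hf2
      have hdiff : ∀ x, ∃ p q : LQ, mat Q r.1 *ᵥ x - x = p • v + q • w := fun x => by
        obtain ⟨m, hm⟩ := hRdiff u hu x
        obtain ⟨m', hm'⟩ := hRdiff v hb₀ (mat Q (R u hu) *ᵥ x)
        refine ⟨m' + m * t, -(m * t), ?_⟩
        have e1 : mat Q r.1 *ᵥ x = mat Q (R v hb₀) *ᵥ (mat Q (R u hu) *ᵥ x) := (mulVec_mulVec _ _ _).symm
        rw [e1]
        simp only [u, smul_smul] at hm
        linear_combination (norm := module) hm' + hm
      obtain ⟨p, q, hpq⟩ := hdiff (f v)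
      obtain ⟨p', q', hpq'⟩ := hdiff (mat Q r.1 *ᵥ f v)
      have hfn : f (-v) = -f v := by
        have h1 := semiMap_smul h τ (-1 : F) v
        simp only [neg_one_smul, map_neg, map_one] at h1
        exact h1
      rw [hfn] at hf2
      refine ⟨-((2 : LQ)⁻¹ * (p + p')), -((2 : LQ)⁻¹ * (q + q')), ?_⟩
      refine smul_right_injective (ι → F) h2L ?_
      show (2 : LQ) • f v = (2 : LQ) • _
      rw [smul_add, smul_smul, smul_smul, mul_neg, mul_neg, mul_inv_cancel_left₀ h2L, mul_inv_cancel_left₀ h2L]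
      linear_combination (norm := module) -hf2 - hpq - hpq'
    have hline : ∀ m, β m m ≠ 0 → ∃ e : LQ, f m = e • m := by
      intro v hv
      obtain ⟨w, hw, hvw⟩ := perp_value β hsym hnd h2L ![v] (fun i j hij => absurd (Subsingleton.elim i j) hij)
        (fun i => by fin_cases i; exact hv) (by omega) (β v v)
      obtain ⟨w', hw', hvw'⟩ := perp_value β hsym hnd h2L ![v, w]
        (fun i j hij => by
          fin_cases i <;> fin_cases j <;> first | exact absurd rfl hij | exact hvw 0 | exact (hsym _ _).trans (hvw 0))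
        (fun i => by fin_cases i; exact hv; exact hw.trans_ne hv) (by omega) (β v v)
      obtain ⟨p, q, hpq⟩ := hplane v w (hvw 0) hw hv
      obtain ⟨p', q', hpq'⟩ := hplane v w' (hvw' 0) hw' hv
      have h1 := congrArg (β w) (hpq.symm.trans hpq')
      simp only [map_add, map_smul, smul_eq_mul, hw, (hsym w v).trans (hvw 0), show β w w' = 0 from hvw' 1, mul_zero,
        zero_add] at h1
      exact ⟨p, by rw [hpq, (mul_eq_zero.1 h1).resolve_right hv, zero_smul, add_zero]⟩
    obtain ⟨hτ, e, he0, hfe⟩ := comp_scalar (F := F) β hsym hnd h2L (by omega) (AddMonoidHom.id _) (fun _ _ hxy => hxy)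
      (fun t m => algebraMap_smul LQ t m) (semiMap_add h τ) (fun t x => semiMap_smul h τ t x) (semiMap_injective h τ) hline
    change ∀ m, f m = e • m at hfe
    obtain ⟨μ, hμ⟩ := id hp
    obtain ⟨v, hv, -⟩ := perp_aniso β hsym hnd h2L (r := 0) ![] (fun i => i.elim0) (fun i => i.elim0) (by omega)
    have hsc : ∀ x, ((e * e - algebraMap F LQ μ) * β x x).re = 0 := fun x => by
      have h1 := semiMap_q (g := h) (σ := τ) hμ x
      rw [show τ (Q x) = Q x by rw [hτ]; rfl] at h1
      change Q (f x) = (μ : F) * Q x at h1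
      rw [hfe] at h1
      have h2' := hQ e x
      rw [h1] at h2'
      rw [sub_mul, QuadraticAlgebra.re_sub, ← h2', show (algebraMap F LQ (μ : F) * β x x).re = (μ : F) * (β x x).re by
        simp [QuadraticAlgebra.algebraMap_eq], hre, FormNormal.polar_self' Q]
      ring
    have hee : e * e = algebraMap F LQ μ := by
      have h1 := hsc v
      have h3 := hsc ((⟨1, 1⟩ : LQ) • v)
      rw [hβ2, mul_left_comm] at h3
      generalize hz : (e * e - algebraMap F LQ μ) * β v v = z at h1 h3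
      have e' : ((⟨1, 1⟩ : LQ) * ⟨1, 1⟩ * z).re = (c : F) * (2 * z.im) := by simp [h1]; ring
      rw [e'] at h3
      have hz0 : z = 0 := QuadraticAlgebra.ext h1
        (((mul_eq_zero.1 ((mul_eq_zero.1 h3).resolve_left hc0))).resolve_left h2)
      exact sub_eq_zero.1 ((mul_eq_zero.1 (hz.trans hz0)).resolve_right hv)
    have him : e.re = 0 ∨ e.im = 0 := by
      have h1 := congrArg QuadraticAlgebra.im hee
      simp [QuadraticAlgebra.algebraMap_eq] at h1
      exact mul_eq_zero.1 ((mul_eq_zero.1 (show (2 : F) * (e.re * e.im) = 0 by linear_combination h1)).resolve_left h2)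
    obtain ⟨z, hz, hzy⟩ : ∃ z : GO Q, conjPO Q z ∈ Subgroup.zpowers (conjPO Q g) ∧ ∀ v, f v = gm Q z *ᵥ v := by
      rcases him with h0 | h0
      · have hi : e.im ≠ 0 := fun h1 => he0 (QuadraticAlgebra.ext h0 h1)
        refine ⟨scal Q (Units.mk0 e.im hi) * g, by
          rw [map_mul, OrthSim.conjPO_scal, one_mul]; exact Subgroup.mem_zpowers _, fun x => ?_⟩
        rw [hfe, hl, h0, zero_smul, zero_add, OrthSim.gm_mul, ← mulVec_mulVec, OrthSim.gm_scal, smul_mulVec,
          one_mulVec, Units.val_mk0]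
      · have hr : e.re ≠ 0 := fun h1 => he0 (QuadraticAlgebra.ext h1 h0)
        refine ⟨scal Q (Units.mk0 e.re hr), by rw [OrthSim.conjPO_scal]; exact one_mem _, fun x => ?_⟩
        rw [hfe, hl, h0, zero_smul, add_zero, OrthSim.gm_scal, smul_mulVec, one_mulVec, Units.val_mk0]
    have e1 : semiPO h τ hp = conjPO Q z := by
      rw [OrthOut.conjPO_eq_semi]
      exact OrthOut.semiPO_congr _ _ hτ fun v => hzy v
    rw [e1]
    exact hz

end Invol

end Cfsg.Lib.Balance
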