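import Cfsg.Agent.Known.Balance.Generic
import Cfsg.Agent.Known.Balance.Galois
import Cfsg.Agent.Known.OrthField.OddCase
import Cfsg.Agent.Classical.Orth.POmegaCard
import Cfsg.Agent.Classical.Orth.Simple

/-!
Local balance at field automorphisms of `Ω_{2m+1}(q)`.
-/

set_option autoImplicit false
set_option linter.unusedSectionVars false
set_option linter.style.haveILetI false

namespace Cfsg.Lib.Balance

open Matrix Cfsg.Lib.Classical Cfsg.Lib.Classical.Refl Cfsg.Lib.OrthAut Cfsg.Lib.OrthField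
open Cfsg.Lib.OrthSim (GO gm semiPO conjPO toGO scal NN)
open Cfsg.Lib.OrthOut (good_odd narrow_odd odd_decomp)
open scoped commutatorElement

universe u v

variable {F : Type u} [Field F] [Fintype F] [DecidableEq F] {m : ℕ}

local notation "ιO" => Unit ⊕ (Fin m ⊕ Fin m)
local notation "QO" => oddForm m F

/-- A hyperbolic basis vector. -/
local notation "bv" => fun j : Fin m ⊕ Fin m => (Pi.single (Sum.inr j) (1 : F) : Unit ⊕ (Fin m ⊕ Fin m) → F)

theorem polar_comp {K : Type v} [Field K] {ι : Type} [Fintype ι] [DecidableEq ι] {e₀ : K →+* F}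
    {q : QuadraticForm K (ι → K)} {Q : QuadraticForm F (ι → F)} (hq : Ext e₀ q Q) (u w : ι → K) :
    QuadraticMap.polar (⇑Q) (⇑e₀ ∘ u) (⇑e₀ ∘ w) = e₀ (QuadraticMap.polar (⇑q) u w) := by
  have hadd : ⇑e₀ ∘ u + ⇑e₀ ∘ w = ⇑e₀ ∘ (u + w) := funext fun i => (map_add e₀ _ _).symm
  rw [QuadraticMap.polar, QuadraticMap.polar, hadd, hq, hq, hq, map_sub, map_sub]

theorem conjPO_ps {ι : Type} [Fintype ι] [DecidableEq ι] {Q : QuadraticForm F (ι → F)} (G : Good Q) (u v : ι → F) :
    conjPO Q (toGO Q (sg u v)) = MulAut.conj (ps G u v) := by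
  refine MulEquiv.ext fun x => QuotientGroup.induction_on x fun t => ?_
  rw [OrthSim.conjPO_apply, MulAut.conj_apply, ps, ← QuotientGroup.mk_inv, ← QuotientGroup.mk_mul,
    ← QuotientGroup.mk_mul]
  exact congrArg _ (Subtype.ext (Subtype.ext rfl))

variable (h2 : (2 : F) ≠ 0) (hm : 3 ≤ m)

include h2 hm

theorem odd_noncomm : ∃ a b : Cfsg.POmega F (⇑QO), a * b ≠ b * a := by
  classical
  have G := good_odd (F := F) h2 hm
  let i0 : Fin m := ⟨0, by omega⟩
  let i1 : Fin m := ⟨1, by omega⟩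
  have h01 : i0 ≠ i1 := by simp [i0, i1]
  let L := Submodule.span F ({bv (Sum.inl i0), bv (Sum.inl i1)} : Set (ιO → F))
  let M := Submodule.span F ({bv (Sum.inr i0), bv (Sum.inr i1)} : Set (ιO → F))
  have hq : ∀ j, QO (bv j) = 0 := fun j => by
    rcases j with j | j <;> simp [oddForm_coe, Cfsg.quadFormOdd]
  have hL : IsLine QO L := isLine_span (hq _) (hq _)
    (by simp [QuadraticMap.polar, oddForm_coe, Cfsg.quadFormOdd, Pi.single_apply]) (by simp)
    fun h => by
      obtain ⟨c, hc⟩ := Submodule.mem_span_singleton.1 h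
      simpa [h01, h01.symm] using congrFun hc (Sum.inr (Sum.inl i1))
  have hM : IsLine QO M := isLine_span (hq _) (hq _)
    (by simp [QuadraticMap.polar, oddForm_coe, Cfsg.quadFormOdd, Pi.single_apply]) (by simp)
    fun h => by
      obtain ⟨c, hc⟩ := Submodule.mem_span_singleton.1 h
      simpa [h01, h01.symm] using congrFun hc (Sum.inr (Sum.inr i1))
  by_contra h
  push Not at h
  rcases (comm_iff G hL hM).1 (fun x _ y _ => h x y) with h1 | h1
  · obtain ⟨x, ⟨hx, hx'⟩, hx0⟩ := Submodule.exists_mem_ne_zero_of_ne_bot h1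
    obtain ⟨s, t, rfl⟩ := Submodule.mem_span_pair.1 hx
    obtain ⟨s', t', e⟩ := Submodule.mem_span_pair.1 hx'
    have hs : s = 0 := by simpa [h01, h01.symm, eq_comm] using congrFun e (Sum.inr (Sum.inl i0))
    have ht : t = 0 := by simpa [h01, h01.symm, eq_comm] using congrFun e (Sum.inr (Sum.inl i1))
    exact hx0 (by simp [hs, ht])
  · have := h1 (bv (Sum.inl i0)) (Submodule.subset_span (by simp)) (bv (Sum.inr i0)) (Submodule.subset_span (by simp))
    simp [QuadraticMap.polar, oddForm_coe, Cfsg.quadFormOdd, Pi.single_apply, h01] at this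

theorem odd_conj_inj :
    Function.Injective (MulAut.conj : Cfsg.POmega F (⇑QO) →* MulAut (Cfsg.POmega F (⇑QO))) := by
  classical
  have G := good_odd (F := F) h2 hm
  haveI : IsSimpleGroup (Cfsg.POmega F (⇑QO)) := Refl.simple _ G.nd (by simp; omega)
  rw [← MonoidHom.ker_eq_bot_iff]
  rcases (MonoidHom.normal_ker (MulAut.conj : Cfsg.POmega F (⇑QO) →* _)).eq_bot_or_eq_top with h | h
  · exact h
  · exfalso
    obtain ⟨a, b, hab⟩ := odd_noncomm h2 hm (F := F)
    refine hab ?_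
    have h1 : MulAut.conj a b = b := by
      rw [show MulAut.conj a = 1 from MonoidHom.mem_ker.1 (h ▸ Subgroup.mem_top a)]; rfl
    rwa [MulAut.conj_apply, mul_inv_eq_iff_eq_mul] at h1

set_option maxHeartbeats 1000000 in
/-- The centraliser of the rational root elements. -/
theorem odd_rigid {F₀ : Type v} [Field F₀] [Fintype F₀] [DecidableEq F₀] {e₀ : F₀ →+* F} {σ : F ≃+* F}
    (hfix : ∀ x, σ x = x ↔ x ∈ Set.range e₀) {y : MulAut (Cfsg.POmega F (⇑QO))}
    (hy : ∀ u v : ιO → F₀, oddForm m F₀ u = 0 → oddForm m F₀ v = 0 →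
      QuadraticMap.polar (⇑(oddForm m F₀)) u v = 0 →
      y (ps (good_odd h2 hm) (⇑e₀ ∘ u) (⇑e₀ ∘ v)) = ps (good_odd h2 hm) (⇑e₀ ∘ u) (⇑e₀ ∘ v)) :
    y ∈ Subgroup.zpowers (semiW (fixes_odd σ) (1 : GO QO)) := by
  classical
  set ψ := semiW (fixes_odd σ) (1 : GO QO)
  have G := good_odd (F := F) h2 hm
  set q := oddForm m F₀
  have hq : Ext e₀ q QO := ext_odd e₀
  have hH := narrow_odd (F := F) h2 hm
  obtain ⟨g, τ, hp, rfl⟩ := OrthOut.exists_semi G hH y
  obtain ⟨c, hcp⟩ := id hp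
  have hf := semi_pointMap G hp hcp
  -- rational singular points are fixed
  have hline : ∀ u v : ιO → F₀, q u = 0 → q v = 0 → QuadraticMap.polar (⇑q) u v = 0 → u ≠ 0 →
      v ∉ Submodule.span F₀ {u} → ∀ w ∈ Submodule.span F ({⇑e₀ ∘ u, ⇑e₀ ∘ v} : Set (ιO → F)),
        QO w = 0 → w ≠ 0 → semiMap g τ w ∈ Submodule.span F ({⇑e₀ ∘ u, ⇑e₀ ∘ v} : Set (ιO → F)) := by
    intro u v hu hv huv hu0 hvu w hw hw1 hw0
    set U := ⇑e₀ ∘ u
    set V := ⇑e₀ ∘ v
    have hU : QO U = 0 := by rw [hq, hu, map_zero]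
    have hV : QO V = 0 := by rw [hq, hv, map_zero]
    have hUV : QuadraticMap.polar (⇑QO) U V = 0 := by
      have := polar_comp hq u v
      rw [this, huv, map_zero]
    have hU0 : U ≠ 0 := fun h => hu0 (funext fun i => e₀.injective ((congrFun h i).trans (map_zero e₀).symm))
    have hVU : V ∉ Submodule.span F {U} := by
      intro h
      obtain ⟨k, hk⟩ := Submodule.mem_span_singleton.1 h
      obtain ⟨i, hi⟩ := Function.ne_iff.1 hu0
      refine hvu (Submodule.mem_span_singleton.2 ⟨v i / u i, funext fun j => e₀.injective ?_⟩)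
      have h1 := congrFun hk i
      have h3 := congrFun hk j
      simp only [U, V, Function.comp, Pi.smul_apply, smul_eq_mul] at h1 h3
      rw [Pi.smul_apply, smul_eq_mul, map_mul, map_div₀, ← h1, ← h3,
        mul_div_assoc, div_self ((map_ne_zero e₀).2 hi), mul_one]
    set N := Submodule.span F ({U, V} : Set (ιO → F))
    have hN : IsLine QO N := isLine_span hU hV hUV hU0 hVU
    obtain ⟨M, hM⟩ := exists_maps G (semiPO g τ hp) hN
    have hx : ps G U V ∈ R G N := ps_mem_R G (Submodule.subset_span (by simp)) (Submodule.subset_span (by simp))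
    have hfixx : semiPO g τ hp (ps G U V) = ps G U V := hy u v hu hv huv
    have hMN : M = N := line_eq_of_mem G hM.2.1 hN (x := ps G U V) (hfixx ▸ hM.mem hx) hx
      (ps_ne_one G hU hU0 hUV hVU)
    exact hMN ▸ ((hf w hw1 hw0).2.2 N M hM).1 hw
  have hpt : ∀ w : ιO → F₀, q w = 0 → w ≠ 0 → ∀ k : Fin m, w (Sum.inr (Sum.inl k)) = 0 →
      w (Sum.inr (Sum.inr k)) = 0 → ∃ d : F, semiMap g τ (⇑e₀ ∘ w) = d • (⇑e₀ ∘ w) := by
    intro w hw hw0 k hk hk'
    have hW0 : ⇑e₀ ∘ w ≠ 0 := fun h => hw0 (funext fun i => e₀.injective ((congrFun h i).trans (map_zero e₀).symm))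
    have hWQ : QO (⇑e₀ ∘ w) = 0 := by rw [hq, hw, map_zero]
    have hmem : ∀ s : Fin m ⊕ Fin m, (s = Sum.inl k ∨ s = Sum.inr k) →
        ∃ a b : F, a • (⇑e₀ ∘ w) + b • (⇑e₀ ∘ Pi.single (Sum.inr s) 1) = semiMap g τ (⇑e₀ ∘ w) := by
      intro s hs
      refine Submodule.mem_span_pair.1 (hline w (Pi.single (Sum.inr s) 1) hw ?_ ?_ hw0 ?_ _
        (Submodule.subset_span (by simp)) hWQ hW0)
      · rcases hs with rfl | rfl <;> simp [q, oddForm_coe, Cfsg.quadFormOdd]
      · rcases hs with rfl | rfl <;>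
          simp [q, QuadraticMap.polar, oddForm_coe, Cfsg.quadFormOdd, Pi.single_apply, add_mul, mul_add,
            Finset.sum_add_distrib, hk, hk']
      · intro h
        obtain ⟨a, ha⟩ := Submodule.mem_span_singleton.1 h
        rcases hs with rfl | rfl
        · simpa [hk] using congrFun ha (Sum.inr (Sum.inl k))
        · simpa [hk'] using congrFun ha (Sum.inr (Sum.inr k))
    obtain ⟨a, b, e⟩ := hmem _ (Or.inl rfl)
    obtain ⟨a', b', e'⟩ := hmem _ (Or.inr rfl)
    refine ⟨a, ?_⟩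
    rw [← e]
    have h := congrFun (e.trans e'.symm) (Sum.inr (Sum.inl k))
    simp [hk] at h
    rw [h, zero_smul, add_zero]
  let one : Fin m := ⟨0, by omega⟩
  let two : Fin m := ⟨1, by omega⟩
  let three : Fin m := ⟨2, by omega⟩
  have hne : ∀ a b : Fin m, ∃ k, k ≠ a ∧ k ≠ b := fun a b => by
    obtain ⟨k, hk⟩ := Finset.exists_mem_notMem_of_card_lt_card (s := ({a, b} : Finset (Fin m)))
      (t := Finset.univ) (by simpa using lt_of_le_of_lt Finset.card_le_two (by omega))
    exact ⟨k, by simpa using hk.2⟩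
  set A : Matrix ιO ιO F := ((g : GL ιO F) : Matrix ιO ιO F)
  have hint : ∀ (w : ιO → F₀), (∀ i, τ (e₀ (w i)) = e₀ (w i)) →
      semiMap g τ (⇑e₀ ∘ w) = A *ᵥ (⇑e₀ ∘ w) := fun w hw => by
    rw [semiMap]; exact congrArg _ (funext hw)
  have hbas : ∀ j : Fin m ⊕ Fin m, ∃ d : F, A *ᵥ bv j = d • bv j := fun j => by
    obtain ⟨k, hk, -⟩ := hne (Sum.elim id id j) (Sum.elim id id j)
    obtain ⟨d, hd⟩ := hpt (Pi.single (Sum.inr j) 1)
      (by rcases j with j | j <;> simp [q, oddForm_coe, Cfsg.quadFormOdd]) (by simp) k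
      (by rcases j with j | j <;> simp_all) (by rcases j with j | j <;> simp_all)
    rw [hint _ fun i => by by_cases h : i = Sum.inr j <;> simp [h]] at hd
    exact ⟨d, by rwa [comp_single, map_one] at hd⟩
  choose d hd using hbas
  have hsum : ∀ j j' : Fin m ⊕ Fin m, Sum.elim id id j ≠ Sum.elim id id j' → d j = d j' := fun j j' hjj => by
    obtain ⟨k, hk, hk'⟩ := hne (Sum.elim id id j) (Sum.elim id id j')
    have hjne : j ≠ j' := fun h => hjj (h ▸ rfl)
    obtain ⟨s, hs⟩ := hpt (Pi.single (Sum.inr j) 1 + Pi.single (Sum.inr j') 1)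
      (by rcases j with j | j <;> rcases j' with j' | j' <;>
        simp [q, oddForm_coe, Cfsg.quadFormOdd, Pi.single_apply, Finset.sum_add_distrib, add_mul, mul_add] <;>
        simp_all [eq_comm])
      (fun h => by simpa [hjne] using congrFun h (Sum.inr j)) k
      (by rcases j with j | j <;> rcases j' with j' | j' <;> simp_all)
      (by rcases j with j | j <;> rcases j' with j' | j' <;> simp_all)
    rw [hint _ fun i => by
      by_cases h : i = Sum.inr j <;> by_cases h' : i = Sum.inr j' <;> simp [h, h', hjne, Ne.symm hjne]] at hs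
    have e : ⇑e₀ ∘ (Pi.single (Sum.inr j) 1 + Pi.single (Sum.inr j') 1 : ιO → F₀) = bv j + bv j' := by
      funext i; by_cases h : i = Sum.inr j <;> by_cases h' : i = Sum.inr j' <;> simp [h, h', hjne, Ne.symm hjne]
    rw [e, mulVec_add, hd, hd] at hs
    have h1 := congrFun hs (Sum.inr j)
    have h3 := congrFun hs (Sum.inr j')
    simp [hjne, Ne.symm hjne] at h1 h3
    rw [h1, h3]
  set D := d (Sum.inl one)
  have hD : ∀ j, d j = D := fun j => by
    obtain ⟨k, hk, hk'⟩ := hne (Sum.elim id id j) one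
    exact (hsum j (Sum.inl k) hk.symm).trans (hsum _ _ hk')
  have hx0 : A *ᵥ (Pi.single (Sum.inl ()) 1) = D • (Pi.single (Sum.inl ()) 1 : ιO → F) := by
    have key : ∀ i : Fin m, ∃ s : F, A *ᵥ (Pi.single (Sum.inl ()) 1) =
        s • (Pi.single (Sum.inl ()) 1 + bv (Sum.inl i) - bv (Sum.inr i)) - D • (bv (Sum.inl i) - bv (Sum.inr i)) := by
      intro i
      obtain ⟨k, hk, -⟩ := hne i i
      obtain ⟨s, hs⟩ := hpt (Pi.single (Sum.inl ()) 1 + Pi.single (Sum.inr (Sum.inl i)) 1 -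
          Pi.single (Sum.inr (Sum.inr i)) 1)
        (by simp [q, oddForm_coe, Cfsg.quadFormOdd, Pi.single_apply, Finset.sum_add_distrib, add_mul, mul_add,
          sub_mul, mul_sub])
        (fun h => by simpa using congrFun h (Sum.inl ())) k (by simp [hk]) (by simp [hk])
      rw [hint _ fun j => by rcases j with _ | (j | j) <;> simp [Pi.single_apply] <;> split_ifs <;> simp] at hs
      have e : ⇑e₀ ∘ (Pi.single (Sum.inl ()) 1 + Pi.single (Sum.inr (Sum.inl i)) 1 -
          Pi.single (Sum.inr (Sum.inr i)) 1 : ιO → F₀) =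
          Pi.single (Sum.inl ()) 1 + bv (Sum.inl i) - bv (Sum.inr i) := by
        funext j; rcases j with _ | (j | j) <;> simp [Pi.single_apply] <;> split_ifs <;> simp
      rw [e, mulVec_sub, mulVec_add, hd, hd, hD, hD] at hs
      exact ⟨s, by rw [← hs]; module⟩
    obtain ⟨s, hs⟩ := key one
    obtain ⟨s', hs'⟩ := key two
    have h1 := congrFun (hs.symm.trans hs') (Sum.inr (Sum.inl one))
    simp [one, two, sub_eq_zero] at h1
    rw [hs, h1]
    module
  have hA : ∀ w : ιO → F, A *ᵥ w = D • w := by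
    have hlin : Matrix.mulVecLin A = D • LinearMap.id := by
      refine (Pi.basisFun F ιO).ext fun i => ?_
      rw [Pi.basisFun_apply, Matrix.mulVecLin_apply, LinearMap.smul_apply, LinearMap.id_apply]
      rcases i with u' | j
      · exact hx0
      · exact (hd j).trans (by rw [hD])
    exact fun w => LinearMap.congr_fun hlin w
  have hτ : ∀ a, τ (e₀ a) = e₀ a := fun a => by
    have h12 : one ≠ two := by simp [one, two]
    set w : ιO → F₀ := Pi.single (Sum.inr (Sum.inl one)) 1 + Pi.single (Sum.inr (Sum.inl two)) a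
    obtain ⟨s, hs⟩ := hpt w
      (by simp [w, q, oddForm_coe, Cfsg.quadFormOdd, Pi.single_apply, Finset.sum_add_distrib, add_mul, mul_add])
      (fun h => by simpa [w, h12] using congrFun h (Sum.inr (Sum.inl one))) three
      (by simp [w, one, two, three]) (by simp [w])
    rw [semiMap, hA] at hs
    have h1 := congrFun hs (Sum.inr (Sum.inl one))
    have h3 := congrFun hs (Sum.inr (Sum.inl two))
    simp [w, h12, Ne.symm h12] at h1 h3
    have hD0 : D ≠ 0 := fun h0 => by
      have := mulVec_injective_iff_isUnit.2 (Units.isUnit (g : GL ιO F)) (a₁ := bv (Sum.inl one)) (a₂ := 0)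
        (by show A *ᵥ _ = A *ᵥ _; rw [hA, hA, h0]; simp)
      simpa using congrFun this (Sum.inr (Sum.inl one))
    rw [← h1] at h3
    exact mul_left_cancel₀ hD0 h3
  have hD0 : D ≠ 0 := fun h0 => by
    have := mulVec_injective_iff_isUnit.2 (Units.isUnit (g : GL ιO F)) (a₁ := bv (Sum.inl one)) (a₂ := 0)
      (by show A *ᵥ _ = A *ᵥ _; rw [hA, hA, h0]; simp)
    simpa using congrFun this (Sum.inr (Sum.inl one))
  haveI : Finite (F ≃+* F) := Finite.of_injective (fun e => (e : F → F)) DFunLike.coe_injective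
  obtain ⟨i, hi⟩ := (isOfFinOrder_of_finite σ).mem_powers_iff_mem_zpowers.2 (mem_zpowers_of_fix hfix hτ)
  have hi' : σ ^ i = τ := hi
  subst hi'
  obtain ⟨h, hq', e, em⟩ := OrthOut.exists_pow (pair_go (fixes_odd σ) (1 : GO QO)) i
  refine ⟨(i : ℤ), ?_⟩
  show ψ ^ (i : ℤ) = semiPO g (σ ^ i) hp
  rw [zpow_natCast]
  refine e.trans ?_
  rw [← one_mul (semiPO h _ hq'), ← OrthSim.conjPO_scal QO (Units.mk0 D hD0), OrthOut.conjPO_eq_semi,
    OrthSim.semiPO_mul]
  refine OrthOut.semiPO_congr _ _ (RingEquiv.ext fun _ => rfl) fun w => ?_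
  have hit : ∀ n w, (semiMap ((1 : GO QO) : GL ιO F) σ)^[n] w = fun i => (σ ^ n) (w i) := by
    intro n
    induction n with
    | zero => intro w; rfl
    | succ n ih => intro w; rw [Function.iterate_succ_apply', ih, semiMap, pow_succ']; simp
  rw [OrthOut.semiMap_comp, em, hit]
  show gm QO (scal QO (Units.mk0 D hD0)) *ᵥ _ = A *ᵥ _
  rw [hA, OrthSim.gm_scal, smul_mulVec, one_mulVec]
  rfl


set_option maxHeartbeats 1000000 in
theorem odd_std {F₀ : Type v} [Field F₀] [Fintype F₀] [DecidableEq F₀] {e₀ : F₀ →+* F} {σ : F ≃+* F}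
    (hfix : ∀ x, σ x = x ↔ x ∈ Set.range e₀) {p : ℕ} [Fact p.Prime] :
    Data p (semiW (fixes_odd σ) (1 : GO QO)) := by
  classical
  set ψ := semiW (fixes_odd σ) (1 : GO QO)
  have G := good_odd (F := F) h2 hm
  have h20 : (2 : F₀) ≠ 0 := two_ne e₀ h2
  have G₀ := good_odd (F := F₀) h20 hm
  set q := oddForm m F₀
  have hq : Ext e₀ q QO := ext_odd e₀
  have hT : ∀ v, semiMap ((1 : GO QO) : GL ιO F) σ (LinearEquiv.refl F (ιO → F) v) =
      LinearEquiv.refl F _ fun i => σ (v i) := fun v => by simp [semiMap]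
  have hc : ∀ v, QO (LinearEquiv.refl F (ιO → F) v) = ((1 : Fˣ) : F) * QO v := fun v => by simp
  have ht : ∀ (x : GO QO) v, gm QO (MonoidHom.id _ x) *ᵥ LinearEquiv.refl F (ιO → F) v =
      LinearEquiv.refl F _ (gm QO x *ᵥ v) := fun x v => rfl
  set φ0 : GO q →* MulAut (Cfsg.POmega F (⇑QO)) := (conjPO QO).comp (mapGO hq)
  set K := (NN q).map φ0
  have hker : ∀ b, φ0 b = 1 ↔ conjPO q b = 1 := fun b => map_ker hq hT hc ht G G₀ b
  haveI : IsSimpleGroup (Cfsg.POmega F₀ (⇑q)) := Refl.simple _ G₀.nd (by simp; omega)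
  obtain ⟨e1⟩ : Nonempty (K ≃* Cfsg.POmega F₀ (⇑q)) := by
    obtain ⟨e⟩ := range_equiv (φ0.comp (NN q).subtype) ((conjPO q).comp (NN q).subtype)
      (Subgroup.ext fun b => hker b)
    exact ⟨((MulEquiv.subgroupCongr (by rw [MonoidHom.range_comp, Subgroup.range_subtype])).trans
      (e.trans (MulEquiv.subgroupCongr (show _ = Cfsg.Inn (Cfsg.POmega F₀ (⇑q)) by
        rw [OrthSim.Setup.inn_eq' (Q := q), MonoidHom.range_comp, Subgroup.range_subtype])))).trans
      (MonoidHom.ofInjective (odd_conj_inj h20 hm)).symm⟩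
  haveI : Nontrivial K := e1.toEquiv.nontrivial
  have hKs : IsSimpleGroup K :=
    IsSimpleGroup.isSimpleGroup_of_surjective e1.symm.toMonoidHom e1.symm.surjective
  have hidx : (NN q).index = 2 := odd_index h20 hm le_rfl fun s hs h => by
    rw [← one_mul (toGO q s), ← map_one (scal q)] at h
    exact (odd_nn h20 hm hs).1 h
  have hidxQ : (NN QO).index = 2 := odd_index h2 hm le_rfl fun s hs h => by
    rw [← one_mul (toGO QO s), ← map_one (scal QO)] at h
    exact (odd_nn h2 hm hs).1 h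
  have hKinn : K ≤ Cfsg.Inn (Cfsg.POmega F (⇑QO)) := by
    have hperf : K ≤ ⁅K, K⁆ := by
      rw [← Subgroup.map_subtype_commutator]
      haveI := hKs
      rcases (inferInstance : (commutator ↥K).Normal).eq_bot_or_eq_top with h | h
      · exfalso
        obtain ⟨a, b, hab⟩ := odd_noncomm h20 hm (F := F₀)
        refine hab (e1.symm.injective ?_)
        rw [map_mul, map_mul]
        have h3 : ⁅e1.symm a, e1.symm b⁆ ∈ commutator ↥K := by
          rw [commutator_def]; exact Subgroup.commutator_mem_commutator (Subgroup.mem_top _) (Subgroup.mem_top _)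
        rw [h, Subgroup.mem_bot, commutatorElement_eq_one_iff_mul_comm] at h3
        exact h3
      · rw [h, ← MonoidHom.range_eq_map, Subgroup.range_subtype]
    refine hperf.trans (Subgroup.commutator_le.2 fun a ha b hb => ?_)
    obtain ⟨a', -, rfl⟩ := ha
    obtain ⟨b', -, rfl⟩ := hb
    rw [OrthSim.Setup.inn_eq']
    refine ⟨⁅mapGO hq a', mapGO hq b'⁆, ?_, map_commutatorElement _ _ _⟩
    rw [commutatorElement_def]
    rw [SetLike.mem_coe, Subgroup.mul_mem_iff_of_index_two hidxQ, Subgroup.mul_mem_iff_of_index_two hidxQ,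
      Subgroup.mul_mem_iff_of_index_two hidxQ, inv_mem_iff, inv_mem_iff]
    tauto
  have hKx : K ≤ Subgroup.centralizer {ψ} := by
    rintro _ ⟨b, -, rfl⟩
    exact Subgroup.mem_centralizer_singleton_iff.2
      (map_commute (fixes_odd σ) hq hT ht (fun x => (hfix _).2 ⟨x, rfl⟩) b)
  have hsub : ∀ c ∈ fixInn ψ, ∃ b, φ0 b = c := by
    rintro c ⟨hi, hcen⟩
    have h1 : c ∈ (⊤ : Subgroup (GO QO)).map (conjPO QO) ⊓ Subgroup.centralizer {ψ} := ⟨by
      rw [OrthSim.Setup.inn_eq'] at hi; exact Subgroup.map_mono le_top hi, hcen⟩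
    rw [cent_eq (fixes_odd σ) hq hT hc ht G hfix ⊤ (fun _ => trivial) ⊤ (fun _ => Iff.rfl)] at h1
    obtain ⟨b, -, hb⟩ := h1
    exact ⟨b, hb⟩
  refine ⟨K, le_inf hKinn hKx, noCore_of_simple hKs, ?_, fun hdvd => ?_, fun y hy => ?_⟩
  · rintro c hc' _ ⟨n, hn, rfl⟩
    obtain ⟨b, rfl⟩ := hsub c hc'
    haveI := OrthSim.nn_normal q
    exact ⟨b * n * b⁻¹, Subgroup.Normal.conj_mem ‹_› n hn b, by rw [map_mul, map_mul, map_inv]⟩
  · rcases eq_or_ne p 2 with rfl | hp
    · rw [Nat.card_congr e1.toEquiv]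
      have hqodd : Odd (Fintype.card F₀) := Nat.odd_iff.2 (FiniteField.odd_card_of_char_ne_two fun h =>
        h20 (by haveI := ringChar.of_eq h; exact CharTwo.two_eq_zero))
      have h := card_pomega_odd (F := F₀) rfl hqodd m hm
      rw [← oddForm_coe] at h
      have h4 : 4 ∣ ∏ i ∈ Finset.range m, (Fintype.card F₀ ^ (2 * (i + 1)) - 1) := by
        obtain ⟨k, rfl⟩ : ∃ k, m = k + 2 := ⟨m - 2, by omega⟩
        rw [Finset.prod_range_succ, Finset.prod_range_succ, mul_assoc]
        refine dvd_mul_of_dvd_right (show 2 * 2 ∣ _ from mul_dvd_mul ?_ ?_) _ <;>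
          exact ((Nat.Odd.sub_odd (hqodd.pow) odd_one).two_dvd)
      obtain ⟨t, ht4⟩ := h4
      rw [OrthCard.prodQ, ht4] at h
      refine ⟨Fintype.card F₀ ^ m ^ 2 * t, ?_⟩
      show Nat.card (Cfsg.POmega F₀ (⇑(oddForm m F₀))) = _
      nlinarith [h]
    · obtain ⟨⟨c, hc'⟩, hco⟩ := exists_prime_orderOf_dvd_card' p hdvd
      rw [Subgroup.orderOf_mk] at hco
      obtain ⟨b, rfl⟩ := hsub c hc'
      have h2b : φ0 b ^ 2 ∈ K := ⟨b ^ 2, by
        haveI := OrthSim.nn_normal q
        simpa [hidx] using Subgroup.pow_index_mem (NN q) b, map_pow _ _ _⟩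
      have hcop : (φ0 b ^ 2) ∈ K → φ0 b ∈ K := fun h => by
        obtain ⟨j, hj⟩ := (Fact.out : p.Prime).odd_of_ne_two hp
        have h3 : φ0 b = (φ0 b ^ 2) ^ (j + 1) := by
          rw [← pow_mul, show 2 * (j + 1) = p + 1 by omega, pow_succ, ← hco, pow_orderOf_eq_one, one_mul]
        rw [h3]; exact pow_mem h _
      rw [← hco, ← Subgroup.orderOf_mk (φ0 b) (hcop h2b)]
      exact orderOf_dvd_natCard _
  · refine odd_rigid h2 hm hfix fun u v hu hv huv => ?_
    set U := ⇑e₀ ∘ u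
    set V := ⇑e₀ ∘ v
    have hU : QO U = 0 := by rw [hq, hu, map_zero]
    have hUV : QuadraticMap.polar (⇑QO) U V = 0 := by rw [polar_comp hq u v, huv, map_zero]
    have hk : MulAut.conj (ps G U V) ∈ K := by
        refine ⟨toGO q (sg u v), (OrthSim.mem_NN q).2 ⟨1, _, sg_mem G₀ u v, by rw [map_one, one_mul]⟩, ?_⟩
        show conjPO QO (mapGO hq (toGO q (sg u v))) = _
        have he : mapIso hq (sg u v) = (sg U V : Cfsg.isometryGroup F (⇑QO)) := by
          have hlin : Matrix.mulVecLin (mat QO (mapIso hq (sg u v))) = Matrix.mulVecLin (mat QO (sg U V)) := by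
            refine (Pi.basisFun F ιO).ext fun i => ?_
            have e1 : (Pi.basisFun F ιO) i = ⇑e₀ ∘ (Pi.single i 1 : ιO → F₀) := by
              rw [comp_single, map_one, Pi.basisFun_apply]
            rw [e1, Matrix.mulVecLin_apply, Matrix.mulVecLin_apply, mat_mapIso, ← map_mulVec',
              sg_mulVec hu huv, sg_mulVec hU hUV]
            rw [polar_comp hq u, polar_comp hq v, hq v]
            funext j
            simp only [q, U, V, Function.comp, Pi.add_apply, Pi.smul_apply, smul_eq_mul, map_add, map_mul, map_sub,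
              map_neg]
          exact ext_mulVec QO fun w => LinearMap.congr_fun hlin w
        rw [mapGO_toGO, he]
        exact conjPO_ps G U V
    have h1 := Subgroup.mem_centralizer_iff.1 hy _ hk
    refine odd_conj_inj h2 hm ?_
    rw [← mul_right_cancel_iff (a := y), h1]
    exact MulEquiv.ext fun z => by simp [MulAut.mul_apply]

theorem odd_balance {ℓ : ℕ} [Fact ℓ.Prime] {f : ℕ} (hF : Fintype.card F = ℓ ^ f) (φ : (ιO → F) → F) (hφ : φ = ⇑QO)
    (A : Subgroup (MulAut (Cfsg.POmega F φ))) (hinn : ∀ k : Cfsg.POmega F φ, MulAut.conj k ∈ A) {p : ℕ}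
    [Fact p.Prime] (x : MulAut (Cfsg.POmega F φ)) (hord : orderOf x = p)
    (hnot : ¬ Cfsg.IsSimilarityInducedAutPOmega φ x) :
    Cfsg.pPrimeCore p ↥(A ⊓ Subgroup.centralizer {x}) ≠ ⊥ ↔
      (Cfsg.IsFieldAutClassPOmega φ x ∧
        Nat.Coprime p (Nat.card ↥(MonoidHom.eqLocus x.toMonoidHom (MonoidHom.id (Cfsg.POmega F φ))))) := by
  classical
  subst hφ
  have G := good_odd (F := F) h2 hm
  have hH := narrow_odd (F := F) h2 hm
  obtain ⟨g, τ, hp, rfl⟩ := OrthOut.exists_semi G hH x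
  have hτ1 : τ ≠ 1 := fun h => by
    obtain rfl : τ = RingEquiv.refl F := h
    obtain ⟨c, hc⟩ := hp
    refine hnot ⟨g, ⟨c, fun v => by simpa using hc v⟩, ?_⟩
    exact (OrthSim.induced_semi_iff g _ ⟨c, hc⟩ _).2 rfl
  have hpow : semiPO g τ hp ^ p = 1 := hord ▸ pow_orderOf_eq_one _
  obtain ⟨hτp, -⟩ := pow_semi G hH hp hpow
  have hτ : orderOf τ = p := orderOf_eq_prime hτp hτ1
  set w : GO QO := ⟨g, go_of_pair (fixes_odd τ) hp⟩
  have hw : semiPO g τ hp = semiW (fixes_odd τ) w := rfl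
  rw [hw] at hord hpow ⊢
  obtain ⟨y, -, hy⟩ := odd_conj_std h2 hm hF hτ (Fact.out : p.Prime).pos hpow
  have hfield : Cfsg.IsFieldAutClassPOmega (⇑QO) (semiW (fixes_odd τ) w) := by
    refine ⟨(conjPO QO y)⁻¹, semiW (fixes_odd τ) 1, τ, fun h => hτ1 h, fun s s' e => ?_, by rw [hy]; group⟩
    exact (OrthSim.induced_semi_iff _ _ _ _).2 rfl s s' (by simpa using e)
  rw [and_iff_right hfield]
  refine balance (odd_conj_inj h2 hm) hinn hord ?_
  rw [hy]
  let L : Subfield F := τ.toRingHom.eqLocusField (RingHom.id F)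
  exact (odd_std h2 hm (e₀ := L.subtype) (σ := τ) fun z =>
    ⟨fun hz => ⟨⟨z, hz⟩, rfl⟩, by rintro ⟨z, rfl⟩; exact z.2⟩).conj _

end Cfsg.Lib.Balance
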