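import Cfsg.Agent.Classical.Unitary.UThreeTwo
import Cfsg.Agent.Known.Balance.Generic

/-!
`PSU_3(2)` has no nontrivial normal subgroup of order prime to three.
-/

set_option autoImplicit false
set_option linter.unusedSectionVars false
set_option linter.style.haveILetI false

namespace Cfsg.Lib.Balance

open Matrix Cfsg.Lib.Classical Cfsg.Lib.Classical.UThreeTwo

universe u

theorem qX_faithful : ∀ g, (∃ s : Fin 4, s ≠ 0 ∧
      mmul (qX g) (nX (1, 0)) = mmul (scal s) (mmul (nX (1, 0)) (qX g))) →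
    (∃ s : Fin 4, s ≠ 0 ∧ mmul (qX g) (nX (0, 1)) = mmul (scal s) (mmul (nX (0, 1)) (qX g))) → g = 1 := by
  decide +kernel

theorem noCore_psu32 {F : Type u} [Field F] [Fintype F] (hF : Fintype.card F = 4) :
    NoCore 3 (Cfsg.PSU 3 F 2) := by
  obtain ⟨_, ω, hω⟩ := exists_omega hF
  have hcard := card_psu hF
  haveI : Finite (Cfsg.PSU 3 F 2) := Nat.finite_of_card_ne_zero (by omega)
  refine ⟨Finite.one_lt_card_iff_nontrivial.1 (by omega), fun _ M hM hc => ?_⟩
  haveI := hM
  obtain ⟨N, hN, h9, -, hcomm, ⟨e⟩⟩ := structure_thm hF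
  have hrange : (nHom hω).range = N := by
    refine Subgroup.eq_of_le_of_card_ge ?_ ?_
    · rintro _ ⟨a, rfl⟩
      have h1 : (QuotientGroup.mk (nHom hω a) : Cfsg.PSU 3 F 2 ⧸ N) ^ 3 = 1 := by
        rw [← QuotientGroup.mk_pow, ← map_pow,
          show a ^ 3 = 1 from (by decide : ∀ a : Multiplicative (ZMod 3 × ZMod 3), a ^ 3 = 1) a, map_one]
        rfl
      refine (QuotientGroup.eq_one_iff _).1 (e.injective ?_)
      rw [map_one]
      refine (by decide +kernel : ∀ g : QuaternionGroup 2, g ^ 3 = 1 → g = 1) _ ?_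
      rw [← map_pow, h1, map_one]
    · rw [h9, ← Nat.card_congr (MonoidHom.ofInjective (nHom_injective hω)).toEquiv, Nat.card_eq_fintype_card]
      exact le_of_eq rfl
  have hMN : ∀ z ∈ M, z ∈ N → z = 1 := fun z hz hzN => by
    have h1 : orderOf z ∣ 9 := h9 ▸ Subgroup.orderOf_mk z hzN ▸ orderOf_dvd_natCard _
    have h2 : orderOf z ∣ Nat.card M := Subgroup.orderOf_mk z hz ▸ orderOf_dvd_natCard _
    exact orderOf_eq_one_iff.1 (Nat.eq_one_of_dvd_coprimes (hc.pow_right 2) h2 h1)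
  have hcen : ∀ z ∈ M, ∀ a, z * nHom hω a = nHom hω a * z := fun z hz a => by
    have ha : nHom hω a ∈ N := hrange ▸ ⟨a, rfl⟩
    refine mul_inv_eq_iff_eq_mul.1 (mul_inv_eq_one.1 (hMN (z * nHom hω a * z⁻¹ * (nHom hω a)⁻¹) ?_ ?_))
    · rw [show z * nHom hω a * z⁻¹ * (nHom hω a)⁻¹ = z * (nHom hω a * z⁻¹ * (nHom hω a)⁻¹) by group]
      exact mul_mem hz (hM.conj_mem _ (inv_mem hz) _)
    · exact mul_mem (hN.conj_mem _ ha z) (inv_mem ha)
  let f : Multiplicative (ZMod 3 × ZMod 3) × QuaternionGroup 2 → Cfsg.PSU 3 F 2 :=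
    fun x => nHom hω x.1 * qHom hω x.2
  have hinj : Function.Injective f := by
    rintro ⟨a, g⟩ ⟨a', g'⟩ h
    have h1 : qHom hω (g * g'⁻¹) = nHom hω (a⁻¹ * a') := by
      rw [map_mul, map_mul, map_inv, map_inv, mul_inv_eq_iff_eq_mul, mul_assoc, eq_inv_mul_iff_mul_eq]
      exact h
    have h3 : (g * g'⁻¹) ^ 3 = 1 := qHom_injective hω (by
      rw [map_pow, h1, ← map_pow, (by decide : ∀ a : Multiplicative (ZMod 3 × ZMod 3), a ^ 3 = 1) (a⁻¹ * a'),
        map_one, map_one])
    have hg : g * g'⁻¹ = 1 := (by decide +kernel : ∀ g : QuaternionGroup 2, g ^ 3 = 1 → g = 1) _ h3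
    rw [hg, map_one] at h1
    obtain rfl : g = g' := mul_inv_eq_one.1 hg
    obtain rfl : a = a' := inv_mul_eq_one.1 (nHom_injective hω (by rw [← h1, map_one]))
    rfl
  have hbij : Function.Bijective f := (Nat.bijective_iff_injective_and_card f).2 ⟨hinj, by
    rw [hcard, Nat.card_prod, Nat.card_eq_fintype_card, Nat.card_eq_fintype_card, QuaternionGroup.card]; rfl⟩
  refine (Subgroup.eq_bot_iff_forall _).2 fun z hz => ?_
  obtain ⟨⟨a, g⟩, rfl⟩ := hbij.2 z
  have key : ∀ b : ZMod 3 × ZMod 3, ∃ s : Fin 4, s ≠ 0 ∧ mmul (qX g) (nX b) = mmul (scal s) (mmul (nX b) (qX g)) := by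
    intro b
    obtain ⟨b', s, hs, hb⟩ := qX_conj g b
    refine ⟨s, hs, ?_⟩
    have hq : qHom hω g * nHom hω (Multiplicative.ofAdd b) = nHom hω (Multiplicative.ofAdd b') * qHom hω g := by
      show img hω (qX g) (qX_good _) * img hω (nX b) (nX_good _) =
        img hω (nX b') (nX_good _) * img hω (qX g) (qX_good _)
      rw [img, img, img, ← map_mul, ← map_mul]
      have hmul : el hω (qX g) (qX_good _) * el hω (nX b) (nX_good _) =
          el hω (scal s) (scal_good s hs) * (el hω (nX b') (nX_good _) * el hω (qX g) (qX_good _)) := by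
        refine Subtype.ext (Subtype.ext ?_)
        show (qX g).map (ev ω) * (nX b).map (ev ω) =
          (scal s).map (ev ω) * ((nX b').map (ev ω) * (qX g).map (ev ω))
        rw [← map_mmul hω, ← map_mmul hω, ← map_mmul hω, hb]
      rw [hmul, map_mul (QuotientGroup.mk' _) (el hω (scal s) (scal_good s hs)),
        show QuotientGroup.mk' (Subgroup.center (Cfsg.SU 3 F 2)) (el hω (scal s) (scal_good s hs)) = 1 from
          (QuotientGroup.eq_one_iff _).mpr (el_scal_mem_center hω s (scal_good s hs)), one_mul]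
    have hz1 := hcen _ hz (Multiplicative.ofAdd b)
    change nHom hω a * qHom hω g * nHom hω _ = nHom hω _ * (nHom hω a * qHom hω g) at hz1
    rw [mul_assoc, hq, ← mul_assoc, ← mul_assoc, mul_left_inj, ← map_mul, ← map_mul, mul_comm a] at hz1
    have : b' = b := Multiplicative.ofAdd.injective (mul_right_cancel (nHom_injective hω hz1))
    rwa [this] at hb
  obtain rfl : g = 1 := qX_faithful g (key _) (key _)
  refine hMN _ hz ?_
  show nHom hω a * qHom hω 1 ∈ N
  rw [map_one, mul_one, ← hrange]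
  exact ⟨a, rfl⟩

end Cfsg.Lib.Balance
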