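import Cfsg.Agent.Known.Balance.PSL
import Cfsg.Agent.Known.Balance.UThreeCore
import Cfsg.Agent.Known.Unit.FieldData
import Cfsg.Agent.Known.Unit.Invol.Basic

/-!
Local balance at automorphisms of prime order of `PSU_n` that are not inner-diagonal.
-/

set_option autoImplicit false
set_option linter.unusedSectionVars false
set_option linter.style.haveILetI false

namespace Cfsg.Lib.Balance

open Matrix Cfsg.Lib.Classical Cfsg.Lib.Unitary
open Cfsg.Lib.Unitary.Invol (gamU tauE bar IsDesc)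
open Cfsg.Lib.Known.ThreeUnipotents (rankOne coe_rankOne)
open Cfsg.Lib.Known.AutPSLn (conjP)
open Cfsg.Lib.Known.AutPSLn.Invol (formOf)

universe u v

variable {F : Type u} [Field F] [Fintype F] {n q : ℕ}

local notation "Mn" => Matrix (Fin n) (Fin n) F
local notation "GLn" => GL (Fin n) F
local notation "GUn" => Cfsg.GU n F q
local notation "SUn" => Cfsg.SU n F q
local notation "Qn" => Cfsg.PSU n F q

theorem psu_three_two_not (hF : Fintype.card F = q ^ 2) (hK : IsSimpleGroup (Cfsg.PSU n F q)) :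
    ¬ (n = 3 ∧ q = 2) := by
  rintro ⟨rfl, rfl⟩
  obtain ⟨N, hN, h9, -, -, -⟩ := UThreeTwo.structure_thm (F := F) (by rw [hF]; rfl)
  have h72 := UThreeTwo.card_psu (F := F) (by rw [hF]; rfl)
  rcases hN.eq_bot_or_eq_top with h | h <;> subst h
  · rw [Subgroup.card_bot] at h9; omega
  · rw [Subgroup.card_top, h72] at h9; omega

theorem psu_conj_inj (hF : Fintype.card F = q ^ 2) (hn : 3 ≤ n) :
    Function.Injective (MulAut.conj : Qn →* MulAut Qn) := by
  rw [injective_iff_map_eq_one]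
  intro x hx
  obtain ⟨s, rfl⟩ := QuotientGroup.mk_surjective x
  change MulAut.conj (QuotientGroup.mk' _ s) = 1 at hx
  rw [← conjU_suToGU] at hx
  obtain ⟨u, hu⟩ := (conjU_eq_one_iff hF hn _).1 hx
  refine (QuotientGroup.eq_one_iff _).2 ((su_center_iff hF (by omega) s).2 ⟨((u : Fˣ) : F), ?_⟩)
  rw [← coe_suToGU, hu, coe_scU]

theorem inn_of_detU (hF : Fintype.card F = q ^ 2) {g : GUn} (h : ((g : GLn) : Mn).det = 1) :
    (conjU g : MulAut Qn) ∈ Cfsg.Inn Qn := by
  obtain ⟨s, rfl⟩ := exists_su_of_det hF (g := g) (Subtype.ext (Units.ext ((coe_guDet hF g).trans h)))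
  exact (inn_iff _).2 ⟨s, rfl⟩

theorem conjU_rel (hF : Fintype.card F = q ^ 2) (hn : 3 ≤ n) {a b : GUn} (h : (conjU a : MulAut Qn) = conjU b) :
    ∃ u : F, ((a : GLn) : Mn) = u • ((b : GLn) : Mn) := by
  obtain ⟨u, hu⟩ := (conjU_eq_one_iff hF hn (a * b⁻¹)).1 (by rw [map_mul, map_inv, h, mul_inv_cancel])
  exact ⟨((u : Fˣ) : F), by rw [mul_inv_eq_iff_eq_mul.1 hu, coe_gu_mul, coe_scU, smul_mul_assoc, one_mul]⟩

theorem comm_fieldU (hF : Fintype.card F = q ^ 2) (hn : 3 ≤ n) {g m : GUn} {τ : F ≃+* F}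
    (h : (conjU m : MulAut Qn) * (conjU g * fieldU τ) = conjU g * fieldU τ * conjU m) :
    ∃ u : F, ((g : GLn) : Mn) * ((m : GLn) : Mn).map τ = u • (((m : GLn) : Mn) * ((g : GLn) : Mn)) := by
  rw [mul_assoc (conjU g), fieldU_mul_conjU, ← mul_assoc, ← mul_assoc, ← map_mul, ← map_mul, mul_left_inj] at h
  exact conjU_rel hF hn h.symm

theorem scalarU (hF : Fintype.card F = q ^ 2) (hn : 0 < n) {g : GUn} {μ : F}
    (h : ((g : GLn) : Mn) = μ • 1) : (conjU g : MulAut Qn) = 1 := by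
  obtain ⟨w, -, hw⟩ := Invol.scalar_N1 hF hn (A := 1) (B := g) h
  rw [hw, mul_one, conjU_scU]

set_option maxHeartbeats 1000000 in
/-- The data of a field automorphism of odd prime order. -/
theorem psu_field (hF : Fintype.card F = q ^ 2) (hn : 3 ≤ n) {p r f : ℕ} [Fact p.Prime] [Fact r.Prime]
    (hpo : Odd p) (hq : q = r ^ f) (hf : 1 ≤ f) {σ : F ≃+* F} (hord : orderOf σ = p) :
    Data p (fieldU σ : MulAut Qn) := by
  classical
  have hF' : Fintype.card F = r ^ (2 * f) := by rw [hF, hq, ← pow_mul, mul_comm]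
  have hpf : p ∣ f := (Nat.coprime_two_right.2 hpo).dvd_of_dvd_mul_left
    (hord ▸ Known.FieldLight.order_dvd hF' σ)
  have hdiv : 2 * f / p = 2 * (f / p) := Nat.mul_div_assoc 2 hpf
  set m := f / p with hm
  have hm0 : m ≠ 0 := fun h0 => by
    have := Nat.div_mul_cancel hpf
    rw [← hm, h0, zero_mul] at this
    omega
  let k := GaloisField r (2 * m)
  letI : Fintype k := Fintype.ofFinite k
  have hcard : Fintype.card k = r ^ (2 * m) := by
    rw [← Nat.card_eq_fintype_card]; exact GaloisField.card r (2 * m) (by omega)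
  obtain ⟨e₀, hfix⟩ := Known.FieldLight.exists_fixed_hom hF' hord k (by rw [hcard, hdiv])
  set q0 := r ^ m with hq0
  have hK0 : Fintype.card k = q0 ^ 2 := by rw [hcard, hq0, ← pow_mul, mul_comm]
  have hqq : q = q0 ^ p := by rw [hq, hq0, ← pow_mul, hm, Nat.div_mul_cancel hpf]
  obtain ⟨t, ht⟩ := hpo
  have hconj : ∀ y : k, e₀ (powConj hK0 y) = powConj hF (e₀ y) := fun y => by
    rw [powConj_apply, powConj_apply, ← map_pow, hqq, ht, pow_pow_odd hK0]
  let ι' : Cfsg.GU n k q0 →* GUn := embU hK0 hF e₀ hconj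
  have hι'coe : ∀ b, (((ι' b : GUn) : GLn) : Mn) = ((b : GL (Fin n) k) : Matrix (Fin n) (Fin n) k).map e₀ :=
    fun b => rfl
  have hdet : ∀ b, ((ι' b : GLn) : Mn).det = e₀ ((b : GL (Fin n) k) : Matrix (Fin n) (Fin n) k).det := fun b => by
    rw [hι'coe]; exact (RingHom.map_det e₀ _).symm
  let φ0 : Cfsg.SU n k q0 →* MulAut Qn := ((conjU : GUn →* MulAut Qn).comp ι').comp suToGU
  have hfixι : ∀ b, guAut σ (ι' b) = ι' b := fun b => gu_ext (Matrix.ext fun i j => (hfix _).2 ⟨_, rfl⟩)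
  have hscal : ∀ b : Cfsg.GU n k q0, (conjU (ι' b) : MulAut Qn) = 1 ↔
      ∃ c : k, ((b : GL (Fin n) k) : Matrix (Fin n) (Fin n) k) = c • 1 := fun b => by
    constructor
    · intro h
      obtain ⟨u, hu⟩ := (conjU_eq_one_iff hF hn _).1 h
      have hu' : ∀ i j, e₀ (((b : GL (Fin n) k) : Matrix (Fin n) (Fin n) k) i j) = (((u : Fˣ) : F) • (1 : Mn)) i j :=
        fun i j => by rw [← coe_scU hF, ← hu]; rfl
      let o : Fin n := ⟨0, by omega⟩
      refine ⟨((b : GL (Fin n) k) : Matrix (Fin n) (Fin n) k) o o, Matrix.ext fun i j => e₀.injective ?_⟩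
      have hoo := hu' o o
      rw [Matrix.smul_apply, Matrix.one_apply_eq, smul_eq_mul, mul_one] at hoo
      by_cases hij : i = j
      · subst hij; simp [hu', hoo]
      · simp [hu', hij]
    · rintro ⟨c, hc⟩
      refine scalarU hF (by omega) (μ := e₀ c) ?_
      rw [hι'coe, hc]
      ext i j
      by_cases hij : i = j <;> simp [hij]
  have hker : φ0.ker = Subgroup.center _ := by
    ext s
    rw [MonoidHom.mem_ker, su_center_iff hK0 (by omega)]
    exact hscal (suToGU s)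
  set K := φ0.range with hKdef
  let eK : Cfsg.PSU n k q0 ≃* K :=
    (QuotientGroup.quotientMulEquivOfEq hker.symm).trans (QuotientGroup.quotientKerEquivRange φ0)
  have hKc : NoCore p K := by
    by_cases h32 : n = 3 ∧ q0 = 2
    · obtain ⟨rfl, h2⟩ := h32
      refine (NoCore.equiv ?_ eK)
      have hk4 : Fintype.card k = 4 := by rw [hK0, h2]; rfl
      obtain ⟨hnt, hcore⟩ : NoCore 3 (Cfsg.PSU 3 k q0) := h2.symm ▸ noCore_psu32 hk4
      refine ⟨hnt, fun hd N hN hc => ?_⟩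
      have h72 : Nat.card (Cfsg.PSU 3 k q0) = 72 := by rw [h2]; exact UThreeTwo.card_psu hk4
      obtain rfl : p = 3 := by
        rw [h72, show 72 = 2 ^ 3 * 3 ^ 2 by norm_num] at hd
        rcases (Fact.out : p.Prime).dvd_mul.1 hd with h | h
        · have := (Nat.prime_dvd_prime_iff_eq Fact.out Nat.prime_two).1 ((Fact.out : p.Prime).dvd_of_dvd_pow h)
          omega
        · exact (Nat.prime_dvd_prime_iff_eq Fact.out Nat.prime_three).1 ((Fact.out : p.Prime).dvd_of_dvd_pow h)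
      exact hcore hd N hN hc
    · exact (noCore_of_simple (su_quot_simple hK0 hn h32)).equiv eK
  have hKinn : K ≤ fixInn (fieldU σ) := by
    rintro _ ⟨s, rfl⟩
    refine ⟨inn_of_detU hF (g := ι' (suToGU s)) ?_, Subgroup.mem_centralizer_singleton_iff.2 ?_⟩
    · rw [hdet]
      show e₀ (smat s).det = 1
      rw [show (smat s).det = 1 from (s : Matrix.SpecialLinearGroup (Fin n) k).2, map_one]
    · show conjU (ι' (suToGU s)) * fieldU σ = fieldU σ * conjU (ι' (suToGU s))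
      rw [fieldU_mul_conjU, hfixι]
  have hsub : ∀ c ∈ fixInn (fieldU σ : MulAut Qn), ∃ b, c = conjU (ι' b) := by
    rintro c ⟨hi, hc⟩
    obtain ⟨s, rfl⟩ := (inn_iff c).1 hi
    have h := Subgroup.mem_centralizer_singleton_iff.1 hc
    rw [fieldU_mul_conjU, mul_left_inj] at h
    obtain ⟨u, hu⟩ := conjU_rel hF hn h.symm
    have hu0 : u ≠ 0 := fun h0 => by
      haveI : Nonempty (Fin n) := ⟨⟨0, by omega⟩⟩
      rw [h0, zero_smul] at hu
      exact ((guAut σ (suToGU s) : GUn) : GLn).isUnit.ne_zero hu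
    obtain ⟨c, b, hb⟩ := desc hK0 hF e₀ hconj (by omega) hfix (suToGU s) ⟨u, hu0, by rw [← coe_guAut]; exact hu⟩
    exact ⟨b, by rw [hb, map_mul, conjU_scU, one_mul]⟩
  refine ⟨K, hKinn, hKc, ?_, fun hdvd => ?_, fun y hy => ?_⟩
  · rintro c hc _ ⟨s, rfl⟩
    obtain ⟨b, rfl⟩ := hsub c hc
    refine ⟨conjSU b s, ?_⟩
    show conjU (ι' (suToGU (conjFun b s))) = conjU (ι' b) * conjU (ι' (suToGU s)) * (conjU (ι' b))⁻¹
    rw [suToGU_conjFun, map_mul, map_mul, map_mul, map_mul, map_inv, map_inv]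
  · by_cases hpk : p ∣ q0 + 1
    · obtain ⟨z, hz⟩ := exists_prime_orderOf_dvd_card' (G := N1 hK0) p (by rw [card_N1]; exact hpk)
      let o : Fin n := ⟨0, by omega⟩
      let l : Fin n := ⟨1, by omega⟩
      let t : Fin n := ⟨2, by omega⟩
      let v : Fin n → N1 hK0 := Pi.mulSingle o z * Pi.mulSingle l z⁻¹
      have hprod : ∏ i, v i = 1 := by simp [v, Finset.prod_mul_distrib, Finset.prod_pi_mulSingle']
      obtain ⟨d, hd⟩ := exists_su_diag hK0 (fun i => (((v i : kˣ)) : k))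
        (fun i => by rw [mul_comm]; exact (mem_N1 hK0 _).1 (v i).2)
        (by rw [← Units.coe_prod, ← SubmonoidClass.coe_finsetProd, hprod]; rfl)
      have hv : ∀ i, v i ^ p = 1 := fun i => by
        show (Pi.mulSingle (M := fun _ => N1 hK0) o z * Pi.mulSingle l z⁻¹ : Fin n → N1 hK0) i ^ p = 1
        rw [Pi.mul_apply, mul_pow]
        by_cases h1 : i = o <;> by_cases h2 : i = l <;>
          simp [Pi.mulSingle_apply, h1, h2, ← hz, pow_orderOf_eq_one]
      have hdp : d ^ p = 1 := su_ext (by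
        have : smat (d ^ p) = smat d ^ p := by
          rw [smat, SubgroupClass.coe_pow, Matrix.SpecialLinearGroup.coe_pow]
        rw [this, hd, diagonal_pow]
        show _ = (1 : Matrix (Fin n) (Fin n) k)
        rw [← diagonal_one]
        congr 1
        funext i
        rw [Pi.pow_apply, ← Units.val_pow_eq_pow_val, ← SubgroupClass.coe_pow, hv]
        rfl)
      have hne : φ0 d ≠ 1 := fun h => by
        obtain ⟨c, hc⟩ := (su_center_iff hK0 (by omega) d).1 (hker ▸ MonoidHom.mem_ker.2 h)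
        rw [hd] at hc
        have ho := congrFun (congrFun hc o) o
        have ht := congrFun (congrFun hc t) t
        simp [v, o, l, t] at ho ht
        rw [← ht] at ho
        have hz1 : z = 1 := Subtype.ext (Units.ext ho)
        rw [hz1, orderOf_one] at hz
        exact (Fact.out : p.Prime).ne_one hz.symm
      have hord' : orderOf (φ0 d) = p := orderOf_eq_prime (by rw [← map_pow, hdp, map_one]) hne
      rw [← hord', ← Subgroup.orderOf_mk (φ0 d) (show φ0 d ∈ K from ⟨d, rfl⟩)]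
      exact orderOf_dvd_natCard _
    · obtain ⟨⟨c, hc'⟩, hco⟩ := exists_prime_orderOf_dvd_card' p hdvd
      rw [Subgroup.orderOf_mk] at hco
      obtain ⟨b, rfl⟩ := hsub c hc'
      have hb : conjU (ι' b) ^ (q0 + 1) ∈ K := by
        obtain ⟨s, hs⟩ := exists_su_of_det hK0 (g := b ^ (q0 + 1)) (by
          rw [map_pow, ← card_N1 hK0, pow_card_eq_one'])
        exact ⟨s, by show conjU (ι' (suToGU s)) = _; rw [← hs, map_pow, map_pow]⟩
      obtain ⟨i, hi⟩ := exists_pow_eq_self_of_coprime (x := (conjU (ι' b) : MulAut Qn)) (n := q0 + 1)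
        (by rw [hco]; exact ((Fact.out : p.Prime).coprime_iff_not_dvd.2 hpk).symm)
      have hmem : conjU (ι' b) ∈ K := hi ▸ pow_mem hb i
      rw [← hco, ← Subgroup.orderOf_mk (conjU (ι' b)) hmem]
      exact orderOf_dvd_natCard _
  · have hs' : n = 3 → 3 ≤ q := fun _ => by
      have h2 := (Fact.out : p.Prime).two_le
      have h2r := (Fact.out : r.Prime).two_le
      calc 3 ≤ 2 ^ p := le_trans (by norm_num) (Nat.pow_le_pow_right two_pos h2)
        _ ≤ q0 ^ p := Nat.pow_le_pow_left (h2r.trans (Nat.le_self_pow hm0 r)) p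
        _ = q := hqq.symm
    haveI := charP_of_card (F := F) hq hF
    obtain ⟨g, τ, rfl⟩ := exists_decomp r hF hn hs' y
    obtain ⟨μ, -, hμ, hτ⟩ := su_lines hK0 (e₀ := e₀) (τ := τ) hn (g := ((g : GLn) : Mn)) (g : GLn).isUnit fun s => by
      obtain ⟨u, hu⟩ := comm_fieldU hF hn (Subgroup.mem_centralizer_iff.1 hy _ ⟨s, rfl⟩)
      exact ⟨u, hu⟩
    rw [scalarU hF (by omega) hμ, one_mul]
    obtain ⟨i, rfl⟩ := mem_zpowers_of_fix hfix hτ
    exact ⟨i, by rw [map_zpow]⟩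

/-- Semilinear maps centralising the special isometries of a symmetric or alternating form up to scalars. -/
theorem so_rigid {k : Type v} [Field k] [Fintype k] (hn : 3 ≤ n) (h2 : (2 : k) ≠ 0) {C : GL (Fin n) k}
    (hC : (C : Matrix (Fin n) (Fin n) k)ᵀ = C ∨ (C : Matrix (Fin n) (Fin n) k)ᵀ = -C) {e₀ : k →+* F} {g : Mn}
    {τ : F ≃+* F} (hg : IsUnit g)
    (hrel : ∀ s ∈ soGrp (C : Matrix (Fin n) (Fin n) k), ∃ u : F,
      g * ((s : Matrix (Fin n) (Fin n) k).map e₀).map τ = u • ((s : Matrix (Fin n) (Fin n) k).map e₀ * g)) :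
    ∃ μ : F, μ ≠ 0 ∧ g = μ • 1 ∧ ∀ a, τ (e₀ a) = e₀ a := by
  classical
  set D : Matrix (Fin n) (Fin n) k := ((C : GL (Fin n) k) : Matrix (Fin n) (Fin n) k)
  have hd : D.det ≠ 0 := GeneralLinearGroup.det_ne_zero C
  rcases hC with hC | hC
  · exact symm_rigid h2 hC hd hn hg fun e z _ he hz => by
      obtain ⟨t, htO, ht⟩ := exists_orth hd (siegelS_isometry h2 hC he hz)
      obtain ⟨u, hu⟩ := hrel t ⟨htO, MonoidHom.mem_ker.2 (Units.ext (by
        show (t : Matrix (Fin n) (Fin n) k).det = 1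
        rw [ht, det_siegelS h2 hC hd he hz]))⟩
      exact ⟨u, by rwa [ht] at hu⟩
  · exact all_lines (by omega) hg fun v hv0 => by
      have hvv : v ⬝ᵥ (D *ᵥ v) = 0 := Known.AutPSLn.Invol.alt_of_neg h2 (A := C) hC v
      have hp : (D *ᵥ v) ⬝ᵥ v = 0 := by rw [dotProduct_comm]; exact hvv
      have hCv : D *ᵥ v ≠ 0 := fun h0 => hd (Matrix.exists_mulVec_eq_zero_iff.1 ⟨v, hv0, h0⟩)
      set t : GL (Fin n) k := Matrix.SpecialLinearGroup.toGL (rankOne v (D *ᵥ v) hp 1)
      have ht : (t : Matrix (Fin n) (Fin n) k) = 1 + vecMulVec v (D *ᵥ v) :=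
        (coe_rankOne _ _ hp 1).trans (by rw [one_smul])
      have hb : ∀ x, formOf D x v = -formOf D v x := fun x => by
        rw [← Known.AutPSLn.Invol.formOf_transpose, hC, ← neg_one_smul k D, Known.AutPSLn.Invol.formOf_smul,
          neg_one_mul]
      have htO : t ∈ orthGrp D := Known.AutPSLn.Invol.formOf_ext fun x y => by
        rw [← Known.AutPSLn.Invol.formOf_mulVec, ht, add_mulVec, add_mulVec, one_mulVec, one_mulVec,
          vecMulVec_mulVec, vecMulVec_mulVec, op_smul_eq_smul, op_smul_eq_smul]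
        simp only [formOf, mulVec_add, mulVec_smul, dotProduct_add, add_dotProduct, smul_dotProduct,
          dotProduct_smul, smul_eq_mul, hvv]
        rw [dotProduct_comm (D *ᵥ v) x, dotProduct_comm (D *ᵥ v) y,
          show y ⬝ᵥ (D *ᵥ v) = -(v ⬝ᵥ (D *ᵥ y)) from hb y]
        ring
      obtain ⟨u, hu⟩ := hrel t ⟨htO, MonoidHom.mem_ker.2 (Units.ext (rankOne v (D *ᵥ v) hp 1).2)⟩
      rw [ht] at hu
      exact line_of_transv hg hCv hp hv0 hCv hp hu

set_option maxHeartbeats 1000000 in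
/-- The data of an involutory graph automorphism. -/
theorem psu_graph (hF : Fintype.card F = q ^ 2) (hn : 3 ≤ n) (hs : n = 3 → 3 ≤ q) {r : ℕ} [Fact r.Prime]
    [CharP F r] (h2 : (2 : F) ≠ 0) {A : GUn}
    (hA : ((A : GLn) : Mn)ᵀ = (A : GLn) ∨ ((A : GLn) : Mn)ᵀ = -((A : GLn) : Mn)) :
    Data 2 (gamU hF A : MulAut Qn) := by
  classical
  haveI : Fact (Nat.Prime 2) := ⟨Nat.prime_two⟩
  let L := fixedField (powConj hF)
  letI : Fintype L := Fintype.ofFinite L
  let ι : L →+* F := (fixedField (powConj hF)).subtype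
  have hι : ∀ x, powConj hF x = x ↔ x ∈ Set.range ι := fun x =>
    ⟨fun hx => ⟨⟨x, hx⟩, rfl⟩, by rintro ⟨a, rfl⟩; exact a.2⟩
  have h2L : (2 : L) ≠ 0 := fun h => h2 (by rw [← map_ofNat ι 2, h, map_zero])
  obtain ⟨ε, ε₀, hε, hεe, hAt, hε0⟩ : ∃ (ε : F) (ε₀ : L), (ε = 1 ∨ ε = -1) ∧ ι ε₀ = ε ∧
      ((A : GLn) : Mn)ᵀ = ε • ((A : GLn) : Mn) ∧ (ε₀ = 1 ∨ ε₀ = -1) := by
    rcases hA with h | h
    · exact ⟨1, 1, .inl rfl, map_one ι, by rw [h, one_smul], .inl rfl⟩
    · exact ⟨-1, -1, .inr rfl, by rw [map_neg, map_one], by rw [h, neg_one_smul], .inr rfl⟩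
  obtain ⟨G, X, la, d, hG, hD⟩ := Invol.exists_desc hF ι (by omega) A hε hεe hι hAt
  obtain ⟨hla, hd0, hX, hXG⟩ := hD
  have hG' : (G : Matrix (Fin n) (Fin n) L)ᵀ = G ∨ (G : Matrix (Fin n) (Fin n) L)ᵀ = -G := by
    rcases hε0 with h | h <;> rw [h] at hG
    · exact .inl (by rw [hG, one_smul])
    · exact .inr (by rw [hG, neg_one_smul])
  set GM : Matrix (Fin n) (Fin n) L := ((G : GL (Fin n) L) : Matrix (Fin n) (Fin n) L)
  let j : GL (Fin n) L →* GLn := (MulAut.conj X).toMonoidHom.comp (GeneralLinearGroup.map ι)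
  have hjX : ∀ M : GL (Fin n) L,
      ((j M : GLn) : Mn) * (X : Mn) = (X : Mn) * ((M : GL (Fin n) L) : Matrix (Fin n) (Fin n) L).map ι := fun M => by
    rw [← Units.val_mul]
    show ((X * GeneralLinearGroup.map ι M * X⁻¹ * X : GLn) : Mn) = _
    rw [inv_mul_cancel_right, Units.val_mul]
    rfl
  have hbX : IsUnit (bar hF (X : Mn)) := (GeneralLinearGroup.map (powConj hF) X).isUnit
  have hmem : ∀ M : soGrp GM, j (M : GL (Fin n) L) ∈ Cfsg.GU n F q := fun M => by
    rw [UnitaryConj.mem_GU hF]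
    show (bar hF ((j M : GLn) : Mn))ᵀ * ((j M : GLn) : Mn) = 1
    refine ((Matrix.isUnit_transpose _).2 hbX).mul_left_cancel (X.isUnit.mul_right_cancel ?_)
    set Mi : Mn := ((M : GL (Fin n) L) : Matrix (Fin n) (Fin n) L).map ι
    calc (bar hF (X : Mn))ᵀ * ((bar hF ((j M : GLn) : Mn))ᵀ * ((j M : GLn) : Mn)) * (X : Mn)
        = (bar hF (((j M : GLn) : Mn) * (X : Mn)))ᵀ * (((j M : GLn) : Mn) * (X : Mn)) := by
          rw [Invol.bar_mul, transpose_mul]; simp only [mul_assoc]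
      _ = (bar hF Mi)ᵀ * ((bar hF (X : Mn))ᵀ * (X : Mn)) * Mi := by
          rw [hjX, Invol.bar_mul, transpose_mul]; simp only [mul_assoc]; rfl
      _ = d • GM.map ι := by
          rw [hXG, show bar hF Mi = Mi from Invol.bar_map hF ι hι _, mul_smul_comm, smul_mul_assoc, ← transpose_map,
            ← Matrix.map_mul, ← Matrix.map_mul, mem_orthGrp.1 M.2.1]
      _ = _ := by rw [mul_one, hXG]
  let ψ : soGrp GM →* GUn := (j.comp (soGrp GM).subtype).codRestrict (Cfsg.GU n F q) hmem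
  have hψX : ∀ M, ((ψ M : GLn) : Mn) * (X : Mn) =
      (X : Mn) * ((M : GL (Fin n) L) : Matrix (Fin n) (Fin n) L).map ι := fun M => hjX _
  have hψA : ∀ M, ψ M * A = A * guAut (tauE hF) (ψ M) := fun M => gu_ext (by
    rw [coe_gu_mul, coe_gu_mul, Invol.coe_guAut_tau]
    refine hbX.mul_right_cancel (smul_right_injective _ hla ?_)
    show la • (_ * _ * _) = la • (_ * _ * _)
    rw [mul_assoc, ← mul_smul_comm, hX, hψX, mul_assoc, ← Invol.bar_mul, hψX, Invol.bar_mul,
      Invol.bar_map hF ι hι, ← mul_assoc, ← smul_mul_assoc, hX])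
  let φ : soGrp GM →* MulAut Qn := (conjU : GUn →* MulAut Qn).comp ψ
  have hker : φ.ker = soScal GM := by
    ext M
    rw [MonoidHom.mem_ker, Subgroup.mem_subgroupOf, GeneralLinearGroup.mem_center_iff_val_mem_range_scalar]
    constructor
    · intro h
      obtain ⟨u, hu⟩ := (conjU_eq_one_iff hF hn _).1 h
      have e : ((M : GL (Fin n) L) : Matrix (Fin n) (Fin n) L).map ι = ((u : Fˣ) : F) • 1 := by
        refine X.isUnit.mul_left_cancel ?_
        rw [← hψX, hu, coe_scU, smul_mul_assoc, one_mul, mul_smul_comm, mul_one]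
      let o : Fin n := ⟨0, by omega⟩
      refine ⟨((M : GL (Fin n) L) : Matrix (Fin n) (Fin n) L) o o, Matrix.map_injective ι.injective ?_⟩
      show (Matrix.scalar (Fin n) _).map ι = ((M : GL (Fin n) L) : Matrix (Fin n) (Fin n) L).map ι
      rw [scalar_apply, diagonal_map (map_zero ι), e, smul_one_eq_diagonal]
      congr 1
      funext i
      have := congrFun (congrFun e o) o
      simpa using this
    · rintro ⟨c, hc⟩
      refine scalarU hF (by omega) (μ := ι c) (X.isUnit.mul_right_cancel ?_)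
      rw [hψX, ← hc, scalar_apply, diagonal_map (map_zero ι), smul_mul_assoc, one_mul, ← smul_one_eq_diagonal,
        mul_smul_comm, mul_one]
  set K := φ.range with hKdef
  have hKc : NoCore 2 K ∧ 2 ∣ Nat.card K := by
    rcases hG' with hG' | hG'
    · exact noCore_so h2L hG' (GeneralLinearGroup.det_ne_zero G) hn φ hker
    · obtain ⟨h1, h3⟩ := alt_core hn h2L (C := G) hG'
      set φ' := (conjP : GL (Fin n) L →* _).comp (soGrp GM).subtype
      have hr : φ'.range = (soGrp GM).map conjP := by rw [MonoidHom.range_comp, Subgroup.range_subtype]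
      have hk' : φ'.ker = φ.ker := by
        rw [hker]
        ext g
        rw [MonoidHom.mem_ker, Subgroup.mem_subgroupOf]
        exact Known.AutPSLn.conjP_eq_one_iff (by omega) (g : GL (Fin n) L)
      let e : ↥((soGrp GM).map conjP) ≃* K := (MulEquiv.subgroupCongr hr.symm).trans
        ((QuotientGroup.quotientKerEquivRange φ').symm.trans
          ((QuotientGroup.quotientMulEquivOfEq hk').trans (QuotientGroup.quotientKerEquivRange φ)))
      exact ⟨(noCore_of_simple h1).equiv e, by rw [← Nat.card_congr e.toEquiv]; exact h3⟩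
  have hKx : K ≤ fixInn (gamU hF A) := by
    rintro _ ⟨M, rfl⟩
    refine ⟨inn_of_detU hF ?_, Subgroup.mem_centralizer_singleton_iff.2 ?_⟩
    · show ((X * GeneralLinearGroup.map ι (M : GL (Fin n) L) * X⁻¹ : GLn) : Mn).det = 1
      have hM : ((M : GL (Fin n) L) : Matrix (Fin n) (Fin n) L).det = 1 := congrArg Units.val (MonoidHom.mem_ker.1 M.2.2)
      rw [Units.val_mul, Units.val_mul, det_units_conj]
      show (((M : GL (Fin n) L) : Matrix (Fin n) (Fin n) L).map ι).det = 1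
      rw [← RingHom.mapMatrix_apply, ← RingHom.map_det, hM, map_one]
    · show conjU (ψ M) * gamU hF A = gamU hF A * conjU (ψ M)
      rw [gamU, mul_assoc (conjU A), fieldU_mul_conjU, ← mul_assoc, ← mul_assoc, ← map_mul, ← map_mul, hψA]
  refine ⟨K, hKx, hKc.1, ?_, fun _ => hKc.2, fun y hy => ?_⟩
  · rintro c ⟨hi, hc⟩ _ ⟨M, rfl⟩
    obtain ⟨s, rfl⟩ := (inn_iff c).1 hi
    obtain ⟨u, hu⟩ := (Invol.comm_iffU hF hn _ A).1 (Subgroup.mem_centralizer_singleton_iff.1 hc)
    obtain ⟨M', c, z, hz, hM', hsX, -⟩ := Invol.sim_of_conj hF hι (by omega) ⟨hla, hd0, hX, hXG⟩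
      ⟨hla, hd0, hX, hXG⟩ hu
    have hc0 : (c : L) ≠ 0 := c.ne_zero
    have hN : M' * (M : GL (Fin n) L) * M'⁻¹ ∈ soGrp GM := by
      refine ⟨?_, MonoidHom.mem_ker.2 (by
        rw [map_mul, map_mul, map_inv, MonoidHom.mem_ker.1 M.2.2, mul_one, mul_inv_cancel])⟩
      show _ ∈ orthGrp GM
      rw [mem_orthGrp]
      have hi : ((M'⁻¹ : GL (Fin n) L) : Matrix (Fin n) (Fin n) L)ᵀ * GM *
          ((M'⁻¹ : GL (Fin n) L) : Matrix (Fin n) (Fin n) L) = (c : L)⁻¹ • GM := by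
        refine smul_right_injective _ hc0 ?_
        show (c : L) • _ = (c : L) • _
        rw [smul_smul, mul_inv_cancel₀ hc0, one_smul, ← smul_mul_assoc, ← mul_smul_comm, ← hM', ← mul_assoc,
          ← mul_assoc, ← transpose_mul, Units.mul_inv, transpose_one, one_mul, mul_assoc, Units.mul_inv, mul_one]
      rw [Units.val_mul, Units.val_mul, transpose_mul, transpose_mul]
      generalize hI : ((M'⁻¹ : GL (Fin n) L) : Matrix (Fin n) (Fin n) L) = I at hi ⊢
      generalize hP : ((M' : GL (Fin n) L) : Matrix (Fin n) (Fin n) L) = P at hM' ⊢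
      have hMo := mem_orthGrp.1 M.2.1
      generalize hQ : ((M : GL (Fin n) L) : Matrix (Fin n) (Fin n) L) = Q at hMo ⊢
      calc Iᵀ * (Qᵀ * Pᵀ) * GM * (P * Q * I) = Iᵀ * (Qᵀ * (Pᵀ * GM * P) * Q) * I := by simp only [mul_assoc]
        _ = (c : L) • (Iᵀ * (Qᵀ * GM * Q) * I) := by rw [hM']; simp only [mul_smul_comm, smul_mul_assoc]; rfl
        _ = GM := by rw [hMo, hi, smul_smul, mul_inv_cancel₀ hc0, one_smul]
    refine ⟨⟨_, hN⟩, ?_⟩
    show conjU (ψ ⟨_, hN⟩) = conjU (suToGU s) * conjU (ψ M) * (conjU (suToGU s))⁻¹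
    rw [eq_mul_inv_iff_mul_eq, ← map_mul, ← map_mul]
    refine congrArg conjU (gu_ext (X.isUnit.mul_right_cancel ?_))
    rw [coe_gu_mul, coe_gu_mul, mul_assoc, hsX, mul_smul_comm, ← mul_assoc, hψX, mul_assoc _ ((ψ M : GLn) : Mn), hψX,
      ← mul_assoc, hsX, smul_mul_assoc, mul_assoc (X : Mn), mul_assoc (X : Mn), ← Matrix.map_mul, ← Matrix.map_mul,
      ← Units.val_mul, ← Units.val_mul]
    simp only [inv_mul_cancel_right]
  · obtain ⟨g, τ, rfl⟩ := exists_decomp r hF hn hs y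
    set g' : Mn := ((X⁻¹ : GLn) : Mn) * ((g : GLn) : Mn) * (X : Mn).map τ with hg'
    have hXg' : (X : Mn) * g' = ((g : GLn) : Mn) * (X : Mn).map τ := by
      rw [hg', ← mul_assoc, ← mul_assoc, Units.mul_inv, one_mul]
    have hgu : IsUnit g' := (((X⁻¹ : GLn)).isUnit.mul (g : GLn).isUnit).mul (GeneralLinearGroup.map (τ : F →+* F) X).isUnit
    obtain ⟨μ, hμ0, hμ, hτ⟩ := so_rigid hn h2L (C := G) hG' (e₀ := ι) (τ := τ) hgu fun M hM => by
      obtain ⟨u, hu⟩ := comm_fieldU hF hn (Subgroup.mem_centralizer_iff.1 hy _ ⟨⟨M, hM⟩, rfl⟩)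
      refine ⟨u, X.isUnit.mul_left_cancel ?_⟩
      rw [← mul_assoc, hXg', mul_smul_comm, ← mul_assoc, ← hψX ⟨M, hM⟩, mul_assoc, ← Matrix.map_mul (f := τ),
        ← hψX ⟨M, hM⟩, Matrix.map_mul, ← mul_assoc, hu, smul_mul_assoc, mul_assoc, ← hXg', ← mul_assoc, hψX,
        mul_assoc]
    rw [hμ, mul_smul_comm, mul_one] at hXg'
    obtain ⟨i, hi⟩ := mem_zpowers_of_fix (σ := tauE hF) (e := ι) hι hτ
    have h12 : τ = 1 ∨ τ = tauE hF := by
      have h2' : τ ^ 2 = 1 := by
        rw [show τ = tauE hF ^ i from hi.symm, ← zpow_natCast, ← _root_.zpow_mul, mul_comm, _root_.zpow_mul,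
          zpow_natCast, Invol.tauE_sq, _root_.one_zpow]
      by_cases h1 : τ = 1
      · exact .inl h1
      · exact .inr (Invol.eq_tauE hF (orderOf_eq_prime h2' h1))
    rcases h12 with rfl | rfl
    · refine ⟨0, ?_⟩
      show gamU hF A ^ (0 : ℤ) = _
      rw [zpow_zero, map_one, mul_one]
      refine (scalarU hF (by omega) (μ := μ) (X.isUnit.mul_right_cancel ?_)).symm
      rw [smul_mul_assoc, one_mul, hXg']
      congr 1
    · refine ⟨1, ?_⟩
      show gamU hF A ^ (1 : ℤ) = _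
      rw [zpow_one]
      refine (Invol.gamU_eq_iff hF hn A g).2 ⟨μ * la, hbX.mul_right_cancel ?_⟩
      rw [smul_mul_assoc, mul_smul, hX]
      exact hXg'.symm

/-- The criterion for `PSU_n`. -/
theorem psu_balance {r : ℕ} [Fact r.Prime] [CharP F r] (hF : Fintype.card F = q ^ 2) (hn : 3 ≤ n)
    (hK : IsSimpleGroup (Cfsg.PSU n F q)) (𝒢 : Subgroup (MulAut (Cfsg.PSU n F q)))
    (hinn : ∀ k : Cfsg.PSU n F q, MulAut.conj k ∈ 𝒢)
    {p : ℕ} [Fact p.Prime] (hpr : p ≠ r) (β : MulAut (Cfsg.PSU n F q)) (hord : orderOf β = p)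
    (hnot : ¬ Cfsg.IsInnerDiagonalAutPSU β) :
    Cfsg.pPrimeCore p ↥(𝒢 ⊓ Subgroup.centralizer {β}) ≠ ⊥ ↔
      ((∃ γ φ : MulAut (Cfsg.PSU n F q), Cfsg.IsInnerDiagonalAutPSU γ ∧
          (∃ σ : F ≃+* F, Cfsg.IsFieldAutPSUOf σ φ) ∧ β = φ.trans γ) ∧
        Nat.Coprime p (Nat.card ↥(MonoidHom.eqLocus β.toMonoidHom (MonoidHom.id (Cfsg.PSU n F q))))) := by
  classical
  have hp : p.Prime := Fact.out
  obtain ⟨e, hr, he⟩ := FiniteField.card F r
  obtain ⟨f, -, hq⟩ := (Nat.dvd_prime_pow hr).1 (he ▸ hF ▸ dvd_pow_self q two_ne_zero : q ∣ r ^ (e : ℕ))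
  have hf : 1 ≤ f := by
    by_contra h
    obtain rfl : f = 0 := by omega
    have := Fintype.one_lt_card (α := F)
    rw [hF, hq] at this
    simp at this
  have hs : n = 3 → 3 ≤ q := three_le_q hq hf (psu_three_two_not hF hK)
  haveI : Finite (Cfsg.PSU n F q) := Finite.of_surjective _ QuotientGroup.mk_surjective
  obtain ⟨g, σ, rfl⟩ := exists_decomp r hF hn hs β
  have hσ : σ ≠ 1 := fun h => hnot (innerDiag_iff.2 ⟨g, by rw [h, map_one, mul_one]⟩)
  have hleft : ∃ γ φ : MulAut (Cfsg.PSU n F q), Cfsg.IsInnerDiagonalAutPSU γ ∧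
      (∃ σ : F ≃+* F, Cfsg.IsFieldAutPSUOf σ φ) ∧ (conjU g : MulAut Qn) * fieldU σ = φ.trans γ :=
    ⟨conjU g, fieldU σ, innerDiag_iff.2 ⟨g, rfl⟩, ⟨σ, isFieldAut_fieldU σ⟩, rfl⟩
  rw [and_iff_right hleft]
  refine balance (psu_conj_inj hF hn) hinn hord ?_
  have hpow : ((conjU g : MulAut Qn) * fieldU σ) ^ p = 1 := hord ▸ pow_orderOf_eq_one _
  have hσp : σ ^ p = 1 := by
    rw [Known.AutPSLn.mul_twist_pow conjU (guAut σ) (fieldU σ) (fieldU_mul_conjU σ), ← map_pow] at hpow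
    exact (conjU_fieldU_eq_one hF hn hpow).2
  have hordσ : orderOf σ = p := orderOf_eq_prime hσp hσ
  rcases hp.eq_two_or_odd' with h | hpo
  · subst h
    have h2 : (2 : F) ≠ 0 := fun h => hpr (by
      have hd : r ∣ 2 := (CharP.cast_eq_zero_iff F r 2).1 (by exact_mod_cast h)
      exact ((Nat.prime_dvd_prime_iff_eq Fact.out Nat.prime_two).1 hd).symm)
    obtain rfl := Invol.eq_tauE hF hordσ
    exact psu_graph hF hn hs (r := r) h2 ((Invol.orderOf_gamU hF hn g).1 hord)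
  · obtain ⟨h, hh⟩ := field_case hF hn hσ (hordσ ▸ hpo) hp (by rw [← map_pow, hσp, map_one]) hpow
    rw [hh]
    exact (psu_field hF hn hpo hq hf hordσ).conj _

end Cfsg.Lib.Balance
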