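import Cfsg.Agent.Known.Balance.Generic
import Cfsg.Agent.Known.Balance.Galois
import Cfsg.Agent.Known.Sympl.TwoRank
import Cfsg.Agent.Known.Sympl.Descent
import Cfsg.Agent.Classical.Symp.Matrix
import Cfsg.Agent.Classical.Symp.SymEmbedding

/-!
Local balance at field automorphisms of `PSp (2m, q)`.
-/

set_option autoImplicit false
set_option linter.unusedSectionVars false
set_option linter.style.haveILetI false

namespace Cfsg.Lib.Balance

open Matrix Cfsg.Lib.Classical Cfsg.Lib.Sympl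

universe u v

theorem noCore_perm_six {p : ℕ} [Fact p.Prime] (hp : p ≠ 2) : NoCore p (Equiv.Perm (Fin 6)) := by
  refine ⟨inferInstance, fun hdvd N hN hc => ?_⟩
  haveI : IsSimpleGroup (alternatingGroup (Fin 6)) := alternatingGroup.isSimpleGroup (by simp)
  set A := alternatingGroup (Fin 6)
  have hA : p ∣ Nat.card A := by
    have h := two_mul_card_alternatingGroup (α := Fin 6)
    rw [← Nat.card_eq_fintype_card, ← Nat.card_eq_fintype_card] at h
    rw [← h] at hdvd
    exact ((Fact.out : p.Prime).dvd_mul.1 hdvd).resolve_left fun h2 =>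
      hp ((Nat.prime_dvd_prime_iff_eq Fact.out Nat.prime_two).1 h2)
  rcases (hN.comap A.subtype).eq_bot_or_eq_top with h | h
  · have hNA : N ⊓ A = ⊥ := by
      rw [show N.comap A.subtype = N.subgroupOf A from rfl, Subgroup.subgroupOf_eq_bot, disjoint_iff] at h
      exact h
    refine (Subgroup.eq_bot_iff_forall _).2 fun n hn => ?_
    have hcomm : ∀ a ∈ A, a * n = n * a := fun a ha => by
      have h1 : a * n * a⁻¹ * n⁻¹ ∈ N ⊓ A := ⟨mul_mem (hN.conj_mem n hn a) (N.inv_mem hn), by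
        rw [show a * n * a⁻¹ * n⁻¹ = a * (n * a⁻¹ * n⁻¹) by group]
        exact mul_mem ha ((inferInstance : A.Normal).conj_mem _ (A.inv_mem ha) n)⟩
      rw [hNA, Subgroup.mem_bot] at h1
      exact mul_inv_eq_iff_eq_mul.1 (mul_inv_eq_one.1 h1)
    by_contra hne
    obtain ⟨i, hi⟩ : ∃ i, n i ≠ i := by
      by_contra hh
      push Not at hh
      exact hne (Equiv.ext hh)
    obtain ⟨j, k, hij, hjk, hik, hjn, hkn⟩ : ∃ j k : Fin 6, i ≠ j ∧ j ≠ k ∧ i ≠ k ∧ j ≠ n i ∧ k ≠ n i := by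
      revert i; intro i _
      revert i
      generalize hn' : (n : Fin 6 → Fin 6) = nf
      intro i
      generalize nf i = t
      revert i t
      decide
    let a : Equiv.Perm (Fin 6) := Equiv.swap i j * Equiv.swap i k
    have ha : a ∈ A := by
      rw [Equiv.Perm.mem_alternatingGroup, map_mul, Equiv.Perm.sign_swap hij, Equiv.Perm.sign_swap hik]
      decide
    have h2 := congrArg (fun z : Equiv.Perm (Fin 6) => z i) (hcomm a ha)
    simp only [Equiv.Perm.mul_apply, a] at h2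
    rw [Equiv.swap_apply_of_ne_of_ne hi (Ne.symm hkn), Equiv.swap_apply_of_ne_of_ne hi (Ne.symm hjn),
      Equiv.swap_apply_left, Equiv.swap_apply_of_ne_of_ne hik.symm hjk.symm] at h2
    exact hik (n.injective h2)
  · exfalso
    have hle : A ≤ N := fun a ha => by
      have : (⟨a, ha⟩ : A) ∈ N.comap A.subtype := h ▸ Subgroup.mem_top _
      exact this
    exact (Fact.out : p.Prime).ne_one (Nat.eq_one_of_dvd_coprimes hc (hA.trans (Subgroup.card_dvd_of_le hle)) dvd_rfl)

variable {F : Type u} [Field F] [Fintype F] {m : ℕ}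

local notation "Vec" => (Fin m ⊕ Fin m → F)
local notation "Big" => Matrix (Fin m ⊕ Fin m) (Fin m ⊕ Fin m) F
local notation "GLB" => GL (Fin m ⊕ Fin m) F
local notation "Spm" => Matrix.symplecticGroup (Fin m) F
local notation "Pm" => Cfsg.PSp m F
local notation "GS" => Cfsg.GSp m F
local notation "π'" => QuotientGroup.mk' (Subgroup.center (Matrix.symplecticGroup (Fin m) F))
local notation "Bf" => sympBilin m F

theorem conj_inj_psp (hm : 2 ≤ m) (hs : m = 2 → 3 ≤ Nat.card F) :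
    Function.Injective (MulAut.conj : Pm →* MulAut Pm) := by
  classical
  haveI : IsSimpleGroup Pm := isSimpleGroup_symplectic_quotient hm hs
  rw [← MonoidHom.ker_eq_bot_iff]
  refine (MonoidHom.normal_ker (MulAut.conj : Pm →* _)).eq_bot_or_eq_top.resolve_right fun h => ?_
  let o : Fin m := ⟨0, by omega⟩
  have hne : (Pi.single (Sum.inl o) 1 : Vec) ≠ 0 := Pi.single_ne_zero_iff.2 one_ne_zero
  have hc := (R_commute_iff (w := (Pi.single (Sum.inr o) 1 : Vec)) hm hne).1 fun a _ b _ => by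
    have h1 : MulAut.conj a b = b := by
      rw [show MulAut.conj a = 1 from MonoidHom.mem_ker.1 (h ▸ Subgroup.mem_top a)]; rfl
    rw [MulAut.conj_apply, mul_inv_eq_iff_eq_mul] at h1
    exact h1
  rw [sympBilin_eq_sum, Finset.sum_eq_single o] at hc
  · simp at hc
  · intro j _ hj; simp [hj]
  · simp

/-- Automorphisms that are semilinear: those of odd order, and those fixing a transvection. -/
theorem psp_decomp (hm : 2 ≤ m) {r : ℕ} [Fact r.Prime] [CharP F r] (α : MulAut Pm)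
    (h : r = 2 → m = 2 → Odd (orderOf α) ∨ ∃ (v : Vec) (c : F), v ≠ 0 ∧ c ≠ 0 ∧ α (π' (tv v c)) = π' (tv v c)) :
    ∃ (g : GS) (σ : F ≃+* F), α = conjS g * fieldS σ := by
  by_cases h2 : (2 : F) = 0
  · have hr : r = 2 := by
      have hd : r ∣ 2 := (CharP.cast_eq_zero_iff F r 2).1 (by exact_mod_cast h2)
      exact (Nat.prime_dvd_prime_iff_eq Fact.out Nat.prime_two).1 hd
    subst hr
    rcases eq_or_lt_of_le hm with he | hlt
    · subst he
      rcases h rfl rfl with h' | ⟨v, c, hv, hc, h'⟩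
      · exact decomp_of_odd h'
      · exact decomp_of_fix ⟨v, c, hv, hc, rfl⟩ h'
    · exact exists_decomp_of_R hm (fun β _ hv => R_map_aut_two hlt β hv) α
  · exact exists_decomp_aut r hm h2 α

/-- The centraliser of the rational transvections. -/
theorem psp_rigid (hm : 2 ≤ m) {r : ℕ} [Fact r.Prime] [CharP F r] {F₀ : Type v} [Field F₀] {e₀ : F₀ →+* F}
    {σ : F ≃+* F} (hfix : ∀ x, σ x = x ↔ x ∈ Set.range e₀) {y : MulAut Pm}
    (hy : ∀ (v : Fin m ⊕ Fin m → F₀) (a : F₀), y (π' (tv (⇑e₀ ∘ v) (e₀ a))) = π' (tv (⇑e₀ ∘ v) (e₀ a))) :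
    y ∈ Subgroup.zpowers (fieldS σ : MulAut Pm) := by
  classical
  let o : Fin m := ⟨0, by omega⟩
  let l : Fin m := ⟨1, by omega⟩
  have hsing : ∀ i, ⇑e₀ ∘ (Pi.single i 1 : Fin m ⊕ Fin m → F₀) = (Pi.single i 1 : Vec) := fun i => by
    funext k; by_cases h : k = i <;> simp [h]
  obtain ⟨g, τ, rfl⟩ := psp_decomp hm (r := r) y fun _ _ => Or.inr ⟨⇑e₀ ∘ Pi.single (Sum.inl o) 1, e₀ 1, by
    rw [hsing]; exact Pi.single_ne_zero_iff.2 one_ne_zero, by simp, hy _ 1⟩
  set A : Big := ((g : GLB) : Big)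
  have hpt : ∀ v : Fin m ⊕ Fin m → F₀, v ≠ 0 → ∃ d : F, A *ᵥ (τ ∘ (⇑e₀ ∘ v)) = d • (⇑e₀ ∘ v) := by
    intro v hv
    have hV : ⇑e₀ ∘ v ≠ 0 := fun h => hv (funext fun i => e₀.injective ((congrFun h i).trans (map_zero e₀).symm))
    have hmem : π' (tv (⇑e₀ ∘ v) (e₀ 1)) ∈ R (A *ᵥ (τ ∘ (⇑e₀ ∘ v))) := by
      rw [← tv_semi, ← hy v 1]
      exact ⟨_, mem_R.2 ⟨e₀ 1, rfl⟩, rfl⟩
    obtain ⟨c, hc⟩ := mem_R.1 hmem
    obtain ⟨x, hx⟩ : ∃ x : Vec, Bf x (⇑e₀ ∘ v) ≠ 0 := by
      by_contra hh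
      push Not at hh
      exact hV ((sympBilin_nondegenerate m F).2 _ hh)
    set V := ⇑e₀ ∘ v
    set W := A *ᵥ (τ ∘ V)
    by_cases hW : W ∈ Submodule.span F {V}
    · obtain ⟨d, hd⟩ := Submodule.mem_span_singleton.1 hW
      exact ⟨d, hd.symm⟩
    exfalso
    obtain ⟨x', hx', hxW⟩ : ∃ x' : Vec, Bf x' V ≠ 0 ∧ Bf x' W = 0 := by
      by_contra hh
      push Not at hh
      refine hW ?_
      have hle : ∀ y : Vec, Bf y W = 0 → Bf y V = 0 := fun y hy' => by
        by_contra hne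
        exact hh y hne hy'
      have hWne : W ≠ 0 := fun h0 => hW (h0 ▸ zero_mem _)
      obtain ⟨z, hz⟩ : ∃ z : Vec, Bf z W ≠ 0 := by
        by_contra h'
        push Not at h'
        exact hWne ((sympBilin_nondegenerate m F).2 _ h')
      have hV' : V = (Bf z V / Bf z W) • W := by
        refine sub_eq_zero.1 ((sympBilin_nondegenerate m F).2 _ fun y => ?_)
        have h1 := hle (y - (Bf y W / Bf z W) • z) (by
          rw [map_sub, LinearMap.sub_apply, map_smul, LinearMap.smul_apply, smul_eq_mul, div_mul_cancel₀ _ hz, sub_self])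
        rw [map_sub, LinearMap.sub_apply, map_smul, LinearMap.smul_apply, smul_eq_mul] at h1
        rw [map_sub, map_smul, smul_eq_mul]
        linear_combination h1
      generalize Bf z V / Bf z W = k at hV'
      have hne : k ≠ 0 := fun h0 => hV (by rw [hV', h0, zero_smul])
      exact Submodule.mem_span_singleton.2 ⟨k⁻¹, by rw [hV', smul_smul, inv_mul_cancel₀ hne, one_smul]⟩
    obtain ⟨z, hz, hzs⟩ : ∃ z : Spm, z ∈ Subgroup.center Spm ∧ tv W c * z = tv V (e₀ 1) :=
      (QuotientGroup.mk'_eq_mk' _).1 hc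
    obtain ⟨u, -, hu⟩ := center_scalar (F := F) (m := m) (by omega) hz
    have h1 := congrArg (fun t : Spm => (t : Big) *ᵥ x') hzs
    simp only [Submonoid.coe_mul, ← mulVec_mulVec, hu, mulVec_smul, tv_mulVec, hxW, mul_zero, zero_smul,
      add_zero, map_one, one_mul] at h1
    -- `x'` is moved only in the direction of `V`
    have h2 : (u - 1) • x' = Bf x' V • V := by rw [sub_smul, one_smul, h1]; abel
    have h3 := congrArg (fun t => Bf t V) h2
    simp only [map_smul, LinearMap.smul_apply, smul_eq_mul, sympBilin_isAlt m F V, mul_zero] at h3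
    rcases mul_eq_zero.1 h3 with h4 | h4
    · rw [h4, zero_smul] at h2
      exact hx' (by
        rcases smul_eq_zero.1 h2.symm with h5 | h5
        · exact h5
        · exact absurd h5 hV)
    · exact hx' h4
  have hint : ∀ i, τ ∘ (⇑e₀ ∘ (Pi.single i 1 : Fin m ⊕ Fin m → F₀)) = (Pi.single i 1 : Vec) := fun i => by
    funext k; by_cases h : k = i <;> simp [h]
  have hbas : ∀ i : Fin m ⊕ Fin m, ∃ d : F, A *ᵥ (Pi.single i 1 : Vec) = d • Pi.single i 1 := fun i => by
    obtain ⟨d, hd⟩ := hpt (Pi.single i 1) (Pi.single_ne_zero_iff.2 one_ne_zero)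
    rw [hint, hsing] at hd
    exact ⟨d, hd⟩
  choose d hd using hbas
  set D := d (Sum.inl o)
  have hD : ∀ j, d j = D := fun j => by
    rcases eq_or_ne j (Sum.inl o) with rfl | hj
    · rfl
    obtain ⟨s, hs⟩ := hpt (Pi.single j 1 + Pi.single (Sum.inl o) 1)
      (fun h => by simpa [hj] using congrFun h j)
    have e1 : ⇑e₀ ∘ (Pi.single j 1 + Pi.single (Sum.inl o) 1 : Fin m ⊕ Fin m → F₀) =
        (Pi.single j 1 + Pi.single (Sum.inl o) 1 : Vec) := by
      funext k; simp [Pi.single_apply, apply_ite e₀]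
    have e2 : τ ∘ (Pi.single j 1 + Pi.single (Sum.inl o) 1 : Vec) = (Pi.single j 1 + Pi.single (Sum.inl o) 1 : Vec) := by
      funext k; simp [Pi.single_apply, apply_ite τ]
    rw [e1, e2, mulVec_add, hd, hd] at hs
    have h1 := congrFun hs j
    have h2 := congrFun hs (Sum.inl o)
    simp [hj, Ne.symm hj] at h1 h2
    rw [h1, ← h2]
  have hA : ∀ w : Vec, A *ᵥ w = D • w := by
    have hlin : Matrix.mulVecLin A = D • LinearMap.id := by
      refine (Pi.basisFun F (Fin m ⊕ Fin m)).ext fun i => ?_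
      rw [Pi.basisFun_apply, Matrix.mulVecLin_apply, LinearMap.smul_apply, LinearMap.id_apply, hd, hD]
    exact fun w => LinearMap.congr_fun hlin w
  have hD0 : D ≠ 0 := fun h0 => by
    have := mulVec_injective_iff_isUnit.2 (Units.isUnit (g : GLB)) (a₁ := (Pi.single (Sum.inl o) 1 : Vec)) (a₂ := 0)
      (by show A *ᵥ _ = A *ᵥ _; rw [hA, hA, h0]; simp)
    simpa using congrFun this (Sum.inl o)
  have hτ : ∀ a, τ (e₀ a) = e₀ a := fun a => by
    have hol : o ≠ l := by simp [o, l]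
    obtain ⟨s, hs⟩ := hpt (Pi.single (Sum.inl o) 1 + Pi.single (Sum.inl l) a)
      (fun h => by simpa [hol] using congrFun h (Sum.inl o))
    rw [hA] at hs
    have h1 := congrFun hs (Sum.inl o)
    have h2 := congrFun hs (Sum.inl l)
    simp [hol, Ne.symm hol] at h1 h2
    rw [← h1] at h2
    exact mul_left_cancel₀ hD0 h2
  have hg : g = scal (Units.mk0 D hD0) := gs_ext (by
    rw [coe_scal]
    exact mat_ext fun w => by rw [smul_mulVec, one_mulVec]; exact hA w)
  obtain ⟨i, rfl⟩ := mem_zpowers_of_fix hfix hτ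
  exact ⟨i, by rw [hg, conjS_scal, one_mul, map_zpow]⟩

set_option maxHeartbeats 1000000 in
theorem psp_std (hm : 2 ≤ m) (hs : m = 2 → 3 ≤ Nat.card F) {r : ℕ} [Fact r.Prime] [CharP F r] {F₀ : Type v} [Field F₀] [Fintype F₀]
    {e₀ : F₀ →+* F} {σ : F ≃+* F} (hfix : ∀ x, σ x = x ↔ x ∈ Set.range e₀) {p : ℕ} [Fact p.Prime] (hpr : p ≠ r) :
    Data p (fieldS σ : MulAut Pm) := by
  classical
  set ψ : MulAut Pm := fieldS σ
  obtain ⟨ι', hι', hcen⟩ := exists_rational hm e₀ hfix
  set φ0 : Matrix.symplecticGroup (Fin m) F₀ →* MulAut Pm := (conjS.comp ι').comp spToGSp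
  have hsp : ∀ s : Matrix.symplecticGroup (Fin m) F₀, ∃ t : Spm,
      ι' (spToGSp s) = spToGSp t ∧ (t : Big) = (s : Matrix _ _ F₀).map e₀ := fun s => by
    have hmem : (s : Matrix _ _ F₀).map e₀ ∈ Matrix.symplecticGroup (Fin m) F := by
      have hJ : (Matrix.J (Fin m) F₀).map e₀ = Matrix.J (Fin m) F := by
        ext i j
        rcases i with i | i <;> rcases j with j | j <;> by_cases hh : i = j <;> simp [Matrix.J, hh]
      rw [mem_sp_iff, ← hJ, ← transpose_map, ← Matrix.map_mul, ← Matrix.map_mul, (mem_sp_iff _).1 s.2]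
    exact ⟨⟨_, hmem⟩, gs_ext (hι' _), rfl⟩
  have hinj := conj_inj_psp hm hs (F := F)
  have hker : φ0.ker = Subgroup.center (Matrix.symplecticGroup (Fin m) F₀) := by
    ext s
    obtain ⟨t, ht, hts⟩ := hsp s
    rw [MonoidHom.mem_ker, show φ0 s = MulAut.conj (π' t) by rw [← conjS_spToGSp, ← ht]; rfl,
      ← map_one (MulAut.conj : Pm →* _), hinj.eq_iff, ← MonoidHom.mem_ker, QuotientGroup.ker_mk']
    constructor
    · intro h
      refine Subgroup.mem_center_iff.2 fun u => ?_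
      obtain ⟨w, -, hwu⟩ := hsp u
      have h1 := congrArg (fun z : Spm => (z : Big)) (Subgroup.mem_center_iff.1 h w)
      simp only [Submonoid.coe_mul, hts, hwu, ← Matrix.map_mul] at h1
      exact Subtype.ext (Matrix.map_injective e₀.injective h1)
    · intro h
      obtain ⟨c, -, hc⟩ := center_scalar (F := F₀) (m := m) (by omega) h
      have hcmat : (s : Matrix (Fin m ⊕ Fin m) (Fin m ⊕ Fin m) F₀) = c • 1 :=
        mat_ext fun x => by rw [hc, smul_mulVec, one_mulVec]
      have htmat : (t : Big) = e₀ c • 1 := by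
        rw [hts, hcmat]; ext i j; simp [Matrix.one_apply, apply_ite e₀]
      refine Subgroup.mem_center_iff.2 fun u => Subtype.ext ?_
      simp [htmat]
  set K := φ0.range
  let eK : Cfsg.PSp m F₀ ≃* K :=
    (QuotientGroup.quotientMulEquivOfEq hker.symm).trans (QuotientGroup.quotientKerEquivRange φ0)
  have hKn : NoCore p K := by
    refine NoCore.equiv ?_ eK
    by_cases hq : m = 2 → 3 ≤ Nat.card F₀
    · exact noCore_of_simple (isSimpleGroup_symplectic_quotient hm hq)
    push Not at hq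
    obtain ⟨rfl, hq⟩ := hq
    have h1 : Fintype.card F₀ = 2 := by
      have := Fintype.one_lt_card (α := F₀)
      rw [Nat.card_eq_fintype_card] at hq
      omega
    haveI : CharP F₀ 2 := charP_of_card_eq_prime_pow (p := 2) (f := 1) (by rw [h1]; rfl)
    haveI : CharP F 2 := charP_of_injective_ringHom e₀.injective 2
    have hr : r = 2 := CharP.eq F ‹CharP F r› ‹CharP F 2›
    obtain ⟨e⟩ := SymEmbedding.six (F := F₀) h1
    refine (noCore_perm_six (p := p) (by rw [← hr]; exact hpr)).equiv (e.symm.trans ?_)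
    exact MulEquiv.ofBijective (QuotientGroup.mk' _) ⟨π_injective (F := F₀) (m := 2) (by omega),
      QuotientGroup.mk'_surjective _⟩
  have hKinn : K ≤ Cfsg.Inn Pm := by
    rintro _ ⟨s, rfl⟩
    obtain ⟨t, ht, -⟩ := hsp s
    exact (inn_iff _).2 ⟨t, by rw [← ht]; rfl⟩
  have hKx : K ≤ Subgroup.centralizer {ψ} := by
    rintro _ ⟨s, rfl⟩
    exact (hcen _).2 ⟨1, spToGSp s, by rw [scal_one, one_mul]⟩
  have hsub : ∀ c ∈ fixInn ψ, ∃ b : Cfsg.GSp m F₀, conjS (ι' b) = c := by
    rintro c ⟨hi, hc'⟩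
    obtain ⟨t, rfl⟩ := (inn_iff c).1 hi
    obtain ⟨u, b, hb⟩ := (hcen _).1 hc'
    exact ⟨b, by rw [hb, map_mul, conjS_scal, one_mul]⟩
  have hm1 : 1 ≤ m := by omega
  refine ⟨K, le_inf hKinn hKx, hKn, ?_, fun hdvd => ?_, fun y hy => psp_rigid hm (r := r) hfix fun v a => ?_⟩
  · rintro c hc' _ ⟨s, rfl⟩
    obtain ⟨b, rfl⟩ := hsub c hc'
    have hmu : mu (b * spToGSp s * b⁻¹) = 1 := by
      show muHom hm1 (b * spToGSp s * b⁻¹) = 1
      rw [map_mul, map_mul, map_inv, show muHom hm1 (spToGSp s) = 1 from mu_spToGSp hm1 s, mul_one, mul_inv_cancel]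
    obtain ⟨s', hs'⟩ := exists_sp_of_mu hm1 hmu
    refine ⟨s', ?_⟩
    show conjS (ι' (spToGSp s')) = conjS (ι' b) * conjS (ι' (spToGSp s)) * (conjS (ι' b))⁻¹
    rw [← hs']
    simp [map_mul, map_inv]
  · rcases eq_or_ne p 2 with rfl | hp
    · have h20 : (2 : F₀) ≠ 0 := fun h => by
        have h2 : (2 : F) = 0 := by rw [← map_ofNat e₀ 2, h, map_zero]
        have hd : r ∣ 2 := (CharP.cast_eq_zero_iff F r 2).1 (by exact_mod_cast h2)
        exact hpr ((Nat.prime_dvd_prime_iff_eq Fact.out Nat.prime_two).1 hd).symm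
      let o : Fin m := ⟨0, by omega⟩
      let l : Fin m := ⟨1, by omega⟩
      let dv : Fin m → F₀ := fun i => if i = o then -1 else 1
      have hdd : ∀ i, dv i * dv i = 1 := fun i => by by_cases h : i = o <;> simp [dv, h]
      have hmem : Matrix.diagonal (Sum.elim dv dv) ∈ Matrix.symplecticGroup (Fin m) F₀ := by
        rw [mem_sp_iff, diagonal_transpose]
        ext i j
        rcases i with i | i <;> rcases j with j | j <;> by_cases hij : i = j <;>
          simp [Matrix.J, Matrix.one_apply, hij, hdd, mul_comm]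
      let s0 : Matrix.symplecticGroup (Fin m) F₀ := ⟨_, hmem⟩
      have hsq : s0 * s0 = 1 := Subtype.ext (by
        show Matrix.diagonal _ * Matrix.diagonal _ = (1 : Matrix _ _ F₀)
        rw [diagonal_mul_diagonal, ← diagonal_one]
        congr 1
        funext i; rcases i with i | i <;> exact hdd i)
      have hne : φ0 s0 ≠ 1 := fun h => by
        have h1 : s0 ∈ Subgroup.center (Matrix.symplecticGroup (Fin m) F₀) := hker ▸ MonoidHom.mem_ker.2 h
        obtain ⟨c, -, hc⟩ := center_scalar (F := F₀) (m := m) hm1 h1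
        have a1 := congrFun (hc (Pi.single (Sum.inl o) 1)) (Sum.inl o)
        have a2 := congrFun (hc (Pi.single (Sum.inl l) 1)) (Sum.inl l)
        simp [s0, dv, o, l] at a1 a2
        exact h20 (by linear_combination a2 - a1)
      have hord : orderOf (φ0 s0) = 2 := orderOf_eq_prime (by rw [pow_two, ← map_mul, hsq, map_one]) hne
      rw [← hord, ← Subgroup.orderOf_mk (φ0 s0) (show φ0 s0 ∈ K from ⟨s0, rfl⟩)]
      exact orderOf_dvd_natCard _
    · obtain ⟨⟨c, hc'⟩, hco⟩ := exists_prime_orderOf_dvd_card' p hdvd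
      rw [Subgroup.orderOf_mk] at hco
      obtain ⟨b, rfl⟩ := hsub c hc'
      have h2b : conjS (ι' b) ^ 2 ∈ K := by
        obtain ⟨s', hs'⟩ := exists_sp_of_mu hm1 (g := scal (mu b)⁻¹ * (b * b)) (by
          rw [mu_mul hm1, mu_mul hm1, mu_scal hm1, ← pow_two, ← mul_pow, inv_mul_cancel, one_pow])
        refine ⟨s', ?_⟩
        show conjS (ι' (spToGSp s')) = _
        have e : ι' (scal (mu b)⁻¹) = scal (Units.map e₀.toMonoidHom (mu b)⁻¹) := gs_ext (by
          rw [hι', coe_scal, coe_scal]; ext i j; simp [Matrix.one_apply, apply_ite e₀])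
        rw [← hs', map_mul, e, map_mul, conjS_scal, one_mul, pow_two, map_mul, map_mul]
      have hcop : conjS (ι' b) ∈ K := by
        obtain ⟨j, hj⟩ := (Fact.out : p.Prime).odd_of_ne_two hp
        have h3 : conjS (ι' b) = (conjS (ι' b) ^ 2) ^ (j + 1) := by
          rw [← pow_mul, show 2 * (j + 1) = p + 1 by omega, pow_succ, ← hco, pow_orderOf_eq_one, one_mul]
        rw [h3]; exact pow_mem h2b _
      rw [← hco, ← Subgroup.orderOf_mk (conjS (ι' b)) hcop]
      exact orderOf_dvd_natCard _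
  · obtain ⟨t, ht, hts⟩ := hsp (tv v a)
    have et : t = tv (⇑e₀ ∘ v) (e₀ a) := by
      refine Subtype.ext ?_
      rw [hts]
      have hlin : Matrix.mulVecLin (((tv v a : Matrix.symplecticGroup (Fin m) F₀) : Matrix _ _ F₀).map e₀) =
          Matrix.mulVecLin ((tv (⇑e₀ ∘ v) (e₀ a) : Spm) : Big) := by
        refine (Pi.basisFun F (Fin m ⊕ Fin m)).ext fun i => ?_
        have e1 : (Pi.basisFun F (Fin m ⊕ Fin m)) i = ⇑e₀ ∘ (Pi.single i 1 : Fin m ⊕ Fin m → F₀) := by
          funext k; by_cases h : k = i <;> simp [h]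
        rw [e1, Matrix.mulVecLin_apply, Matrix.mulVecLin_apply, tv_mulVec]
        funext k
        rw [← RingHom.map_mulVec, tv_mulVec]
        have hB : ∀ u w : Fin m ⊕ Fin m → F₀, e₀ (sympBilin m F₀ u w) = Bf (fun i => e₀ (u i)) fun i => e₀ (w i) := by
          intro u w
          simp [sympBilin_eq_sum, map_sum]
        simp [hB, Function.comp_def]
      exact mat_ext fun w => LinearMap.congr_fun hlin w
    have hk : MulAut.conj (π' (tv (⇑e₀ ∘ v) (e₀ a))) ∈ K := ⟨tv v a, by rw [← et, ← conjS_spToGSp, ← ht]; rfl⟩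
    have h1 := Subgroup.mem_centralizer_iff.1 hy _ hk
    refine hinj ?_
    rw [← mul_right_cancel_iff (a := y), h1]
    exact MulEquiv.ext fun z => by simp [MulAut.mul_apply]

theorem psp_balance (hm : 2 ≤ m) (hs : m = 2 → 3 ≤ Nat.card F) {r : ℕ} [Fact r.Prime] [CharP F r]
    (A : Subgroup (MulAut Pm)) (hinn : ∀ k : Pm, MulAut.conj k ∈ A) {p : ℕ} [Fact p.Prime] (hpr : p ≠ r)
    (x : MulAut Pm) (hord : orderOf x = p) (hnot : ¬ Cfsg.IsInnerDiagonalAutPSp x) :
    Cfsg.pPrimeCore p ↥(A ⊓ Subgroup.centralizer {x}) ≠ ⊥ ↔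
      (Cfsg.IsFieldAutClassPSp x ∧
        Nat.Coprime p (Nat.card ↥(MonoidHom.eqLocus x.toMonoidHom (MonoidHom.id Pm)))) := by
  classical
  obtain ⟨g, τ, rfl⟩ := psp_decomp hm (r := r) x fun hr _ => Or.inl (by
    rw [hord]; exact (Fact.out : p.Prime).odd_of_ne_two (hr ▸ hpr))
  have hτ1 : τ ≠ 1 := fun h => by
    refine hnot ⟨(g : GLB), g.2, inner_iff.2 ?_⟩
    rw [h, map_one, mul_one]
  have hpow : ((conjS g : MulAut Pm) * fieldS τ) ^ p = 1 := hord ▸ pow_orderOf_eq_one _
  have hτp : τ ^ p = 1 := by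
    rw [Known.AutPSLn.mul_twist_pow conjS (gspAut τ) (fieldS τ) (fieldS_conjS τ), ← map_pow] at hpow
    exact (conjS_fieldS_eq_one hm hpow).2
  have hφp : (fieldS τ : MulAut Pm) ^ p = 1 := by rw [← map_pow, hτp, map_one]
  obtain ⟨h, hh⟩ := field_case hm (σ := τ) hτ1 (Fact.out : p.Prime) hφp hpow
  have hfield : Cfsg.IsFieldAutClassPSp ((conjS g : MulAut Pm) * fieldS τ) := by
    refine ⟨(conjS h)⁻¹, τ, hτ1, fun s s' e => ?_⟩
    rw [hh, show (conjS h)⁻¹ * ((conjS h : MulAut Pm) * fieldS τ * (conjS h)⁻¹) * ((conjS h)⁻¹)⁻¹ = fieldS τ by group]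
    show fieldS τ (π' s) = π' s'
    rw [fieldS_apply]
    exact congrArg π' (Subtype.ext (by rw [coe_fieldSp, e]))
  rw [and_iff_right hfield]
  refine balance (conj_inj_psp hm hs) hinn hord ?_
  rw [hh]
  let L : Subfield F := τ.toRingHom.eqLocusField (RingHom.id F)
  haveI : Fintype L := Fintype.ofFinite L
  exact (psp_std hm hs (r := r) (e₀ := L.subtype) (σ := τ) (fun z =>
    ⟨fun hz => ⟨⟨z, hz⟩, rfl⟩, by rintro ⟨z, rfl⟩; exact z.2⟩) hpr).conj _

end Cfsg.Lib.Balance
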